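import Mathlib
import Cfsg.Prelude.Def_Local

set_option autoImplicit false
set_option linter.style.haveILetI false

namespace Cfsg.Agent.Lib.Helper42

/-- A normal subgroup of a quasisimple group is central or the whole group. -/
theorem quasisimple_normal_le_center_or_eq_top {H : Type*} [Group H] (hq : Cfsg.IsQuasisimple H)
    (N : Subgroup H) [hN : N.Normal] : N ≤ Subgroup.center H ∨ N = ⊤ := by
  obtain ⟨hperf, hsimp⟩ := hq
  have hmapN : (N.map (QuotientGroup.mk' (Subgroup.center H))).Normal :=
    Subgroup.Normal.map hN _ (QuotientGroup.mk'_surjective _)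
  rcases hmapN.eq_bot_or_eq_top with h | h
  · left
    rw [Subgroup.map_eq_bot_iff, QuotientGroup.ker_mk'] at h
    exact h
  · right
    have h1 : N ⊔ Subgroup.center H = ⊤ := by
      have := congrArg (Subgroup.comap (QuotientGroup.mk' (Subgroup.center H))) h
      rw [Subgroup.comap_map_eq, QuotientGroup.ker_mk', Subgroup.comap_top] at this
      exact this
    have h2 := Subgroup.Normal.commutator_le_of_self_sup_commutative_eq_top h1
      (inferInstance : IsMulCommutative (Subgroup.center H))
    rw [hperf.commutator_eq_top] at h2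
    exact top_le_iff.mp h2

/-- A quasisimple group is nontrivial. -/
theorem quasisimple_nontrivial {H : Type*} [Group H] (hq : Cfsg.IsQuasisimple H) : Nontrivial H := by
  obtain ⟨-, hsimp⟩ := hq
  by_contra hn
  rw [not_nontrivial_iff_subsingleton] at hn
  have : Subsingleton (H ⧸ Subgroup.center H) := inferInstance
  exact not_subsingleton _ this

/-- Key step: a perfect subnormal subgroup `K` and a normal subgroup `N` with `[K, N ⊓ K] = 1`
commute. -/
theorem commutator_eq_bot_of_subnormal_perfect {G : Type*} [Group G] (K N : Subgroup G)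
    [hN : N.Normal] (hperf : ⁅K, K⁆ = K) (L : Subgroup G) (hL : L.IsSubnormal) :
    K ≤ L → ⁅K, N ⊓ L⁆ = ⊥ → ⁅K, N⁆ = ⊥ := by
  induction hL with
  | top =>
    intro _ h
    rwa [inf_top_eq] at h
  | step L L' hle hsub hnorm ih =>
    intro hKL h
    apply ih (hKL.trans hle)
    -- [N ⊓ L', K] ≤ N ⊓ L
    have h1 : ⁅N ⊓ L', K⁆ ≤ N ⊓ L := by
      apply le_inf
      · exact (Subgroup.commutator_mono inf_le_left le_rfl).trans (Subgroup.commutator_le_left _ _)
      · rw [Subgroup.normal_subgroupOf_iff_le_normalizer hle] at hnorm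
        have h2 : ⁅L', L⁆ ≤ L := Subgroup.le_normalizer_iff_commutator_le_right.mp hnorm
        exact (Subgroup.commutator_mono inf_le_right hKL).trans h2
    have h3 : ⁅⁅N ⊓ L', K⁆, K⁆ = ⊥ := by
      rw [eq_bot_iff]
      calc ⁅⁅N ⊓ L', K⁆, K⁆ ≤ ⁅N ⊓ L, K⁆ := Subgroup.commutator_mono h1 le_rfl
        _ = ⁅K, N ⊓ L⁆ := Subgroup.commutator_comm _ _
        _ = ⊥ := h
    have h4 : ⁅⁅K, N ⊓ L'⁆, K⁆ = ⊥ := by
      rw [Subgroup.commutator_comm K (N ⊓ L')]; exact h3
    have h5 := Subgroup.commutator_commutator_eq_bot_of_rotate h4 h3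
    rwa [hperf] at h5

/-- A component and a normal subgroup: either the component lies in the normal subgroup or
they commute. -/
theorem component_le_or_commutator_eq_bot {G : Type*} [Group G] (K N : Subgroup G)
    (hK : Cfsg.IsComponent K) [hN : N.Normal] : K ≤ N ∨ ⁅K, N⁆ = ⊥ := by
  obtain ⟨hsub, hq⟩ := hK
  haveI : (N.subgroupOf K).Normal := hN.subgroupOf K
  rcases quasisimple_normal_le_center_or_eq_top hq (N.subgroupOf K) with h | h
  · right
    have hperf : ⁅K, K⁆ = K := Subgroup.isPerfect_iff.mp hq.1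
    apply commutator_eq_bot_of_subnormal_perfect K N hperf K hsub le_rfl
    rw [Subgroup.commutator_eq_bot_iff_le_centralizer]
    intro k hk
    rw [Subgroup.mem_centralizer_iff]
    intro z hz
    have hzK : z ∈ K := hz.2
    have hzc := h (show (⟨z, hzK⟩ : K) ∈ N.subgroupOf K from by
      rw [Subgroup.mem_subgroupOf]; exact hz.1)
    rw [Subgroup.mem_center_iff] at hzc
    have := hzc ⟨k, hk⟩
    exact (congrArg Subtype.val this).symm
  · left
    exact Subgroup.subgroupOf_eq_top.mp h

end Cfsg.Agent.Lib.Helper42
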