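import Cfsg.Agent.Lib.Helper42.PPrimeCore
import Cfsg.Agent.Lib.Helper42.Components
import Cfsg.Prelude.Def_Local

set_option autoImplicit false
set_option linter.style.haveILetI false
open Cfsg

namespace Cfsg.Agent.Lib.Helper42

/-- `O_{p'}(L)` viewed in the ambient group. -/
def pPrimeCoreOf {A : Type*} [Group A] (p : ℕ) (L : Subgroup A) : Subgroup A :=
  (Cfsg.pPrimeCore p ↥L).map L.subtype

theorem pPrimeCoreOf_le {A : Type*} [Group A] (p : ℕ) (L : Subgroup A) : pPrimeCoreOf p L ≤ L :=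
  Subgroup.map_subtype_le _

theorem card_pPrimeCoreOf {A : Type*} [Group A] (p : ℕ) (L : Subgroup A) :
    Nat.card (pPrimeCoreOf p L) = Nat.card (Cfsg.pPrimeCore p ↥L) :=
  Subgroup.card_map_of_injective (Subgroup.subtype_injective _)

/-- a subgroup `M ≤ L`, normalized by `L`, of order prime to `p`, lies in `O_{p'}(L)` -/
theorem le_pPrimeCoreOf {A : Type*} [Group A] (p : ℕ) (L M : Subgroup A) (hML : M ≤ L)
    (hnorm : ∀ g ∈ L, ∀ m ∈ M, g * m * g⁻¹ ∈ M) (hcard : (Nat.card M).Coprime p) :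
    M ≤ pPrimeCoreOf p L := by
  haveI : (M.subgroupOf L).Normal := ⟨fun m hm g => by
    rw [Subgroup.mem_subgroupOf] at hm ⊢
    exact hnorm g g.2 m hm⟩
  have hc : (Nat.card (M.subgroupOf L)).Coprime p := by
    rw [Nat.card_congr (Subgroup.subgroupOfEquivOfLe hML).toEquiv]; exact hcard
  have := le_pPrimeCore (M.subgroupOf L) hc
  intro m hm
  exact ⟨⟨m, hML hm⟩, this (by rw [Subgroup.mem_subgroupOf]; exact hm), rfl⟩

theorem pPrimeCoreOf_conj_mem {A : Type*} [Group A] [Finite A] (p : ℕ) (L : Subgroup A) (g : A)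
    (hg : g ∈ Subgroup.normalizer (L : Set A)) : ∀ m ∈ pPrimeCoreOf p L, g * m * g⁻¹ ∈ pPrimeCoreOf p L := by
  haveI := pPrimeCore_normal p L
  -- W = g O(L) g⁻¹
  set W : Subgroup A := (pPrimeCoreOf p L).map (MulAut.conj g).toMonoidHom with hW
  have hWL : W ≤ L := by
    rintro _ ⟨m, hm, rfl⟩
    exact (Subgroup.mem_normalizer_iff.mp hg m).mp (pPrimeCoreOf_le p L hm)
  have hWc : (Nat.card W).Coprime p := by
    rw [hW, Subgroup.card_map_of_injective (MulAut.conj g).injective, card_pPrimeCoreOf]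
    exact pPrimeCore_card_coprime p L
  have hWn : ∀ l ∈ L, ∀ w ∈ W, l * w * l⁻¹ ∈ W := by
    rintro l hl _ ⟨m, hm, rfl⟩
    have hl' : g⁻¹ * l * g ∈ L := by
      have := (Subgroup.mem_normalizer_iff.mp (Subgroup.inv_mem _ hg) l).mp hl
      simpa using this
    obtain ⟨m', hm', rfl⟩ := hm
    refine ⟨g⁻¹ * l * g * m' * (g⁻¹ * l * g)⁻¹, ?_, ?_⟩
    · refine ⟨⟨g⁻¹ * l * g, hl'⟩ * m' * ⟨g⁻¹ * l * g, hl'⟩⁻¹, ?_, by simp⟩
      exact (pPrimeCore_normal p L).conj_mem m' hm' _
    · simp [MulAut.conj_apply, mul_assoc]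
  intro m hm
  exact le_pPrimeCoreOf p L W hWL hWn hWc ⟨m, hm, rfl⟩

/-- `O_{p'}` of a subnormal subgroup lies in `O_{p'}` of the group. -/
theorem pPrimeCoreOf_le_of_isSubnormal {A : Type*} [Group A] [Finite A] (p : ℕ) (L : Subgroup A)
    (hL : L.IsSubnormal) : pPrimeCoreOf p L ≤ Cfsg.pPrimeCore p A := by
  induction hL with
  | top =>
    have hn : (pPrimeCoreOf p (⊤ : Subgroup A)).Normal :=
      ⟨fun m hm g => pPrimeCoreOf_conj_mem p ⊤ g (by rw [Subgroup.normalizer_eq_top]; trivial) m hm⟩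
    apply le_pPrimeCore _
    rw [card_pPrimeCoreOf]
    exact pPrimeCore_card_coprime p _
  | step L L' hle hsub hnorm ih =>
    refine le_trans ?_ ih
    rw [Subgroup.normal_subgroupOf_iff_le_normalizer hle] at hnorm
    apply le_pPrimeCoreOf p L' _ ((pPrimeCoreOf_le p L).trans hle)
    · intro g hg m hm
      exact pPrimeCoreOf_conj_mem p L g (hnorm hg) m hm
    · rw [card_pPrimeCoreOf]
      exact pPrimeCore_card_coprime p _

/-- A subnormal subgroup of order prime to `p` lies in `O_{p'}`. -/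
theorem le_pPrimeCore_of_isSubnormal {A : Type*} [Group A] [Finite A] (p : ℕ) (H : Subgroup A)
    (hH : H.IsSubnormal) (hc : (Nat.card H).Coprime p) : H ≤ Cfsg.pPrimeCore p A := by
  refine le_trans ?_ (pPrimeCoreOf_le_of_isSubnormal p H hH)
  have : Cfsg.pPrimeCore p ↥H = ⊤ := by
    rw [eq_top_iff]
    apply le_pPrimeCore
    rw [Subgroup.card_top]; exact hc
  unfold pPrimeCoreOf
  rw [this, ← MonoidHom.range_eq_map, Subgroup.range_subtype]

/-- preimage of a `p'`-subgroup under a hom with `p'`-kernel is a `p'`-group -/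
theorem card_comap_coprime {A B : Type*} [Group A] [Group B] [Finite A] (p : ℕ) [Fact p.Prime]
    (f : A →* B) (hker : (Nat.card f.ker).Coprime p) (H : Subgroup B) (hH : (Nat.card H).Coprime p) :
    (Nat.card (H.comap f)).Coprime p := by
  rw [Nat.coprime_comm, Nat.Prime.coprime_iff_not_dvd Fact.out]
  intro hdvd
  obtain ⟨x, hx⟩ := exists_prime_orderOf_dvd_card' p hdvd
  have hxH : f (x : A) ∈ H := x.2
  have h1 : orderOf (f (x : A)) ∣ p := by
    rw [← hx, ← Subgroup.orderOf_coe]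
    exact orderOf_map_dvd f (x : A)
  have h2 : orderOf (f (x : A)) ∣ Nat.card H := by
    have := orderOf_dvd_natCard (⟨f (x : A), hxH⟩ : H)
    rwa [Subgroup.orderOf_mk] at this
  have h3 : orderOf (f (x : A)) = 1 := by
    have := Nat.dvd_gcd h2 h1
    rw [hH] at this
    exact Nat.dvd_one.mp this
  have hxk : (x : A) ∈ f.ker := by
    rw [MonoidHom.mem_ker]; exact orderOf_eq_one_iff.mp h3
  have h4 : orderOf (x : A) ∣ Nat.card f.ker := by
    have := orderOf_dvd_natCard (⟨(x : A), hxk⟩ : f.ker)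
    rwa [Subgroup.orderOf_mk] at this
  rw [Subgroup.orderOf_coe, hx] at h4
  exact (Nat.Prime.coprime_iff_not_dvd Fact.out).mp hker.symm h4

theorem pPrimeCore_quotient_eq_bot (p : ℕ) [Fact p.Prime] (A : Type*) [Group A] [Finite A] :
    haveI := pPrimeCore_normal p A
    Cfsg.pPrimeCore p (A ⧸ Cfsg.pPrimeCore p A) = ⊥ := by
  haveI := pPrimeCore_normal p A
  haveI := pPrimeCore_normal p (A ⧸ Cfsg.pPrimeCore p A)
  set M := (Cfsg.pPrimeCore p (A ⧸ Cfsg.pPrimeCore p A)).comap (QuotientGroup.mk' (Cfsg.pPrimeCore p A)) with hM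
  have hMc : (Nat.card M).Coprime p := by
    apply card_comap_coprime
    · rw [QuotientGroup.ker_mk']; exact pPrimeCore_card_coprime p A
    · exact pPrimeCore_card_coprime p _
  have hMle : M ≤ Cfsg.pPrimeCore p A := le_pPrimeCore M hMc
  have h1 : M.map (QuotientGroup.mk' (Cfsg.pPrimeCore p A)) = Cfsg.pPrimeCore p (A ⧸ Cfsg.pPrimeCore p A) :=
    Subgroup.map_comap_eq_self_of_surjective (QuotientGroup.mk'_surjective _) _
  rw [← h1, eq_bot_iff]
  refine (Subgroup.map_mono hMle).trans ?_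
  rw [le_bot_iff, Subgroup.map_eq_bot_iff, QuotientGroup.ker_mk']

/-- A surjection with `p'`-kernel onto a group with trivial `O_{p'}` has kernel `O_{p'}`. -/
theorem ker_eq_pPrimeCore {A B : Type*} [Group A] [Group B] [Finite A] (p : ℕ) [Fact p.Prime]
    (f : A →* B) (hf : Function.Surjective f) (hker : (Nat.card f.ker).Coprime p)
    (hB : Cfsg.pPrimeCore p B = ⊥) : f.ker = Cfsg.pPrimeCore p A := by
  haveI := pPrimeCore_normal p A
  apply le_antisymm (le_pPrimeCore f.ker hker)
  have hn : ((Cfsg.pPrimeCore p A).map f).Normal := Subgroup.Normal.map inferInstance f hf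
  have hc : (Nat.card ((Cfsg.pPrimeCore p A).map f)).Coprime p :=
    Nat.Coprime.coprime_dvd_left (Subgroup.card_map_dvd _ f) (pPrimeCore_card_coprime p A)
  have := le_pPrimeCore _ hc
  rw [hB, le_bot_iff, Subgroup.map_eq_bot_iff] at this
  exact this

/-- quasisimplicity is invariant under isomorphism -/
theorem isQuasisimple_of_mulEquiv {A B : Type*} [Group A] [Group B] (e : A ≃* B)
    (hB : Cfsg.IsQuasisimple B) : Cfsg.IsQuasisimple A := by
  obtain ⟨hperf, hsimp⟩ := hB
  have hperfA : Group.IsPerfect A :=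
    Group.IsPerfect.ofSurjective (f := e.symm.toMonoidHom) e.symm.surjective
  refine ⟨hperfA, ?_⟩
  set g : A →* B ⧸ Subgroup.center B := (QuotientGroup.mk' _).comp e.toMonoidHom with hg
  have hgs : Function.Surjective g := (QuotientGroup.mk'_surjective _).comp e.surjective
  have hker : g.ker = Subgroup.center A := by
    ext a
    rw [MonoidHom.mem_ker]
    show (QuotientGroup.mk' _) (e a) = 1 ↔ _
    rw [QuotientGroup.mk'_apply, QuotientGroup.eq_one_iff, Subgroup.mem_center_iff,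
      Subgroup.mem_center_iff]
    constructor
    · intro h b
      apply e.injective
      rw [map_mul, map_mul]
      exact h (e b)
    · intro h b
      obtain ⟨a', rfl⟩ := e.surjective b
      rw [← map_mul, ← map_mul, h a']
  have e1 : A ⧸ g.ker ≃* _ := QuotientGroup.quotientKerEquivOfSurjective g hgs
  have e2 : A ⧸ Subgroup.center A ≃* A ⧸ g.ker := QuotientGroup.quotientMulEquivOfEq hker.symm
  exact (e2.trans e1).isSimpleGroup

/-- In a finite group whose quotient by `O_{p'}` is quasisimple, there is a `p`-component covering the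
quotient. -/
theorem exists_pComponent_of_quasisimple_quotient {Y : Type*} [Group Y] [Finite Y] (p : ℕ)
    [hn : (Cfsg.pPrimeCore p Y).Normal] (hq : Cfsg.IsQuasisimple (Y ⧸ Cfsg.pPrimeCore p Y)) :
    ∃ J : Subgroup Y, Cfsg.IsPComponent p J ∧ J ⊔ Cfsg.pPrimeCore p Y = ⊤ := by
  -- minimal subnormal subgroup with full image
  let s : Set (Subgroup Y) := {H | H.IsSubnormal ∧ H.map (QuotientGroup.mk' (Cfsg.pPrimeCore p Y)) = ⊤}
  have hs : s.Nonempty := ⟨⊤, Subgroup.IsSubnormal.top, by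
    rw [← MonoidHom.range_eq_map, MonoidHom.range_eq_top]
    exact QuotientGroup.mk'_surjective _⟩
  obtain ⟨J, hJs, hJmin⟩ := Set.Finite.exists_minimal (Set.toFinite s) hs
  refine ⟨J, ⟨hJs.1, ?_, ?_⟩, ?_⟩
  · rw [hJs.2]
    exact ⟨Subgroup.IsSubnormal.top, isQuasisimple_of_mulEquiv Subgroup.topEquiv hq⟩
  · intro H hH hHJ hmap
    have hHs : H ∈ s := ⟨hH, hmap.trans hJs.2⟩
    exact le_antisymm hHJ (hJmin hHs hHJ)
  · have := congrArg (Subgroup.comap (QuotientGroup.mk' (Cfsg.pPrimeCore p Y))) hJs.2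
    rw [Subgroup.comap_map_eq, QuotientGroup.ker_mk', Subgroup.comap_top] at this
    exact this

/-- Coprime action on a coset: an element `y` with `y ^ p = 1` stabilizing (by conjugation) the coset
`k O` of a `p'`-subgroup `O` centralizes some element of the coset. -/
theorem exists_fixed_in_coset {X : Type*} [Group X] [Finite X] (p : ℕ) [Fact p.Prime] (y : X)
    (hy : y ^ p = 1) (O : Subgroup X) (hO : (Nat.card O).Coprime p) (k : X)
    (hk : ∀ o ∈ O, k⁻¹ * y * k * o * y⁻¹ ∈ O) : ∃ o ∈ O, y * (k * o) * y⁻¹ = k * o := by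
  classical
  let f : Function.End O := fun o => ⟨k⁻¹ * y * k * o * y⁻¹, hk o o.2⟩
  have hiter : ∀ (n : ℕ) (o : O), (((f ^ n) o : O) : X) = k⁻¹ * y ^ n * k * o * (y ^ n)⁻¹ := by
    intro n
    induction n with
    | zero => 
      intro o
      show ((o : O) : X) = _
      simp
    | succ n ih =>
      intro o
      rw [pow_succ']
      show k⁻¹ * y * k * ((f ^ n) o : O) * y⁻¹ = _
      rw [ih o, pow_succ']
      group
  have hfp : f ^ p ^ 1 = 1 := by
    rw [pow_one]
    funext o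
    apply Subtype.ext
    rw [hiter p o, hy]
    show _ = ((o : O) : X)
    simp
  haveI : Fintype O := Fintype.ofFinite O
  have hmod := Equiv.Perm.card_fixedPoints_modEq (p := p) (n := 1) hfp
  have hne : Fintype.card (Function.fixedPoints f) ≠ 0 := by
    intro h0
    rw [h0, Nat.modEq_zero_iff_dvd, ← Nat.card_eq_fintype_card] at hmod
    exact (Nat.Prime.coprime_iff_not_dvd Fact.out).mp hO.symm hmod
  obtain ⟨⟨o, ho⟩⟩ := Fintype.card_pos_iff.mp (Nat.pos_of_ne_zero hne)
  refine ⟨o, o.2, ?_⟩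
  have := congrArg Subtype.val ho
  change k⁻¹ * y * k * (o : X) * y⁻¹ = o at this
  calc y * (k * o) * y⁻¹ = k * (k⁻¹ * y * k * (o : X) * y⁻¹) := by group
    _ = k * o := by rw [this]

end Cfsg.Agent.Lib.Helper42
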