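import Cfsg.Agent.Lib.Helper11.BG144Defs
import Cfsg.Agent.Lib.Helper96.BG14Q

/-!
# K-144-Q (keystone 137401; S1374 / S1375 / S1433 / S1377 pack, architect helper11)

Consequence (Q) of the σ-partition in the form `HQ G`: wraps
`Cfsg.Agent.Lib.Helper96.BG14.complIn_inf_of_normalizer_le` (helper96, keystone 135303) and adds the
remaining clauses (`N_σ` nilpotent by S1417(a), `N_σ ⊓ M = ⊥`, `N` not conjugate to `M` by S1424).
-/

set_option autoImplicit false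

namespace Cfsg.Agent.Lib.Helper42.BG144

open Cfsg Subgroup Cfsg.Agent.Lib.Helper11.BG144

variable {G : Type*} [Group G] [Finite G]

/-- K-144-Q (137401).  Consequence (Q) of the σ-partition. -/
theorem sigma_partner (hG : IsMinSimpleOddOrder G) : HQ G := by
  classical
  intro M hM q hq hqM Y hYq hY1 hYM N hN hne hNY
  have : Fact q.Prime := ⟨hq⟩
  obtain ⟨hcompl, htau2⟩ :=
    Cfsg.Agent.Lib.Helper96.BG14.complIn_inf_of_normalizer_le hG hM hN hne hqM hYq hY1 hYM hNY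
  -- `N_σ ⊓ M = ⊥`
  have hbot : sigmaCore N ⊓ M = ⊥ := by
    have h1 : (M ⊓ N) ⊓ sigmaCore N = ⊥ := hcompl.2.2.1
    have h2 : sigmaCore N ≤ N := hcompl.2.1
    rw [eq_bot_iff]
    intro x hx
    rw [← h1]
    exact ⟨⟨hx.2, h2 hx.1⟩, hx.1⟩
  -- `N_σ` nilpotent: S1417(a)
  obtain ⟨A, hAN, hAel, hAc⟩ := Cfsg.Agent.Lib.Helper13.BG12.exists_elemAb_sq_of_tau2 htau2
  have hnil : Group.IsNilpotent (sigmaCore N) :=
    (Cfsg.Agent.S1417.result hG N hN q htau2 A ⟨hAN, hAel, hAc⟩).1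
  -- `N` is not conjugate to `M`: S1424
  have hYN : Y ≤ N := Subgroup.le_normalizer.trans hNY
  have hYI : Y ≤ M ⊓ N := le_inf hYM hYN
  obtain ⟨S, hS⟩ :=
    (hYq.comap_subtype : IsPGroup q (Y.subgroupOf (M ⊓ N))).exists_le_sylow
  have hYS : Y ≤ (S : Subgroup ↥(M ⊓ N)).map (M ⊓ N).subtype := by
    intro y hy
    exact ⟨⟨y, hYI hy⟩, hS (Subgroup.mem_subgroupOf.mpr hy), rfl⟩
  obtain ⟨hnc, -, -⟩ :=
    Cfsg.Agent.S1424.result hG M hM q hqM Y hYq hY1 hYM N hN hne hNY S hYS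
  exact ⟨htau2, hnil, hbot, hcompl, hnc⟩

end Cfsg.Agent.Lib.Helper42.BG144
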