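import Mathlib
import Cfsg.Agent.Lib.Helper54.BG134A3a
import Cfsg.Agent.Lib.Helper13.BG12A

/-!
# S1351 glue: a cyclic Hall `κ(M)`-subgroup, modulo `κ(M) ⊆ τ₁(M)` (BG 14.7(c))
-/

set_option autoImplicit false
set_option linter.unusedSectionVars false
set_option linter.unusedVariables false

namespace Cfsg.Agent.Lib.Helper42.BG147

open Cfsg

variable {G : Type*} [Group G] [Finite G]

/-- BG 14.7(c) as a hypothesis: the primes of `κ(M)` lie in `τ₁(M)` as soon as `κ(M)` is nonempty. -/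
def HKappaTau1 (G : Type*) [Group G] : Prop :=
  ∀ (M K : Subgroup G), IsCoatom M → IsPiHallOf (kappa M) K M → K ≠ ⊥ →
    ∀ p : ℕ, p ∈ kappa M → p ∈ tau1 M

/-- a Hall `κ(M)`-subgroup exists -/
theorem exists_hall_kappa (hG : IsMinSimpleOddOrder G) (M : Subgroup G) (hM : IsCoatom M) :
    ∃ K : Subgroup G, IsPiHallOf (kappa M) K M := by
  have hsolv : Group.IsSolvable ↥M := hG.2.2.2 M hM.1
  obtain ⟨L, hL, -⟩ := Cfsg.Agent.Lib.Helper54.BG134.exists_isPiHallOf_ge hsolv (kappa M)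
    (K := ⊥) bot_le (by
      intro p hp hpd
      rw [Subgroup.card_bot] at hpd
      exact absurd (Nat.dvd_one.mp hpd) hp.one_lt.ne')
  exact ⟨L, hL⟩

/-- a Hall `κ(M)`-subgroup is cyclic when `κ(M) ⊆ τ₁(M)` -/
theorem isCyclic_of_kappa_subset_tau1 (hG : IsMinSimpleOddOrder G) (M : Subgroup G) (hM : IsCoatom M)
    (K : Subgroup G) (hK : IsPiHallOf (kappa M) K M) (h : ∀ p : ℕ, p ∈ kappa M → p ∈ tau1 M) :
    IsCyclic K := by
  have hsolv : Group.IsSolvable ↥M := hG.2.2.2 M hM.1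
  obtain ⟨E₁, hE₁, hKE₁⟩ := Cfsg.Agent.Lib.Helper54.BG134.exists_isPiHallOf_ge hsolv (tau1 M)
    hK.1 (fun p hp hpd => h p (hK.2.1 p hp hpd))
  have : IsCyclic ↥E₁ := Cfsg.Agent.Lib.Helper13.BG12.tau1_hall_cyclic hG le_rfl hE₁
  exact Subgroup.isCyclic_of_le hKE₁

/-- **S1351 modulo BG 14.7(c).** -/
theorem s1351_of (hG : IsMinSimpleOddOrder G) (h147 : HKappaTau1 G) (M : Subgroup G) (hM : IsCoatom M) :
    (∃ K : Subgroup G, IsPiHallOf (kappa M) K M) ∧
      ∀ K : Subgroup G, IsPiHallOf (kappa M) K M → IsCyclic K := by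
  refine ⟨exists_hall_kappa hG M hM, ?_⟩
  intro K hK
  by_cases hK1 : K = ⊥
  · subst hK1
    exact isCyclic_of_subsingleton
  · exact isCyclic_of_kappa_subset_tau1 hG M hM K hK (h147 M K hM hK hK1)

end Cfsg.Agent.Lib.Helper42.BG147
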