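import Mathlib
import Cfsg.Agent.Lib.Helper75.FrattiniFaithful
import Cfsg.Agent.Lib.Helper03.ClassTwo
import Cfsg.Agent.Lib.Helper60.QuatSplit
import Cfsg.Agent.Lib.Helper59.QuaternionIso

/-!
# Metacyclic 2-groups with an automorphism of odd order (towards S1896)
-/

set_option autoImplicit false
set_option linter.style.haveILetI false
set_option linter.unusedSectionVars false

namespace Cfsg.Agent.Lib.Helper42.Meta2

open Cfsg.Agent.S4208 (rho rho_apply_mk)

/-- If `A` is normal and `A ⊔ B = ⊤` then the index of `A` divides the order of `B`. -/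
theorem index_dvd_card_of_sup_eq_top {Y : Type*} [Group Y] (A B : Subgroup Y) [A.Normal]
    (h : A ⊔ B = ⊤) : A.index ∣ Nat.card B := by
  have h1 := Subgroup.relIndex_sup_left (K := A) (H := B)
  rw [h, Subgroup.relIndex_top_right] at h1
  rw [h1]
  exact Subgroup.relIndex_dvd_card A B

/-- Two non-identity elements of a subgroup of order at most two are equal. -/
theorem eq_of_card_le_two {V : Type*} [Group V] [Finite V] (W : Subgroup V) (hW : Nat.card W ≤ 2)
    {c d : V} (hc : c ∈ W) (hd : d ∈ W) (hc1 : c ≠ 1) (hd1 : d ≠ 1) : c = d := by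
  by_contra hcd
  have hsub : ({1, c, d} : Set V) ⊆ (W : Set V) := by
    intro x hx
    simp only [Set.mem_insert_iff, Set.mem_singleton_iff] at hx
    rcases hx with rfl | rfl | rfl
    · exact one_mem W
    · exact hc
    · exact hd
  have h3 : ({1, c, d} : Set V).ncard = 3 :=
    Set.ncard_eq_three.mpr ⟨1, c, d, fun h => hc1 h.symm, fun h => hd1 h.symm, hcd, rfl⟩
  have h4 := Set.ncard_le_ncard hsub (Set.toFinite _)
  rw [h3, ← Nat.card_coe_set_eq] at h4
  have : Nat.card (W : Set V) = Nat.card W := rfl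
  omega

section

variable {X : Type*} [Group X] [Finite X]

/-- The Frattini quotient of a 2-generated 2-group has order at most 4. -/
theorem card_frattini_quotient_le (hX : IsPGroup 2 X) (a b : X)
    (hgen : Subgroup.zpowers a ⊔ Subgroup.zpowers b = ⊤) :
    Nat.card (X ⧸ frattini X) ≤ 4 := by
  haveI : Fact (Nat.Prime 2) := ⟨Nat.prime_two⟩
  letI : CommGroup (X ⧸ frattini X) :=
    { (inferInstance : Group (X ⧸ frattini X)) with
      mul_comm := Cfsg.Agent.Lib.Helper75.frattini_quotient_comm hX }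
  set A : Subgroup (X ⧸ frattini X) := Subgroup.zpowers (QuotientGroup.mk a) with hA
  set B : Subgroup (X ⧸ frattini X) := Subgroup.zpowers (QuotientGroup.mk b) with hB
  have hAB : A ⊔ B = ⊤ := by
    have h1 := congrArg (Subgroup.map (QuotientGroup.mk' (frattini X))) hgen
    rw [Subgroup.map_sup, MonoidHom.map_zpowers, MonoidHom.map_zpowers, ← MonoidHom.range_eq_map,
      MonoidHom.range_eq_top.mpr (QuotientGroup.mk'_surjective _)] at h1
    exact h1
  have hidx := index_dvd_card_of_sup_eq_top A B hAB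
  have hcA : Nat.card A ∣ 2 := by
    rw [hA, Nat.card_zpowers]
    exact orderOf_dvd_of_pow_eq_one (Cfsg.Agent.Lib.Helper75.frattini_quotient_pow hX _)
  have hcB : Nat.card B ∣ 2 := by
    rw [hB, Nat.card_zpowers]
    exact orderOf_dvd_of_pow_eq_one (Cfsg.Agent.Lib.Helper75.frattini_quotient_pow hX _)
  have h1 := A.card_mul_index
  have h2 : Nat.card A ≤ 2 := Nat.le_of_dvd (by norm_num) hcA
  have h3 : A.index ≤ 2 := Nat.le_of_dvd (by norm_num) (hidx.trans hcB)
  calc Nat.card (X ⧸ frattini X) = Nat.card A * A.index := h1.symm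
    _ ≤ 2 * 2 := Nat.mul_le_mul h2 h3
    _ = 4 := by norm_num

/-- **Property (T)**: an automorphism `α ≠ 1` of odd order of a 2-generated 2-group acts
nontrivially modulo every proper subgroup. -/
theorem T_of_ne_one (hX : IsPGroup 2 X) (hV : Nat.card (X ⧸ frattini X) ≤ 4)
    (α : MulAut X) (m : ℕ) (hm : Odd m) (hαm : α ^ m = 1) (hα1 : α ≠ 1)
    (K : Subgroup X) (hK : ∀ x, x⁻¹ * α x ∈ K) : K = ⊤ := by
  haveI : Fact (Nat.Prime 2) := ⟨Nat.prime_two⟩
  by_contra hne
  have hK' : K ⊔ frattini X ≠ ⊤ := fun h => hne (frattini_nongenerating h)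
  set W : Subgroup (X ⧸ frattini X) := (K ⊔ frattini X).map (QuotientGroup.mk' (frattini X))
    with hW
  have hWtop : W ≠ ⊤ := by
    intro h
    apply hK'
    have h1 : (K ⊔ frattini X) = W.comap (QuotientGroup.mk' (frattini X)) := by
      rw [hW, Subgroup.comap_map_eq_self]
      rw [QuotientGroup.ker_mk']
      exact le_sup_right
    rw [h1, h, Subgroup.comap_top]
  have hWcard : Nat.card W ≤ 2 := by
    have h1 := W.card_mul_index
    have h2 : W.index ≠ 1 := fun h => hWtop (Subgroup.index_eq_one.mp h)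
    have h3 : W.index ≠ 0 := Subgroup.index_ne_zero_of_finite
    have h4 : 2 ≤ W.index := by omega
    have h5 : Nat.card W * 2 ≤ Nat.card W * W.index := Nat.mul_le_mul_left _ h4
    omega
  set β : MulAut (X ⧸ frattini X) := rho X α with hβ
  have hβm : β ^ m = 1 := by rw [hβ, ← map_pow, hαm, map_one]
  have hβ1 : β ≠ 1 := by
    intro h
    have hker : α ∈ (rho X).ker := h
    obtain ⟨k, hk⟩ := Cfsg.Agent.Lib.Helper75.isPGroup_ker_rho hX ⟨α, hker⟩
    have hk' : α ^ 2 ^ k = 1 := by
      have := congrArg Subtype.val hk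
      simpa using this
    have h1 : orderOf α ∣ 2 ^ k := orderOf_dvd_of_pow_eq_one hk'
    have h2 : orderOf α ∣ m := orderOf_dvd_of_pow_eq_one hαm
    have h3 : Nat.Coprime (2 ^ k) m := Nat.Coprime.pow_left k (Nat.coprime_two_left.mpr hm)
    have h4 : orderOf α = 1 := Nat.eq_one_of_dvd_coprimes h3 h1 h2
    exact hα1 (orderOf_eq_one_iff.mp h4)
  have hmem : ∀ v : X ⧸ frattini X, v⁻¹ * β v ∈ W := by
    intro v
    obtain ⟨x, rfl⟩ := QuotientGroup.mk_surjective v
    rw [hβ, rho_apply_mk, ← QuotientGroup.mk_inv, ← QuotientGroup.mk_mul]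
    exact Subgroup.mem_map_of_mem _ (Subgroup.mem_sup_left (hK x))
  have hsq : ∀ v : X ⧸ frattini X, v * v = 1 := by
    intro v
    have := Cfsg.Agent.Lib.Helper75.frattini_quotient_pow hX v
    rwa [pow_two] at this
  have hββ : β * β = 1 := by
    ext v
    rw [MulAut.mul_apply, MulAut.one_apply]
    obtain ⟨c, hc⟩ : ∃ c, c = v⁻¹ * β v := ⟨_, rfl⟩
    have hcW : c ∈ W := hc ▸ hmem v
    have hβc : β c = c := by
      by_cases hc1 : c = 1
      · rw [hc1, map_one]
      · have hd : β c ∈ W := by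
          have := W.mul_mem hcW (hmem c)
          rwa [mul_inv_cancel_left] at this
        have hd1 : β c ≠ 1 := fun h => hc1 (by simpa using h)
        exact (eq_of_card_le_two W hWcard hcW hd hc1 hd1).symm
    have hv : β v = v * c := by rw [hc, mul_inv_cancel_left]
    rw [hv, map_mul, hv, hβc, mul_assoc, hsq c, mul_one]
  have h1 : orderOf β ∣ 2 := orderOf_dvd_of_pow_eq_one (by rw [pow_two, hββ])
  have h2 : orderOf β ∣ m := orderOf_dvd_of_pow_eq_one hβm
  have h4 : orderOf β = 1 :=
    Nat.eq_one_of_dvd_coprimes (Nat.coprime_two_left.mpr hm) h1 h2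
  exact hβ1 (orderOf_eq_one_iff.mp h4)

end

section abelian

variable {Y : Type*} [Group Y] [Finite Y]

theorem pow_mod_of_pow_eq_one {x : Y} {N : ℕ} (h : x ^ N = 1) (k : ℕ) : x ^ (k % N) = x ^ k := by
  conv_rhs => rw [← Nat.mod_add_div k N, pow_add, pow_mul, h, one_pow, mul_one]

/-- the homomorphism `(i, j) ↦ u ^ i * v ^ j` -/
noncomputable def pairHom (hcomm : ∀ x y : Y, x * y = y * x) (N : ℕ) [NeZero N] (u v : Y)
    (hu : u ^ N = 1) (hv : v ^ N = 1) :
    Multiplicative (ZMod N) × Multiplicative (ZMod N) →* Y :=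
  MonoidHom.mk' (fun p => u ^ (Multiplicative.toAdd p.1).val * v ^ (Multiplicative.toAdd p.2).val)
    (by
      rintro ⟨i, j⟩ ⟨k, l⟩
      simp only [Prod.mk_mul_mk, toAdd_mul, ZMod.val_add]
      rw [pow_mod_of_pow_eq_one hu, pow_mod_of_pow_eq_one hv, pow_add, pow_add]
      calc u ^ (Multiplicative.toAdd i).val * u ^ (Multiplicative.toAdd k).val *
            (v ^ (Multiplicative.toAdd j).val * v ^ (Multiplicative.toAdd l).val)
          = u ^ (Multiplicative.toAdd i).val * (u ^ (Multiplicative.toAdd k).val *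
            v ^ (Multiplicative.toAdd j).val) * v ^ (Multiplicative.toAdd l).val := by
            simp only [mul_assoc]
        _ = u ^ (Multiplicative.toAdd i).val * (v ^ (Multiplicative.toAdd j).val *
            u ^ (Multiplicative.toAdd k).val) * v ^ (Multiplicative.toAdd l).val := by
            rw [hcomm (u ^ (Multiplicative.toAdd k).val) (v ^ (Multiplicative.toAdd j).val)]
        _ = _ := by simp only [mul_assoc])

theorem pairHom_apply (hcomm : ∀ x y : Y, x * y = y * x) (N : ℕ) [NeZero N] (u v : Y)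
    (hu : u ^ N = 1) (hv : v ^ N = 1) (p : Multiplicative (ZMod N) × Multiplicative (ZMod N)) :
    pairHom hcomm N u v hu hv p =
      u ^ (Multiplicative.toAdd p.1).val * v ^ (Multiplicative.toAdd p.2).val := rfl

theorem normal_of_comm' (hcomm : ∀ x y : Y, x * y = y * x) (H : Subgroup Y) : H.Normal :=
  ⟨fun x hx g => by rw [hcomm g x, mul_inv_cancel_right]; exact hx⟩

theorem abelian_aux (hcomm : ∀ x y : Y, x * y = y * x) (γ : MulAut Y)
    (hfpf : ∀ y, γ y = y → y = 1) (u w : Y) (n : ℕ)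
    (hgen : Subgroup.zpowers u ⊔ Subgroup.zpowers w = ⊤) (hu : orderOf u = 2 ^ n)
    (hw : w ^ 2 ^ n = 1) :
    (∀ y : Y, y ^ 2 ^ n = 1) ∧ Nat.card Y = 4 ^ n ∧
      Nonempty (Y ≃* Multiplicative (ZMod (2 ^ n)) × Multiplicative (ZMod (2 ^ n))) := by
  haveI : NeZero (2 ^ n) := ⟨by positivity⟩
  haveI := normal_of_comm' hcomm (Subgroup.zpowers u)
  -- upper bound
  have hdvd : Nat.card Y ∣ 2 ^ n * 2 ^ n := by
    have h1 := (Subgroup.zpowers u).card_mul_index
    have h2 := index_dvd_card_of_sup_eq_top _ _ hgen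
    rw [Nat.card_zpowers] at h2
    have h3 : orderOf w ∣ 2 ^ n := orderOf_dvd_of_pow_eq_one hw
    rw [← h1, Nat.card_zpowers, hu]
    exact Nat.mul_dvd_mul_left _ (h2.trans h3)
  set v : Y := γ u with hv
  have hvo : orderOf v = 2 ^ n := by rw [hv, MulEquiv.orderOf_eq, hu]
  have hun : u ^ 2 ^ n = 1 := by rw [← hu]; exact pow_orderOf_eq_one u
  have hvn : v ^ 2 ^ n = 1 := by rw [← hvo]; exact pow_orderOf_eq_one v
  have hinf : ∀ t : Y, t ∈ Subgroup.zpowers u → t ∈ Subgroup.zpowers v → t = 1 := by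
    intro t htu htv
    by_contra ht1
    rcases Nat.eq_zero_or_pos n with hn | hn
    · subst hn
      rw [pow_zero, orderOf_eq_one_iff] at hu
      rw [hu, Subgroup.zpowers_one_eq_bot, Subgroup.mem_bot] at htu
      exact ht1 htu
    · obtain ⟨e, rfl⟩ : ∃ e, n = e + 1 := ⟨n - 1, by omega⟩
      have hz1 := Cfsg.Agent.Lib.Helper60.pow_mem_zpowers_of_ne_one hu htu ht1
      have hzv : u ^ 2 ^ e ∈ Subgroup.zpowers v :=
        (Subgroup.zpowers_le.mpr htv) hz1
      have hz2 : (u ^ 2 ^ e) ^ 2 = 1 := by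
        rw [← pow_mul, ← pow_succ]; exact hun
      rcases Cfsg.Agent.Lib.Helper60.eq_one_or_eq_of_sq_eq_one hvo hzv hz2 with h | h
      · have := orderOf_dvd_of_pow_eq_one h
        rw [hu] at this
        have h2 := Nat.le_of_dvd (by positivity) this
        have h3 : 2 ^ e < 2 ^ (e + 1) := Nat.pow_lt_pow_right (by norm_num) (by omega)
        omega
      · have h2 : γ (u ^ 2 ^ e) = u ^ 2 ^ e := by rw [map_pow, ← hv, ← h]
        have h3 := hfpf _ h2
        have := orderOf_dvd_of_pow_eq_one h3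
        rw [hu] at this
        have h2 := Nat.le_of_dvd (by positivity) this
        have h3 : 2 ^ e < 2 ^ (e + 1) := Nat.pow_lt_pow_right (by norm_num) (by omega)
        omega
  set ψ := pairHom hcomm (2 ^ n) u v hun hvn with hψ
  have hval : ∀ (x : Y) (i : ZMod (2 ^ n)), orderOf x = 2 ^ n → x ^ i.val = 1 → i = 0 := by
    intro x i hx hi
    have h1 := orderOf_dvd_of_pow_eq_one hi
    rw [hx] at h1
    have h2 : i.val < 2 ^ n := ZMod.val_lt i
    have h3 : i.val = 0 := Nat.eq_zero_of_dvd_of_lt h1 h2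
    exact (ZMod.val_eq_zero i).mp h3
  have hinj : Function.Injective ψ := by
    rw [injective_iff_map_eq_one]
    rintro ⟨i, j⟩ hij
    rw [hψ, pairHom_apply] at hij
    simp only at hij
    have h1 : u ^ (Multiplicative.toAdd i).val = (v ^ (Multiplicative.toAdd j).val)⁻¹ :=
      eq_inv_of_mul_eq_one_left hij
    have h2 : u ^ (Multiplicative.toAdd i).val = 1 := by
      apply hinf
      · exact Subgroup.pow_mem _ (Subgroup.mem_zpowers u) _
      · rw [h1]; exact Subgroup.inv_mem _ (Subgroup.pow_mem _ (Subgroup.mem_zpowers v) _)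
    have h3 : v ^ (Multiplicative.toAdd j).val = 1 := by
      rw [h2, one_mul] at hij; exact hij
    have hi := hval u _ hu h2
    have hj := hval v _ hvo h3
    have hi' : i = 1 := by
      have : Multiplicative.ofAdd (Multiplicative.toAdd i) = Multiplicative.ofAdd 0 := by rw [hi]
      simpa using this
    have hj' : j = 1 := by
      have : Multiplicative.ofAdd (Multiplicative.toAdd j) = Multiplicative.ofAdd 0 := by rw [hj]
      simpa using this
    rw [hi', hj']; rfl
  have hcardC : Nat.card (Multiplicative (ZMod (2 ^ n)) × Multiplicative (ZMod (2 ^ n)))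
      = 2 ^ n * 2 ^ n := by
    rw [Nat.card_prod, Nat.card_congr (Multiplicative.toAdd (α := ZMod (2 ^ n))), Nat.card_zmod]
  have hle : 2 ^ n * 2 ^ n ≤ Nat.card Y := by
    rw [← hcardC]; exact Nat.card_le_card_of_injective ψ hinj
  have hcard : Nat.card Y = 2 ^ n * 2 ^ n :=
    le_antisymm (Nat.le_of_dvd (by positivity) hdvd) hle
  have hbij : Function.Bijective ψ := by
    rw [Nat.bijective_iff_injective_and_card]
    exact ⟨hinj, by rw [hcardC, hcard]⟩
  refine ⟨?_, ?_, ⟨(MulEquiv.ofBijective ψ hbij).symm⟩⟩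
  · intro y
    obtain ⟨p, rfl⟩ := hbij.2 y
    rw [hψ, pairHom_apply, (show Commute _ _ from hcomm _ _).mul_pow, ← pow_mul, ← pow_mul,
      mul_comm _ (2 ^ n), mul_comm _ (2 ^ n), pow_mul, pow_mul, hun, hvn, one_pow, one_pow, one_mul]
  · rw [hcard, ← mul_pow]; norm_num

theorem abelian_main (hY : IsPGroup 2 Y) (hcomm : ∀ x y : Y, x * y = y * x) (a b : Y)
    (hgen : Subgroup.zpowers a ⊔ Subgroup.zpowers b = ⊤) (γ : MulAut Y)
    (hT : ∀ K : Subgroup Y, (∀ y, y⁻¹ * γ y ∈ K) → K = ⊤) :
    ∃ n : ℕ, (∀ y : Y, y ^ 2 ^ n = 1) ∧ Nat.card Y = 4 ^ n ∧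
      Nonempty (Y ≃* Multiplicative (ZMod (2 ^ n)) × Multiplicative (ZMod (2 ^ n))) := by
  -- `γ` is fixed-point-free
  let δ : Y →* Y := MonoidHom.mk' (fun y => y⁻¹ * γ y) (by
    intro x y
    rw [map_mul, mul_inv_rev]
    calc y⁻¹ * x⁻¹ * (γ x * γ y) = y⁻¹ * (x⁻¹ * γ x) * γ y := by simp only [mul_assoc]
      _ = (x⁻¹ * γ x) * y⁻¹ * γ y := by rw [hcomm y⁻¹ (x⁻¹ * γ x)]
      _ = _ := by simp only [mul_assoc])
  have hδ : ∀ y, δ y = y⁻¹ * γ y := fun _ => rfl
  have hrange : δ.range = ⊤ := hT δ.range (fun y => ⟨y, rfl⟩)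
  have hsurj : Function.Surjective δ := MonoidHom.range_eq_top.mp hrange
  have hinj : Function.Injective δ := Finite.injective_iff_surjective.mpr hsurj
  have hfpf : ∀ y, γ y = y → y = 1 := by
    intro y hy
    apply hinj
    rw [hδ, hy, inv_mul_cancel, map_one]
  obtain ⟨r, hr⟩ := (IsPGroup.iff_orderOf.mp hY) a
  obtain ⟨s, hs⟩ := (IsPGroup.iff_orderOf.mp hY) b
  rcases le_total r s with hrs | hrs
  · refine ⟨s, abelian_aux hcomm γ hfpf b a s (by rw [sup_comm]; exact hgen) hs ?_⟩
    have : orderOf a ∣ 2 ^ s := by rw [hr]; exact pow_dvd_pow 2 hrs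
    exact orderOf_dvd_iff_pow_eq_one.mp this
  · refine ⟨r, abelian_aux hcomm γ hfpf a b r hgen hr ?_⟩
    have : orderOf b ∣ 2 ^ r := by rw [hs]; exact pow_dvd_pow 2 hrs
    exact orderOf_dvd_iff_pow_eq_one.mp this

end abelian

section nonabelian

open scoped commutatorElement

variable {X : Type*} [Group X] [Finite X]

theorem iterate_aut_pow (α : MulAut X) (c : X) (k : ℕ) (h : α c = c ^ k) (j : ℕ) :
    (α ^ j) c = c ^ (k ^ j) := by
  induction j with
  | zero => simp
  | succ j ih =>
    rw [pow_succ', MulAut.mul_apply, ih, map_pow, h, ← pow_mul, ← pow_succ']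

/-- An automorphism of odd order of a 2-group fixes every element whose cyclic subgroup it
stabilises. -/
theorem fix_of_mem_zpowers (hX : IsPGroup 2 X) (α : MulAut X) (m : ℕ) (hm : Odd m)
    (hαm : α ^ m = 1) (c : X) (hc : α c ∈ Subgroup.zpowers c) : α c = c := by
  obtain ⟨e, he⟩ := (IsPGroup.iff_orderOf.mp hX) c
  rw [← mem_powers_iff_mem_zpowers] at hc
  obtain ⟨k, hk⟩ := (Submonoid.mem_powers_iff _ _).mp hc
  have h1 := iterate_aut_pow α c k hk.symm m
  rw [hαm, MulAut.one_apply] at h1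
  have h2 : k ^ m ≡ 1 [MOD 2 ^ e] := by
    rw [← he]
    apply pow_eq_pow_iff_modEq.1
    rw [pow_one]
    exact h1.symm
  have h3 : k ≡ 1 [MOD 2 ^ e] := by
    rcases Nat.eq_zero_or_pos e with rfl | hepos
    · simp [Nat.modEq_one]
    · rw [← ZMod.natCast_eq_natCast_iff] at h2 ⊢
      push_cast at h2 ⊢
      have hu : IsUnit (k : ZMod (2 ^ e)) := IsUnit.of_pow_eq_one h2 hm.pos.ne'
      obtain ⟨u, hu⟩ := hu
      have hum : u ^ m = 1 := by
        apply Units.ext
        rw [Units.val_pow_eq_pow_val, hu, h2]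
        rfl
      have hut : u ^ (2 ^ (e - 1)) = 1 := by
        have := ZMod.pow_totient u
        rwa [Nat.totient_prime_pow Nat.prime_two hepos, (by norm_num : 2 - 1 = 1), mul_one]
          at this
      have ho1 : orderOf u ∣ m := orderOf_dvd_of_pow_eq_one hum
      have ho2 : orderOf u ∣ 2 ^ (e - 1) := orderOf_dvd_of_pow_eq_one hut
      have h4 : orderOf u = 1 :=
        Nat.eq_one_of_dvd_coprimes (Nat.Coprime.pow_left _ (Nat.coprime_two_left.mpr hm)) ho2 ho1
      rw [orderOf_eq_one_iff] at h4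
      rw [← hu, h4]
      rfl
  rw [← hk]
  have := (pow_eq_pow_iff_modEq (x := c) (n := k) (m := 1)).2 (by rw [he]; exact h3)
  rwa [pow_one] at this

/-- If `α` fixes `X'` pointwise and has property (T) then `X'` is central. -/
theorem commutator_le_center_of_T (α : MulAut X) (hfix : ∀ c ∈ commutator X, α c = c)
    (hT : ∀ K : Subgroup X, (∀ x, x⁻¹ * α x ∈ K) → K = ⊤) :
    commutator X ≤ Subgroup.center X := by
  have h := hT (Subgroup.centralizer (commutator X : Set X)) (by
    intro x
    rw [Subgroup.mem_centralizer_iff]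
    intro y hy
    have hn : (commutator X).Normal := inferInstance
    have h1 : x * y * x⁻¹ ∈ commutator X := hn.conj_mem y hy x
    have h2 := hfix _ h1
    rw [map_mul, map_mul, map_inv, hfix y hy] at h2
    calc y * (x⁻¹ * α x) = x⁻¹ * (x * y * x⁻¹) * α x := by group
      _ = x⁻¹ * (α x * y * (α x)⁻¹) * α x := by rw [h2]
      _ = x⁻¹ * α x * y := by group)
  intro c hc
  rw [Subgroup.mem_center_iff]
  intro g
  have hg : g ∈ Subgroup.centralizer (commutator X : Set X) := h ▸ Subgroup.mem_top g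
  exact (Subgroup.mem_centralizer_iff.1 hg c hc).symm

theorem commutatorElement_mem_commutator' (g h : X) : ⁅g, h⁆ ∈ commutator X := by
  rw [commutator_def]
  exact Subgroup.commutator_mem_commutator (Subgroup.mem_top g) (Subgroup.mem_top h)

/-- (P1): if `k`-th powers are central (and `X' ≤ Z(X)`) then `X'` has exponent dividing `k`. -/
theorem commutator_pow_eq_one (hZ : commutator X ≤ Subgroup.center X) (k : ℕ)
    (hk : ∀ x : X, x ^ k ∈ Subgroup.center X) : ∀ c ∈ commutator X, c ^ k = 1 := by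
  intro c hc
  rw [commutator_eq_closure] at hc
  induction hc using Subgroup.closure_induction with
  | mem x hx =>
    obtain ⟨g, h, rfl⟩ := hx
    have hc' : ⁅g, h⁆ ∈ Subgroup.center X := hZ (commutatorElement_mem_commutator' g h)
    have h1 := Cfsg.Agent.Lib.Helper03.pow_mul_eq_of_central g h ⁅g, h⁆ hc'
      (by rw [commutatorElement_def]; group) k
    have h2 : g ^ k * h = h * g ^ k := (Subgroup.mem_center_iff.1 (hk g) h).symm
    rw [h2] at h1
    have h3 : ⁅g, h⁆ ^ k * (h * g ^ k) = 1 * (h * g ^ k) := by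
      rw [one_mul, ← mul_assoc]; exact h1.symm
    exact mul_right_cancel h3
  | one => exact one_pow k
  | mul x y hx hy ihx ihy =>
    have hxc : x ∈ Subgroup.center X := hZ (by rw [commutator_eq_closure]; exact hx)
    have hcomm : Commute x y := (Subgroup.mem_center_iff.1 hxc y).symm
    rw [hcomm.mul_pow, ihx, ihy, one_mul]
  | inv x hx ih => rw [inv_pow, ih, inv_one]

/-- The power-map argument: if `x ↦ x ^ J` is a homomorphism into `X'` (fixed by `α`), then by
property (T) it is trivial. -/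
theorem pow_eq_one_of_T (hZ : commutator X ≤ Subgroup.center X) (α : MulAut X)
    (hfix : ∀ c ∈ commutator X, α c = c)
    (hT : ∀ K : Subgroup X, (∀ x, x⁻¹ * α x ∈ K) → K = ⊤) (J : ℕ)
    (hJ1 : ∀ x : X, x ^ J ∈ commutator X)
    (hJ2 : ∀ c ∈ commutator X, c ^ (J.choose 2) = 1) : ∀ x : X, x ^ J = 1 := by
  let P : X →* X := MonoidHom.mk' (fun x => x ^ J) (by
    intro x y
    have hc : ⁅y, x⁆ ∈ Subgroup.center X := hZ (commutatorElement_mem_commutator' y x)
    have := Cfsg.Agent.Lib.Helper03.mul_pow_of_central_commutator x y ⁅y, x⁆ hc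
      (by rw [commutatorElement_def]; group) J
    rw [this, hJ2 _ (commutatorElement_mem_commutator' y x), mul_one])
  have hP : ∀ x, P x = x ^ J := fun _ => rfl
  have hker := hT P.ker (by
    intro x
    rw [MonoidHom.mem_ker, map_mul, map_inv, hP, hP, ← map_pow, hfix _ (hJ1 x), inv_mul_cancel])
  intro x
  have : x ∈ P.ker := hker ▸ Subgroup.mem_top x
  exact this

theorem choose_two_double (M : ℕ) : (2 * M).choose 2 = M * (2 * M - 1) := by
  rw [Nat.choose_two_right, Nat.mul_assoc, Nat.mul_div_cancel_left _ (by norm_num : 0 < 2)]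

theorem index_zpowers_dvd (a b : X) [(Subgroup.zpowers a).Normal]
    (hgen : Subgroup.zpowers a ⊔ Subgroup.zpowers b = ⊤) (k : ℕ)
    (hk : b ^ k ∈ Subgroup.zpowers a) : (Subgroup.zpowers a).index ∣ k := by
  have h1 := congrArg (Subgroup.map (QuotientGroup.mk' (Subgroup.zpowers a))) hgen
  rw [Subgroup.map_sup, MonoidHom.map_zpowers, MonoidHom.map_zpowers, ← MonoidHom.range_eq_map,
    MonoidHom.range_eq_top.mpr (QuotientGroup.mk'_surjective _)] at h1
  have h2 : QuotientGroup.mk' (Subgroup.zpowers a) a = 1 :=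
    (QuotientGroup.eq_one_iff a).2 (Subgroup.mem_zpowers a)
  rw [h2, Subgroup.zpowers_one_eq_bot, bot_sup_eq] at h1
  rw [Subgroup.index_eq_card, ← Subgroup.card_top, ← h1, Nat.card_zpowers]
  apply orderOf_dvd_of_pow_eq_one
  rw [← map_pow]
  exact (QuotientGroup.eq_one_iff _).2 hk

/-- the data coming from the abelianization -/
theorem quotient_data (hX : IsPGroup 2 X) (a b : X)
    (hgen : Subgroup.zpowers a ⊔ Subgroup.zpowers b = ⊤) (α : MulAut X)
    (hT : ∀ K : Subgroup X, (∀ x, x⁻¹ * α x ∈ K) → K = ⊤) :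
    ∃ n : ℕ, (∀ x : X, x ^ 2 ^ n ∈ commutator X) ∧
      Nat.card X = 4 ^ n * Nat.card (commutator X) := by
  have hcommY : ∀ x y : X ⧸ commutator X, x * y = y * x := by
    intro x y
    obtain ⟨x, rfl⟩ := QuotientGroup.mk_surjective x
    obtain ⟨y, rfl⟩ := QuotientGroup.mk_surjective y
    rw [← QuotientGroup.mk_mul, ← QuotientGroup.mk_mul, QuotientGroup.eq]
    have : (x * y)⁻¹ * (y * x) = ⁅y⁻¹, x⁻¹⁆ := by rw [commutatorElement_def]; group
    rw [this]
    exact commutatorElement_mem_commutator' _ _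
  have hmap : (commutator X).map (α : X →* X) = commutator X :=
    (Subgroup.characteristic_iff_map_eq.1 inferInstance) α
  let γ : MulAut (X ⧸ commutator X) := QuotientGroup.congr _ _ α hmap
  have hγ : ∀ x : X, γ (QuotientGroup.mk x) = QuotientGroup.mk (α x) :=
    fun x => QuotientGroup.congr_mk _ _ α hmap x
  have hTY : ∀ K : Subgroup (X ⧸ commutator X), (∀ y, y⁻¹ * γ y ∈ K) → K = ⊤ := by
    intro K hK
    have h1 := hT (K.comap (QuotientGroup.mk' (commutator X))) (by
      intro x
      rw [Subgroup.mem_comap, QuotientGroup.mk'_apply, QuotientGroup.mk_mul, QuotientGroup.mk_inv,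
        ← hγ]
      exact hK _)
    rw [eq_top_iff]
    intro y _
    obtain ⟨x, rfl⟩ := QuotientGroup.mk_surjective y
    have : x ∈ K.comap (QuotientGroup.mk' (commutator X)) := h1 ▸ Subgroup.mem_top x
    exact this
  have hgenY : Subgroup.zpowers (QuotientGroup.mk a : X ⧸ commutator X) ⊔
      Subgroup.zpowers (QuotientGroup.mk b : X ⧸ commutator X) = ⊤ := by
    have h1 := congrArg (Subgroup.map (QuotientGroup.mk' (commutator X))) hgen
    rw [Subgroup.map_sup, MonoidHom.map_zpowers, MonoidHom.map_zpowers, ← MonoidHom.range_eq_map,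
      MonoidHom.range_eq_top.mpr (QuotientGroup.mk'_surjective _)] at h1
    exact h1
  obtain ⟨n, hexp, hcard, -⟩ :=
    abelian_main (hX.to_quotient (commutator X)) hcommY _ _ hgenY γ hTY
  refine ⟨n, ?_, ?_⟩
  · intro x
    rw [← QuotientGroup.eq_one_iff, QuotientGroup.mk_pow]
    exact hexp _
  · rw [Subgroup.card_eq_card_quotient_mul_card_subgroup (commutator X), hcard]

/-- `α` fixes the commutator subgroup pointwise (when it lies in a cyclic subgroup). -/
theorem fix_commutator (hX : IsPGroup 2 X) (a : X)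
    (hXa : commutator X ≤ Subgroup.zpowers a) (α : MulAut X) (m : ℕ) (hm : Odd m)
    (hαm : α ^ m = 1) : ∀ c ∈ commutator X, α c = c := by
  haveI : IsCyclic (commutator X) := Subgroup.isCyclic_of_le hXa
  obtain ⟨g, hg⟩ := IsCyclic.exists_generator (α := commutator X)
  have hmap : (commutator X).map (α : X →* X) = commutator X :=
    (Subgroup.characteristic_iff_map_eq.1 inferInstance) α
  have hαg : α g.1 ∈ commutator X := by
    have h0 : α g.1 ∈ (commutator X).map (α : X →* X) := Subgroup.mem_map_of_mem _ g.2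
    have h00 : ∀ S : Subgroup X, (commutator X).map (α : X →* X) = S → α g.1 ∈ S := by
      intro S hS; rw [← hS]; exact h0
    exact h00 _ hmap
  have h1 : α g.1 ∈ Subgroup.zpowers g.1 := by
    obtain ⟨k, hk⟩ := Subgroup.mem_zpowers_iff.1 (hg ⟨α g.1, hαg⟩)
    rw [Subgroup.mem_zpowers_iff]
    refine ⟨k, ?_⟩
    have := congrArg Subtype.val hk
    simpa using this
  have h2 := fix_of_mem_zpowers hX α m hm hαm g.1 h1
  intro c hc
  obtain ⟨k, hk⟩ := Subgroup.mem_zpowers_iff.1 (hg ⟨c, hc⟩)
  have h3 : g.1 ^ k = c := by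
    have := congrArg Subtype.val hk
    simpa using this
  rw [← h3, map_zpow, h2]

theorem four_pow_eq (n : ℕ) : 4 ^ n = 2 ^ n * 2 ^ n := by
  rw [← mul_pow]; norm_num

/-- In the nonabelian case the group has order 8, `a` has order 4 and `⟨a⟩` has index 2. -/
theorem nonabelian_structure (hX : IsPGroup 2 X) (a b : X) [(Subgroup.zpowers a).Normal]
    (hgen : Subgroup.zpowers a ⊔ Subgroup.zpowers b = ⊤)
    (hXa : commutator X ≤ Subgroup.zpowers a)
    (α : MulAut X) (m : ℕ) (hm : Odd m) (hαm : α ^ m = 1)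
    (hT : ∀ K : Subgroup X, (∀ x, x⁻¹ * α x ∈ K) → K = ⊤)
    (hnc : ¬ ∀ x y : X, x * y = y * x) :
    Nat.card X = 8 ∧ orderOf a = 4 ∧ (Subgroup.zpowers a).index = 2 := by
  have hfix := fix_commutator hX a hXa α m hm hαm
  have hZ := commutator_le_center_of_T α hfix hT
  obtain ⟨n, hF1, hcard⟩ := quotient_data hX a b hgen α hT
  have hP1 := commutator_pow_eq_one hZ (2 ^ n) (fun x => hZ (hF1 x))
  have hE1 : ∀ x : X, x ^ 2 ^ (n + 1) = 1 := by
    apply pow_eq_one_of_T hZ α hfix hT
    · intro x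
      rw [pow_succ, pow_mul]
      exact Subgroup.pow_mem _ (hF1 x) 2
    · intro c hc
      rw [pow_succ', choose_two_double, pow_mul, hP1 c hc, one_pow]
  have hidx : (Subgroup.zpowers a).index ∣ 2 ^ n :=
    index_zpowers_dvd a b hgen (2 ^ n) (hXa (hF1 b))
  have hcard2 : Nat.card X = orderOf a * (Subgroup.zpowers a).index := by
    rw [← Nat.card_zpowers, Subgroup.card_mul_index]
  have ho : orderOf a ∣ 2 ^ (n + 1) := orderOf_dvd_of_pow_eq_one (hE1 a)
  have h4pos : 0 < 4 ^ n := by positivity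
  have hK2 : Nat.card (commutator X) ∣ 2 := by
    apply Nat.dvd_of_mul_dvd_mul_left h4pos
    rw [← hcard, hcard2, four_pow_eq]
    have := Nat.mul_dvd_mul ho hidx
    have e : 2 ^ (n + 1) * 2 ^ n = 2 ^ n * 2 ^ n * 2 := by rw [pow_succ]; ring
    rwa [e] at this
  have hK1 : Nat.card (commutator X) ≠ 1 := by
    intro h
    have hbot := Subgroup.eq_bot_of_card_eq _ h
    apply hnc
    intro x y
    have := commutatorElement_mem_commutator' x y
    rw [hbot, Subgroup.mem_bot] at this
    exact commutatorElement_eq_one_iff_mul_comm.1 this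
  have hK : Nat.card (commutator X) = 2 := by
    rcases (Nat.dvd_prime Nat.prime_two).1 hK2 with h | h
    · exact absurd h hK1
    · exact h
  have hc2 : ∀ c ∈ commutator X, c ^ 2 = 1 := by
    intro c hc
    have h1 : (⟨c, hc⟩ : commutator X) ^ Nat.card (commutator X) = 1 := pow_card_eq_one'
    rw [hK] at h1
    have := congrArg Subtype.val h1
    simpa using this
  -- `n = 1`
  have hn1 : n = 1 := by
    rcases Nat.lt_or_ge n 2 with hn | hn
    · rcases Nat.eq_zero_or_pos n with h0 | h0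
      · exfalso
        apply hnc
        intro x y
        have hx : x ∈ Subgroup.center X := by
          have := hF1 x
          rw [h0, pow_zero, pow_one] at this
          exact hZ this
        exact (Subgroup.mem_center_iff.1 hx y).symm
      · omega
    · exfalso
      obtain ⟨e, rfl⟩ : ∃ e, n = e + 2 := ⟨n - 2, by omega⟩
      have hE2 : ∀ x : X, x ^ 2 ^ (e + 2) = 1 := by
        apply pow_eq_one_of_T hZ α hfix hT
        · exact hF1
        · intro c hc
          rw [pow_succ', choose_two_double, pow_succ', mul_assoc, pow_mul, hc2 c hc, one_pow]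
      have ho2 : orderOf a ∣ 2 ^ (e + 2) := orderOf_dvd_of_pow_eq_one (hE2 a)
      have h1 := Nat.mul_dvd_mul ho2 hidx
      rw [← hcard2, hcard, hK, ← four_pow_eq] at h1
      have h2 := Nat.le_of_dvd h4pos h1
      omega
  subst hn1
  rw [hK] at hcard
  norm_num at hcard
  refine ⟨hcard, ?_⟩
  rw [hcard] at hcard2
  rw [pow_one] at hidx
  rcases (Nat.dvd_prime Nat.prime_two).1 hidx with h | h
  · exfalso
    rw [h, mul_one] at hcard2
    rw [← hcard2] at ho
    norm_num at ho
  · rw [h] at hcard2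
    exact ⟨by omega, h⟩

theorem comm_of_gen_comm (a b : X) (hgen : Subgroup.zpowers a ⊔ Subgroup.zpowers b = ⊤)
    (h : a * b = b * a) : ∀ x y : X, x * y = y * x := by
  have key : ∀ z : X, z * a = a * z → z * b = b * z → z ∈ Subgroup.center X := by
    intro z hza hzb
    have hle : (⊤ : Subgroup X) ≤ Subgroup.centralizer {z} := by
      rw [← hgen, sup_le_iff, Subgroup.zpowers_le, Subgroup.zpowers_le]
      constructor
      · rw [Subgroup.mem_centralizer_iff]
        intro y hy
        rw [Set.mem_singleton_iff] at hy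
        subst hy
        exact hza
      · rw [Subgroup.mem_centralizer_iff]
        intro y hy
        rw [Set.mem_singleton_iff] at hy
        subst hy
        exact hzb
    rw [Subgroup.mem_center_iff]
    intro g
    have hg := hle (Subgroup.mem_top g)
    rw [Subgroup.mem_centralizer_iff] at hg
    exact (hg z rfl).symm
  have ha := key a rfl h
  have hb := key b h.symm rfl
  have hle : (⊤ : Subgroup X) ≤ Subgroup.center X := by
    rw [← hgen, sup_le_iff, Subgroup.zpowers_le, Subgroup.zpowers_le]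
    exact ⟨ha, hb⟩
  intro x y
  exact (Subgroup.mem_center_iff.1 (hle (Subgroup.mem_top x)) y).symm

/-- The endgame: a nonabelian group of order 8 with property (T) is quaternion. -/
theorem quaternion_of_eight (a b : X) [(Subgroup.zpowers a).Normal]
    (hgen : Subgroup.zpowers a ⊔ Subgroup.zpowers b = ⊤)
    (hcard : Nat.card X = 8) (hoa : orderOf a = 4) (hidx : (Subgroup.zpowers a).index = 2)
    (α : MulAut X)
    (hT : ∀ K : Subgroup X, (∀ x, x⁻¹ * α x ∈ K) → K = ⊤)
    (hnc : ¬ ∀ x y : X, x * y = y * x) :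
    Nonempty (X ≃* QuaternionGroup 2) := by
  have ha4 : a ^ 4 = 1 := by rw [← hoa]; exact pow_orderOf_eq_one a
  have hbA : b ∉ Subgroup.zpowers a := by
    intro hb
    have h1 : Subgroup.zpowers a ⊔ Subgroup.zpowers b = Subgroup.zpowers a :=
      sup_eq_left.2 (Subgroup.zpowers_le.2 hb)
    rw [h1] at hgen
    rw [hgen, Subgroup.index_top] at hidx
    norm_num at hidx
  have hab : a * b ≠ b * a := fun h => hnc (comm_of_gen_comm a b hgen h)
  have hconj : b * a * b⁻¹ ∈ Subgroup.zpowers a :=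
    (inferInstance : (Subgroup.zpowers a).Normal).conj_mem a (Subgroup.mem_zpowers a) b
  have hcb : b * a * b⁻¹ = a⁻¹ := by
    rw [← mem_powers_iff_mem_zpowers] at hconj
    obtain ⟨k, hk⟩ := (Submonoid.mem_powers_iff _ _).mp hconj
    rw [← pow_mod_of_pow_eq_one ha4] at hk
    have hr : k % 4 < 4 := Nat.mod_lt _ (by norm_num)
    obtain ⟨r, hr'⟩ : ∃ r, r = k % 4 := ⟨_, rfl⟩
    rw [← hr'] at hk hr
    interval_cases r
    · exfalso
      rw [pow_zero] at hk
      have h1 : a = 1 := by
        have : b * a * b⁻¹ = b * 1 * b⁻¹ := by rw [← hk]; group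
        exact mul_left_cancel (mul_right_cancel this)
      rw [h1, orderOf_one] at hoa
      norm_num at hoa
    · exfalso
      apply hab
      rw [pow_one] at hk
      calc a * b = (b * a * b⁻¹) * b := by rw [← hk]
        _ = b * a := by group
    · exfalso
      have h1 : (b * a * b⁻¹) ^ 2 = 1 := by rw [← hk, ← pow_mul]; exact ha4
      rw [conj_pow] at h1
      have h2 : a ^ 2 = 1 := by
        have : b * a ^ 2 * b⁻¹ = b * 1 * b⁻¹ := by rw [h1]; group
        exact mul_left_cancel (mul_right_cancel this)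
      have := orderOf_dvd_of_pow_eq_one h2
      rw [hoa] at this
      norm_num at this
    · rw [← hk]
      apply eq_inv_of_mul_eq_one_left
      rw [← pow_succ]
      exact ha4
  have hinv : ∀ z ∈ Subgroup.zpowers a, b * z * b⁻¹ = z⁻¹ := by
    intro z hz
    obtain ⟨k, rfl⟩ := Subgroup.mem_zpowers_iff.1 hz
    rw [← conj_zpow, hcb, inv_zpow]
  have hb2 : b ^ 2 ∈ Subgroup.zpowers a := Subgroup.sq_mem_of_index_two hidx b
  have hb4 : (b ^ 2) ^ 2 = 1 := by
    have h1 := hinv _ hb2
    have h2 : b * b ^ 2 * b⁻¹ = b ^ 2 := by group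
    rw [h2] at h1
    rw [sq (b ^ 2)]
    exact mul_eq_one_iff_eq_inv.2 h1
  have hoa' : orderOf a = 2 ^ (1 + 1) := by rw [hoa]; norm_num
  rcases Cfsg.Agent.Lib.Helper60.eq_one_or_eq_of_sq_eq_one hoa' hb2 hb4 with h1 | h1
  · -- dihedral case: impossible
    exfalso
    have hout : ∀ x : X, x ∉ Subgroup.zpowers a → x ^ 2 = 1 := by
      intro x hx
      have hz : b⁻¹ * x ∈ Subgroup.zpowers a := by
        rw [Subgroup.mul_mem_iff_of_index_two hidx, Subgroup.inv_mem_iff]
        exact ⟨fun h => absurd h hbA, fun h => absurd h hx⟩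
      have hx' : x = b * (b⁻¹ * x) := by group
      obtain ⟨z, hz', hzx⟩ : ∃ z, z ∈ Subgroup.zpowers a ∧ x = b * z := ⟨_, hz, hx'⟩
      rw [hzx, sq]
      calc b * z * (b * z) = (b * z * b⁻¹) * b ^ 2 * z := by group
        _ = 1 := by rw [hinv z hz', h1, mul_one, inv_mul_cancel]
    have h4 : ∀ x : X, orderOf x = 4 → x ∈ Subgroup.zpowers a := by
      intro x hx
      by_contra hxa
      have := orderOf_dvd_of_pow_eq_one (hout x hxa)
      rw [hx] at this
      norm_num at this
    have hstab : ∀ φ : X ≃* X, ∀ z ∈ Subgroup.zpowers a, φ z ∈ Subgroup.zpowers a := by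
      intro φ z hz
      obtain ⟨k, rfl⟩ := Subgroup.mem_zpowers_iff.1 hz
      rw [map_zpow]
      apply Subgroup.zpow_mem
      apply h4
      rw [MulEquiv.orderOf_eq, hoa]
    have hiff : ∀ x : X, α x ∈ Subgroup.zpowers a ↔ x ∈ Subgroup.zpowers a := by
      intro x
      constructor
      · intro h
        have := hstab (MulEquiv.symm α) _ h
        rwa [MulEquiv.symm_apply_apply] at this
      · exact hstab α x
    have htop := hT (Subgroup.zpowers a) (by
      intro x
      rw [Subgroup.mul_mem_iff_of_index_two hidx, Subgroup.inv_mem_iff, hiff])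
    rw [htop, Subgroup.index_top] at hidx
    norm_num at hidx
  · -- quaternion case
    have hcard' : Nat.card X = 4 * 2 := by rw [hcard]
    have hord : orderOf a = 2 * 2 := by rw [hoa]
    have hbb : b * b = a ^ 2 := by rw [← sq, h1, pow_one]
    exact Cfsg.Agent.Lib.Helper59.nonempty_mulEquiv_quaternion 2 a b hcard' hord hbb hcb hbA

end nonabelian

/-- **S1896**: a metacyclic 2-group whose automorphism group is not a 2-group is `Q₈` or
homocyclic of rank two. -/
theorem main {X : Type*} [Group X] [Finite X] (hX : IsPGroup 2 X)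
    (hm : ∃ (N : Subgroup X) (_ : N.Normal), IsCyclic N ∧ IsCyclic (X ⧸ N))
    (hA : ¬ IsPGroup 2 (MulAut X)) :
    Nonempty (X ≃* QuaternionGroup 2) ∨
      ∃ n : ℕ, Nonempty (X ≃* Multiplicative (ZMod (2 ^ n)) × Multiplicative (ZMod (2 ^ n))) := by
  obtain ⟨N, hN, hNc, hQc⟩ := hm
  obtain ⟨a, hNa⟩ : ∃ a : X, N = Subgroup.zpowers a := by
    obtain ⟨g, hg⟩ := IsCyclic.exists_generator (α := N)
    refine ⟨g.1, ?_⟩
    ext x
    constructor
    · intro hx
      obtain ⟨k, hk⟩ := Subgroup.mem_zpowers_iff.1 (hg ⟨x, hx⟩)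
      rw [Subgroup.mem_zpowers_iff]
      refine ⟨k, ?_⟩
      have := congrArg Subtype.val hk
      simpa using this
    · intro hx
      exact (Subgroup.zpowers_le.2 g.2) hx
  subst hNa
  obtain ⟨q, hq⟩ := IsCyclic.exists_generator (α := X ⧸ Subgroup.zpowers a)
  obtain ⟨b, rfl⟩ := QuotientGroup.mk_surjective q
  have hgen : Subgroup.zpowers a ⊔ Subgroup.zpowers b = ⊤ := by
    rw [eq_top_iff]
    intro x _
    obtain ⟨k, hk⟩ := Subgroup.mem_zpowers_iff.1 (hq (QuotientGroup.mk x))
    rw [← QuotientGroup.mk_zpow, QuotientGroup.eq] at hk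
    have hx : x = b ^ k * ((b ^ k)⁻¹ * x) := by group
    rw [hx, sup_comm]
    exact Subgroup.mul_mem_sup (Subgroup.zpow_mem_zpowers b k) hk
  have hXa : commutator X ≤ Subgroup.zpowers a := by
    letI : CommGroup (X ⧸ Subgroup.zpowers a) := IsCyclic.commGroup
    have := Abelianization.commutator_subset_ker (QuotientGroup.mk' (Subgroup.zpowers a))
    rwa [QuotientGroup.ker_mk'] at this
  have hex : ∃ g : MulAut X, ∀ k : ℕ, g ^ 2 ^ k ≠ 1 := by
    by_contra h
    push Not at h
    exact hA h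
  obtain ⟨g, hg⟩ := hex
  have hfin : orderOf g ≠ 0 := (orderOf_pos g).ne'
  obtain ⟨k, m, hm, hkm⟩ := Nat.exists_eq_two_pow_mul_odd hfin
  obtain ⟨α, hα⟩ : ∃ α : MulAut X, α = g ^ 2 ^ k := ⟨_, rfl⟩
  have hαm : α ^ m = 1 := by rw [hα, ← pow_mul, ← hkm, pow_orderOf_eq_one]
  have hα1 : α ≠ 1 := by rw [hα]; exact hg k
  have hV := card_frattini_quotient_le hX a b hgen
  have hT : ∀ K : Subgroup X, (∀ x, x⁻¹ * α x ∈ K) → K = ⊤ :=
    fun K hK => T_of_ne_one hX hV α m hm hαm hα1 K hK
  by_cases hcomm : ∀ x y : X, x * y = y * x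
  · right
    obtain ⟨n, -, -, hiso⟩ := abelian_main hX hcomm a b hgen α hT
    exact ⟨n, hiso⟩
  · left
    obtain ⟨h8, h4, h2⟩ := nonabelian_structure hX a b hgen hXa α m hm hαm hT hcomm
    exact quaternion_of_eight a b hgen h8 h4 h2 α hT hcomm

end Cfsg.Agent.Lib.Helper42.Meta2
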