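import Mathlib
import Cfsg.Agent.Lib.Helper09.AnisoExt

/-!
# S2717 pack, leaf K-S2717-V5 (helper42): the finite-field set-up over the fixed field of an
involution.
-/

set_option autoImplicit false

namespace Cfsg.Agent.Lib.Helper42.S2717K

universe u v

/-- an irreducible polynomial `t² + t + ζ` exists over a finite field (local copy, Mathlib only) -/
theorem v5_exists_irred_quadratic {K : Type*} [Field K] [Finite K] :
    ∃ ζ : K, ∀ t : K, t ^ 2 + t + ζ ≠ 0 := by
  classical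
  have hni : ¬ Function.Injective (fun t : K => t ^ 2 + t) := by
    intro h
    have h1 : (fun t : K => t ^ 2 + t) 0 = (fun t : K => t ^ 2 + t) (-1) := by
      simp
    have := h h1
    have h3 : (1 : K) = 0 := by linear_combination this
    exact one_ne_zero h3
  have hns : ¬ Function.Surjective (fun t : K => t ^ 2 + t) := fun h =>
    hni (Finite.injective_iff_surjective.mpr h)
  rw [Function.Surjective] at hns
  rw [not_forall] at hns
  obtain ⟨y, hy⟩ := hns
  rw [not_exists] at hy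
  refine ⟨-y, fun t ht => hy t ?_⟩
  show t ^ 2 + t = y
  linear_combination ht

/-- K-S2717-V5 (finite fields): the set-up over the fixed field of an involution. -/
theorem exists_gf_setup {F₀ : Type v} {F : Type u} [Field F₀] [Fintype F₀] [Field F] [Fintype F]
    (j : F₀ →+* F) (σ : RingAut F) (hσ : orderOf σ = 2) (hj : ∀ c, σ (j c) = j c)
    (hj' : ∀ d : F, σ d = d → ∃ c, j c = d) :
    ∃ (a₀ b₀ : F₀) (ρ : F),
      (∀ z₁ z₂ : F₀, z₁ ^ 2 + a₀ * z₁ * z₂ + b₀ * z₂ ^ 2 = 0 → z₁ = 0 ∧ z₂ = 0) ∧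
      ρ ≠ σ ρ ∧ σ (σ ρ) = ρ ∧ -(ρ + σ ρ) = j a₀ ∧ ρ * σ ρ = j b₀ := by
  obtain ⟨ζ, hζ⟩ := v5_exists_irred_quadratic (K := F₀)
  have hanis : ∀ z₁ z₂ : F₀, z₁ ^ 2 + 1 * z₁ * z₂ + ζ * z₂ ^ 2 = 0 → z₁ = 0 ∧ z₂ = 0 := by
    rw [Cfsg.Agent.Lib.Helper09.AnisoExt.anis_iff_no_root]
    intro t
    rw [one_mul]
    exact hζ t
  have hev : Even (orderOf σ) := by rw [hσ]; exact even_two
  obtain ⟨ρ, hρ⟩ := Cfsg.Agent.Lib.Helper09.AnisoExt.exists_root_of_even_order σ hev (j 1) (j ζ)
    (hj 1) (hj ζ)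
  rw [map_one, one_mul] at hρ
  -- `σ ρ` is a root as well
  have hρ' : σ ρ ^ 2 + σ ρ + j ζ = 0 := by
    have := congrArg σ hρ
    rw [map_add, map_add, map_pow, hj ζ, map_zero] at this
    exact this
  -- `σ ρ ≠ ρ`
  have hne : ρ ≠ σ ρ := by
    intro h
    obtain ⟨c, hc⟩ := hj' ρ h.symm
    have h1 : j (c ^ 2 + c + ζ) = 0 := by
      rw [map_add, map_add, map_pow, hc]
      exact hρ
    have h2 : c ^ 2 + c + ζ = 0 := by
      have hinj : Function.Injective j := j.injective
      exact hinj (by rw [h1, map_zero])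
    exact hζ c h2
  -- `σ² = 1`
  have hσσ : σ (σ ρ) = ρ := by
    have h2 : σ ^ 2 = 1 := by
      rw [← hσ]; exact pow_orderOf_eq_one σ
    have := congrArg (fun τ : RingAut F => τ ρ) h2
    simpa [pow_two, RingAut.mul_apply] using this
  -- sum and product of the roots
  have hsum : ρ + σ ρ = -1 := by
    have h1 : (ρ - σ ρ) * (ρ + σ ρ + 1) = 0 := by
      linear_combination hρ - hρ'
    rcases mul_eq_zero.1 h1 with h | h
    · exact absurd (sub_eq_zero.1 h) hne
    · linear_combination h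
  refine ⟨1, ζ, ρ, hanis, hne, hσσ, ?_, ?_⟩
  · rw [hsum, map_one, neg_neg]
  · have : σ ρ = -1 - ρ := by linear_combination hsum
    rw [this]
    linear_combination -hρ

end Cfsg.Agent.Lib.Helper42.S2717K
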