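import Mathlib
import Cfsg.Prelude.Def_Solvable

set_option autoImplicit false
set_option linter.style.haveILetI false

namespace Cfsg.Agent.Lib.Helper42

theorem card_sup_dvd {X : Type*} [Group X] (H K : Subgroup X) [K.Normal] :
    Nat.card (H ⊔ K : Subgroup X) ∣ Nat.card K * Nat.card H := by
  have h1 : (⊥ : Subgroup X).relIndex K * K.relIndex (H ⊔ K) = (⊥ : Subgroup X).relIndex (H ⊔ K) :=
    Subgroup.relIndex_mul_relIndex _ _ _ bot_le le_sup_right
  rw [Subgroup.relIndex_bot_left, Subgroup.relIndex_bot_left, Subgroup.relIndex_sup_right] at h1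
  rw [← h1]
  exact Nat.mul_dvd_mul_left _ (Subgroup.relIndex_dvd_card _ _)

theorem card_sup_coprime {X : Type*} [Group X] (p : ℕ) (H K : Subgroup X) [K.Normal]
    (hH : (Nat.card H).Coprime p) (hK : (Nat.card K).Coprime p) :
    (Nat.card (H ⊔ K : Subgroup X)).Coprime p :=
  Nat.Coprime.coprime_dvd_left (card_sup_dvd H K) (Nat.Coprime.mul_left hK hH)

theorem pPrimeCore_normal (p : ℕ) (X : Type*) [Group X] : (Cfsg.pPrimeCore p X).Normal :=
  Subgroup.sSup_normal _ (fun _ h => h.1)

theorem pPrimeCore_card_coprime (p : ℕ) (X : Type*) [Group X] [Finite X] :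
    (Nat.card (Cfsg.pPrimeCore p X)).Coprime p := by
  unfold Cfsg.pPrimeCore
  have hfin : Set.Finite {N : Subgroup X | N.Normal ∧ (Nat.card N).Coprime p} := Set.toFinite _
  suffices h : ∀ s : Set (Subgroup X), s.Finite → (∀ N ∈ s, N.Normal ∧ (Nat.card N).Coprime p) →
      (sSup s).Normal ∧ (Nat.card (sSup s : Subgroup X)).Coprime p from
    (h _ hfin (fun N hN => hN)).2
  intro s hs
  induction s, hs using Set.Finite.induction_on with
  | empty => 
    intro _
    refine ⟨by rw [sSup_empty]; infer_instance, ?_⟩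
    simp
  | insert ha hs ih =>
    rename_i a s
    intro h
    obtain ⟨ih1, ih2⟩ := ih (fun N hN => h N (Set.mem_insert_of_mem _ hN))
    obtain ⟨ha1, ha2⟩ := h a (Set.mem_insert _ _)
    rw [sSup_insert]
    haveI := ih1
    haveI := ha1
    exact ⟨inferInstance, card_sup_coprime p a (sSup s) ha2 ih2⟩

theorem le_pPrimeCore {p : ℕ} {X : Type*} [Group X] (N : Subgroup X) [hN : N.Normal]
    (h : (Nat.card N).Coprime p) : N ≤ Cfsg.pPrimeCore p X :=
  le_sSup ⟨hN, h⟩

/-- Burnside: a central Sylow `p`-subgroup is complemented by `O_{p'}`. -/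
theorem pPrimeCore_sup_central_sylow {X : Type*} [Group X] [Finite X] (p : ℕ) [Fact p.Prime]
    (T : Sylow p X) (hT : (T : Subgroup X) ≤ Subgroup.center X) :
    (T : Subgroup X) ⊔ Cfsg.pPrimeCore p X = ⊤ := by
  have hP : Subgroup.normalizer ((T : Subgroup X) : Set X) ≤ Subgroup.centralizer ((T : Subgroup X) : Set X) := by
    intro x _
    rw [Subgroup.mem_centralizer_iff]
    intro t ht
    have := hT ht
    rw [Subgroup.mem_center_iff] at this
    exact (this x).symm
  have hc := MonoidHom.ker_transferSylow_isComplement' T hP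
  have hnd := MonoidHom.not_dvd_card_ker_transferSylow T hP
  have hle : (MonoidHom.transferSylow T hP).ker ≤ Cfsg.pPrimeCore p X :=
    le_pPrimeCore _ ((Nat.Prime.coprime_iff_not_dvd Fact.out).mpr hnd).symm
  rw [eq_top_iff, ← hc.sup_eq_top, sup_comm]
  exact sup_le_sup_left hle _

end Cfsg.Agent.Lib.Helper42
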