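import Mathlib

/-!
# Isolated involutions: elementary group theory (helper42)

`IsoInv t`: the involution `t` commutes with none of its other conjugates.
Main facts: the product of two conjugates of an isolated involution has odd order
(`IsoInv.odd_orderOf_mul_conj`), and the centralizer controls fusion of elements commuting
with `t` (`IsoInv.fusion_control`).
-/

set_option autoImplicit false
set_option linter.style.haveILetI false
set_option linter.unusedSectionVars false

namespace Cfsg.Agent.Lib.Helper42.ZStar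

variable {G : Type*} [Group G]

/-- isolated element, commuting form -/
def IsoInv (t : G) : Prop := ∀ g : G, Commute t (g * t * g⁻¹) → g * t * g⁻¹ = t

theorem IsoInv.conj {t : G} (h : IsoInv t) (g : G) : IsoInv (g * t * g⁻¹) := by
  intro k hk
  have h1 : Commute t ((g⁻¹ * k * g) * t * (g⁻¹ * k * g)⁻¹) := by
    have h0 := hk.eq
    have h2 : g⁻¹ * (g * t * g⁻¹ * (k * (g * t * g⁻¹) * k⁻¹)) * g
        = g⁻¹ * ((k * (g * t * g⁻¹) * k⁻¹) * (g * t * g⁻¹)) * g := by rw [h0]
    show t * _ = _ * t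
    calc t * ((g⁻¹ * k * g) * t * (g⁻¹ * k * g)⁻¹)
        = g⁻¹ * (g * t * g⁻¹ * (k * (g * t * g⁻¹) * k⁻¹)) * g := by group
      _ = g⁻¹ * ((k * (g * t * g⁻¹) * k⁻¹) * (g * t * g⁻¹)) * g := h2
      _ = _ := by group
  have h3 := h _ h1
  calc k * (g * t * g⁻¹) * k⁻¹ = g * ((g⁻¹ * k * g) * t * (g⁻¹ * k * g)⁻¹) * g⁻¹ := by group
    _ = g * t * g⁻¹ := by rw [h3]

/-- an involution is its own inverse -/
theorem inv_eq_self_of_orderOf_two {x : G} (hx : orderOf x = 2) : x⁻¹ = x := by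
  have h2 : x * x = 1 := by rw [← sq, ← hx]; exact pow_orderOf_eq_one x
  exact inv_eq_of_mul_eq_one_right h2

theorem mul_self_of_orderOf_two {x : G} (hx : orderOf x = 2) : x * x = 1 := by
  rw [← sq, ← hx]; exact pow_orderOf_eq_one x

theorem orderOf_conj' (g x : G) : orderOf (g * x * g⁻¹) = orderOf x := by
  have := (MulAut.conj g).orderOf_eq x
  simpa [MulAut.conj_apply] using this

/-- in a dihedral situation, `x` inverts `x * y` -/
theorem conj_mul_zpow {x y : G} (hx : orderOf x = 2) (hy : orderOf y = 2) (k : ℤ) :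
    x * (x * y) ^ k * x⁻¹ = (x * y) ^ (-k) := by
  have hxi := inv_eq_self_of_orderOf_two hx
  have hyi := inv_eq_self_of_orderOf_two hy
  have h1 : x * (x * y) * x⁻¹ = (x * y)⁻¹ := by
    rw [mul_inv_rev, hxi, hyi]
    have := mul_self_of_orderOf_two hx
    calc x * (x * y) * x = (x * x) * y * x := by group
      _ = y * x := by rw [this, one_mul]
  rw [← conj_zpow, h1, inv_zpow']

theorem conj_mul_zpow' {x y : G} (hx : orderOf x = 2) (hy : orderOf y = 2) (k : ℤ) :
    y * (x * y) ^ k * y⁻¹ = (x * y) ^ (-k) := by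
  have hxi := inv_eq_self_of_orderOf_two hx
  have hyi := inv_eq_self_of_orderOf_two hy
  have h1 : y * (x * y) * y⁻¹ = (x * y)⁻¹ := by
    rw [mul_inv_rev, hxi, hyi]
    have := mul_self_of_orderOf_two hy
    calc y * (x * y) * y = y * x * (y * y) := by group
      _ = y * x := by rw [this, mul_one]
  rw [← conj_zpow, h1, inv_zpow']

/-- `ρ^(-j) x ρ^j = x ρ^(2j)` for `ρ = x y` -/
theorem zpow_conj_left {x y : G} (hx : orderOf x = 2) (hy : orderOf y = 2) (j : ℤ) :
    (x * y) ^ (-j) * x * ((x * y) ^ (-j))⁻¹ = x * (x * y) ^ (2 * j) := by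
  have h1 := conj_mul_zpow hx hy j
  have h2 := conj_mul_zpow hx hy (2 * j)
  have hxi := inv_eq_self_of_orderOf_two hx
  -- x ρ^(2j) = ρ^(-2j) x
  have h3 : x * (x * y) ^ (2 * j) = (x * y) ^ (-(2 * j)) * x := by
    rw [← h2, hxi]
    have := mul_self_of_orderOf_two hx
    calc x * (x * y) ^ (2 * j) = x * (x * y) ^ (2 * j) * (x * x) := by rw [this, mul_one]
      _ = x * (x * y) ^ (2 * j) * x * x := by group
  -- ρ^(-j) x ρ^j = ρ^(-j) ρ^(-j) x
  have h4 : x * (x * y) ^ j = (x * y) ^ (-j) * x := by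
    rw [← h1, hxi]
    have := mul_self_of_orderOf_two hx
    calc x * (x * y) ^ j = x * (x * y) ^ j * (x * x) := by rw [this, mul_one]
      _ = x * (x * y) ^ j * x * x := by group
  rw [h3, ← zpow_neg, neg_neg, mul_assoc, h4, ← mul_assoc, ← zpow_add]
  congr 2
  ring

/-- key lemma: two conjugate isolated involutions have a product of odd order -/
theorem odd_orderOf_mul_aux [Finite G] {t s : G} (ht : orderOf t = 2) (hs : orderOf s = 2)
    (hti : IsoInv t) (hsi : IsoInv s) (g : G) (hg : t = g * s * g⁻¹) :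
    Odd (orderOf (t * s)) := by
  by_contra hodd
  rw [Nat.not_odd_iff_even] at hodd
  obtain ⟨k, hk⟩ := hodd
  have hrpos : 0 < orderOf (t * s) := orderOf_pos _
  have hk0 : k ≠ 0 := by omega
  obtain ⟨c, hc⟩ : ∃ c : G, c = (t * s) ^ (k : ℤ) := ⟨_, rfl⟩
  have hc1 : c ≠ 1 := by
    intro h1
    rw [hc, zpow_natCast] at h1
    have h2 := orderOf_dvd_of_pow_eq_one h1
    rw [hk] at h2
    have := Nat.le_of_dvd (Nat.pos_of_ne_zero hk0) h2
    omega
  have hcc : c * c = 1 := by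
    rw [hc, ← zpow_add]
    have : (k : ℤ) + (k : ℤ) = ((k + k : ℕ) : ℤ) := by push_cast; ring
    rw [this, zpow_natCast, ← hk, pow_orderOf_eq_one]
  have hci : c⁻¹ = c := inv_eq_of_mul_eq_one_right hcc
  have hti' := inv_eq_self_of_orderOf_two ht
  have hsi' := inv_eq_self_of_orderOf_two hs
  have htc : t * c = c * t := by
    have h1 := conj_mul_zpow ht hs (k : ℤ)
    rw [← hc, zpow_neg, ← hc, hci] at h1
    calc t * c = t * c * t⁻¹ * t := by group
      _ = c * t := by rw [h1]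
  have hsc : s * c = c * s := by
    have h1 := conj_mul_zpow' ht hs (k : ℤ)
    rw [← hc, zpow_neg, ← hc, hci] at h1
    calc s * c = s * c * s⁻¹ * s := by group
      _ = c * s := by rw [h1]
  rcases Nat.even_or_odd' k with ⟨j, hj | hj⟩
  · -- k = 2 j : t c is a conjugate of t commuting with t
    have h1 := zpow_conj_left ht hs (j : ℤ)
    have h2 : (t * s) ^ (2 * (j : ℤ)) = c := by
      rw [hc, hj]; push_cast; rfl
    rw [h2] at h1
    have h3 : Commute t ((t * s) ^ (-(j : ℤ)) * t * ((t * s) ^ (-(j : ℤ)))⁻¹) := by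
      rw [h1]
      show t * (t * c) = t * c * t
      rw [mul_assoc, htc]
    have h4 := hti _ h3
    rw [h1] at h4
    exact hc1 (mul_left_cancel (h4.trans (mul_one t).symm))
  · -- k = 2 j + 1 : s c is a conjugate of t (hence of s) commuting with s
    have h1 := zpow_conj_left ht hs ((j : ℤ) + 1)
    have h2 : t * (t * s) ^ (2 * ((j : ℤ) + 1)) = s * c := by
      have h5 : (t * s) ^ (2 * ((j : ℤ) + 1)) = (t * s) * c := by
        rw [hc, hj]
        have : (2 * ((j : ℤ) + 1)) = 1 + ((2 * j + 1 : ℕ) : ℤ) := by push_cast; ring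
        rw [this, zpow_add, zpow_one]
      rw [h5, ← mul_assoc, ← mul_assoc, mul_self_of_orderOf_two ht, one_mul]
    rw [h2] at h1
    obtain ⟨d, hd⟩ : ∃ d : G, d = (t * s) ^ (-((j : ℤ) + 1)) := ⟨_, rfl⟩
    rw [← hd] at h1
    have h6 : (d * g) * s * (d * g)⁻¹ = s * c := by
      rw [← h1, hg]; group
    have h3 : Commute s ((d * g) * s * (d * g)⁻¹) := by
      rw [h6]
      show s * (s * c) = s * c * s
      rw [mul_assoc, hsc]
    have h4 := hsi _ h3
    rw [h6] at h4
    exact hc1 (mul_left_cancel (h4.trans (mul_one s).symm))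

theorem IsoInv.odd_orderOf_mul_conj [Finite G] {t : G} (ht : orderOf t = 2) (h : IsoInv t)
    (g : G) : Odd (orderOf (t * (g * t * g⁻¹))) := by
  have hs : orderOf (g * t * g⁻¹) = 2 := by rw [orderOf_conj', ht]
  apply odd_orderOf_mul_aux ht hs h (h.conj g) g⁻¹
  group

/-- a conjugate of an isolated involution lying in a common `2`-subgroup with it is equal to it -/
theorem IsoInv.conj_eq_of_mem_pgroup [Finite G] {t : G} (ht : orderOf t = 2) (h : IsoInv t)
    (Q : Subgroup G) (hQ : IsPGroup 2 Q) (htQ : t ∈ Q) (g : G) (hg : g * t * g⁻¹ ∈ Q) :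
    g * t * g⁻¹ = t := by
  have hodd := h.odd_orderOf_mul_conj ht g
  have hmem : t * (g * t * g⁻¹) ∈ Q := Q.mul_mem htQ hg
  obtain ⟨k, hk⟩ := hQ ⟨_, hmem⟩
  have h1 : (t * (g * t * g⁻¹)) ^ 2 ^ k = 1 := by
    have := congrArg Subtype.val hk
    simpa using this
  have h2 : orderOf (t * (g * t * g⁻¹)) ∣ 2 ^ k := orderOf_dvd_of_pow_eq_one h1
  have h3 : orderOf (t * (g * t * g⁻¹)) = 1 := by
    rcases (Nat.dvd_prime_pow Nat.prime_two).mp h2 with ⟨i, -, hi⟩
    rcases Nat.eq_zero_or_pos i with rfl | hipos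
    · simpa using hi
    · exfalso
      rw [hi] at hodd
      exact (Nat.not_even_iff_odd.mpr hodd) (Nat.even_pow.mpr ⟨even_two, hipos.ne'⟩)
  have h4 : t * (g * t * g⁻¹) = 1 := orderOf_eq_one_iff.mp h3
  have hti := inv_eq_self_of_orderOf_two ht
  calc g * t * g⁻¹ = t⁻¹ * (t * (g * t * g⁻¹)) := by group
    _ = t := by rw [h4, mul_one, hti]

/-- `x (xy)^(2n+1)` is conjugate to `y` -/
theorem mul_zpow_odd_eq_conj {x y : G} (hx : orderOf x = 2) (hy : orderOf y = 2) (n : ℤ) :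
    x * (x * y) ^ (2 * n + 1) = (y * x) ^ n * y * ((y * x) ^ n)⁻¹ := by
  have h1 := zpow_conj_left hy hx (-n)
  rw [neg_neg] at h1
  rw [h1]
  have h2 : (y * x) = (x * y)⁻¹ := by
    rw [mul_inv_rev, inv_eq_self_of_orderOf_two hx, inv_eq_self_of_orderOf_two hy]
  have h3 : (y * x) ^ (2 * -n) = (x * y) ^ (2 * n) := by
    rw [h2, inv_zpow', neg_mul_eq_mul_neg, neg_neg]
  rw [h3, zpow_add, zpow_one]
  have h4 : x * (x * y) = y := by
    rw [← mul_assoc, mul_self_of_orderOf_two hx, one_mul]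
  have h5 : Commute ((x * y) ^ (2 * n)) (x * y) := (Commute.refl _).zpow_left _
  rw [h5.eq, ← mul_assoc, h4]

/-- two involutions whose product has odd order are conjugate by a power of the product -/
theorem exists_zpow_conj_of_odd [Finite G] {x y : G} (hx : orderOf x = 2) (hy : orderOf y = 2)
    (hodd : Odd (orderOf (x * y))) : ∃ k : ℤ, (y * x) ^ k * y * ((y * x) ^ k)⁻¹ = x := by
  obtain ⟨n, hn⟩ := hodd
  refine ⟨n, ?_⟩
  rw [← mul_zpow_odd_eq_conj hx hy (n : ℤ)]
  have : (2 * (n : ℤ) + 1) = ((2 * n + 1 : ℕ) : ℤ) := by push_cast; ring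
  rw [this, zpow_natCast, ← hn, pow_orderOf_eq_one, mul_one]

/-- fusion control: if `y` and `k y k⁻¹` both commute with the isolated involution `t`, they are
conjugate under the centralizer of `t`. -/
theorem IsoInv.fusion_control [Finite G] {t : G} (ht : orderOf t = 2) (h : IsoInv t)
    (y k : G) (hy : Commute t y) (hy1 : Commute t (k * y * k⁻¹)) :
    ∃ c : G, c * t * c⁻¹ = t ∧ c * y * c⁻¹ = k * y * k⁻¹ := by
  obtain ⟨s, hs⟩ : ∃ s : G, s = k * t * k⁻¹ := ⟨_, rfl⟩
  obtain ⟨y1, hy1'⟩ : ∃ y1 : G, y1 = k * y * k⁻¹ := ⟨_, rfl⟩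
  rw [← hy1'] at hy1 ⊢
  have hso : orderOf s = 2 := by rw [hs, orderOf_conj', ht]
  have hsy : Commute s y1 := by
    rw [hs, hy1']
    show k * t * k⁻¹ * (k * y * k⁻¹) = k * y * k⁻¹ * (k * t * k⁻¹)
    have := hy.eq
    calc k * t * k⁻¹ * (k * y * k⁻¹) = k * (t * y) * k⁻¹ := by group
      _ = k * (y * t) * k⁻¹ := by rw [this]
      _ = _ := by group
  have hodd : Odd (orderOf (t * s)) := by
    rw [hs]; exact h.odd_orderOf_mul_conj ht k
  obtain ⟨j, hj⟩ := exists_zpow_conj_of_odd ht hso hodd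
  -- (s t)^j s ((s t)^j)⁻¹ = t
  obtain ⟨d, hd⟩ : ∃ d : G, d = (s * t) ^ j := ⟨_, rfl⟩
  rw [← hd] at hj
  have hdy : Commute d y1 := by
    rw [hd]
    exact ((hsy.mul_left hy1)).zpow_left j
  refine ⟨d * k, ?_, ?_⟩
  · calc d * k * t * (d * k)⁻¹ = d * (k * t * k⁻¹) * d⁻¹ := by group
      _ = t := by rw [← hs, hj]
  · calc d * k * y * (d * k)⁻¹ = d * (k * y * k⁻¹) * d⁻¹ := by group
      _ = d * y1 * d⁻¹ := by rw [hy1']
      _ = y1 := by rw [hdy.eq, mul_inv_cancel_right]

/-- the central involution of a dihedral group of order `4m` -/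
theorem even_central_involution [Finite G] {x y : G} (hx : orderOf x = 2) (hy : orderOf y = 2)
    (m : ℕ) (hm : orderOf (x * y) = 2 * m) :
    orderOf ((x * y) ^ m) = 2 ∧ Commute ((x * y) ^ m) x ∧ Commute ((x * y) ^ m) y := by
  have hpos : 0 < orderOf (x * y) := orderOf_pos _
  have hm0 : m ≠ 0 := by rintro rfl; omega
  have ho : orderOf ((x * y) ^ m) = 2 := by
    rw [orderOf_pow' _ hm0, hm, Nat.gcd_eq_right (dvd_mul_left m 2)]
    exact Nat.mul_div_cancel 2 (Nat.pos_of_ne_zero hm0)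
  have hwi := inv_eq_self_of_orderOf_two ho
  refine ⟨ho, ?_, ?_⟩
  · have h1 := conj_mul_zpow hx hy (m : ℤ)
    rw [zpow_neg, zpow_natCast, hwi] at h1
    show (x * y) ^ m * x = x * (x * y) ^ m
    calc (x * y) ^ m * x = x * (x * y) ^ m * x⁻¹ * x := by rw [h1]
      _ = x * (x * y) ^ m := by group
  · have h1 := conj_mul_zpow' hx hy (m : ℤ)
    rw [zpow_neg, zpow_natCast, hwi] at h1
    show (x * y) ^ m * y = y * (x * y) ^ m
    calc (x * y) ^ m * y = y * (x * y) ^ m * y⁻¹ * y := by rw [h1]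
      _ = y * (x * y) ^ m := by group

/-- if moreover the square of `x y` has odd order: decomposition `x y = w v` -/
theorem even_decomp [Finite G] {x y : G} (hx : orderOf x = 2) (hy : orderOf y = 2)
    (m : ℕ) (hm : orderOf (x * y) = 2 * m) (hodd : Odd (orderOf ((x * y) ^ 2))) :
    (∃ n : ℕ, x * y = (x * y) ^ m * ((x * y) ^ 2) ^ n) ∧
      ∃ d : G, d * y * d⁻¹ = x * (x * y) ^ m := by
  have hpos : 0 < orderOf (x * y) := orderOf_pos _
  have hm0 : m ≠ 0 := by rintro rfl; omega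
  have ho2 : orderOf ((x * y) ^ 2) = m := by
    rw [orderOf_pow' _ (by norm_num), hm, Nat.gcd_eq_right (dvd_mul_right 2 m)]
    exact Nat.mul_div_cancel_left m (by norm_num)
  rw [ho2] at hodd
  obtain ⟨n, hn⟩ := hodd
  refine ⟨⟨n + 1, ?_⟩, ?_⟩
  · rw [← pow_mul, ← pow_add]
    have h1 : m + 2 * (n + 1) = 2 * m + 1 := by omega
    rw [h1, pow_succ, ← hm, pow_orderOf_eq_one, one_mul]
  · refine ⟨(y * x) ^ (n : ℤ), ?_⟩
    rw [← mul_zpow_odd_eq_conj hx hy (n : ℤ)]
    have : (2 * (n : ℤ) + 1) = ((2 * n + 1 : ℕ) : ℤ) := by push_cast; ring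
    rw [this, zpow_natCast, ← hn]

end Cfsg.Agent.Lib.Helper42.ZStar
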