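import Mathlib
import Cfsg.Agent.S0942
import Cfsg.Agent.S0943
import Cfsg.Agent.Lib.Helper22.SectionOrth
import Cfsg.Agent.Lib.Helper82.DefectZero
import Cfsg.Agent.Lib.Helper83.Quotient
import Cfsg.Agent.Lib.Helper05.CharOrtho
import Cfsg.Agent.Lib.Helper04.Basis
import Cfsg.Agent.Lib.Helper01.PPrimeCore
import Cfsg.Agent.Lib.Helper42.ZStarBasic
import Cfsg.Agent.Lib.Helper81.ThirdMain

/-!
# Glauberman's Z*-theorem: the character-theoretic core (helper42)
-/

set_option autoImplicit false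
set_option linter.style.haveILetI false
set_option linter.unusedSectionVars false

namespace Cfsg.Agent.Lib.Helper42.ZStar

open Cfsg
open scoped ComplexConjugate

universe u
variable {G : Type u} [Group G] [Finite G]

theorem odd_orderOf_of_mem_centralizerPPrimeCore (w v : G)
    (hv : v ∈ centralizerPPrimeCore 2 w) : Odd (orderOf v) := by
  have : Fact (Nat.Prime 2) := ⟨Nat.prime_two⟩
  unfold centralizerPPrimeCore at hv
  obtain ⟨c, hc, rfl⟩ := hv
  have h1 : orderOf (⟨c, hc⟩ : pPrimeCore 2 (Subgroup.centralizer ({w} : Set G))) ∣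
      Nat.card (pPrimeCore 2 (Subgroup.centralizer ({w} : Set G))) := orderOf_dvd_natCard _
  have h2 := Cfsg.Agent.Lib.Helper01.pPrimeCore_card_coprime
    (G := Subgroup.centralizer ({w} : Set G)) 2
  rw [Subgroup.orderOf_mk] at h1
  have h3 : orderOf ((Subgroup.centralizer ({w} : Set G)).subtype c) = orderOf c :=
    Subgroup.orderOf_coe c
  rw [h3]
  have h4 : (orderOf c).Coprime 2 := Nat.Coprime.coprime_dvd_left h1 h2
  exact Nat.Coprime.odd_of_right h4

/-- Claim 1: principal block characters are constant on products `x y'`. -/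
theorem char_const_on_products (M : Ideal AlgInt) (hM : IsPModular 2 M) {t : G}
    (ht : orderOf t = 2) (hti : IsoInv t)
    (hIH : ∀ w x y' : G, orderOf w = 2 → orderOf x = 2 → IsoInv x → Commute w x → Commute w y' →
      x * y' * x⁻¹ * y'⁻¹ ∈ centralizerPPrimeCore 2 w)
    (y₀ : G) (hy₀ : orderOf y₀ = 2) (hne : y₀ ≠ t) (hcomm : Commute t y₀)
    (χ : IrrCharacter G) (hχ : χ ∈ principalBlock M G) (x y' : G) (hx : IsConj t x)
    (hy' : IsConj y₀ y') :
    (χ : G → ℂ) (x * y') = (χ : G → ℂ) (t * y₀) := by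
  have : Fact (Nat.Prime 2) := ⟨Nat.prime_two⟩
  have hcf := Cfsg.Agent.Lib.Helper04.isClassFunction_of_isIrrCharacter χ.2
  obtain ⟨g, hg⟩ := isConj_iff.mp hx
  obtain ⟨k, hk⟩ := isConj_iff.mp hy'
  have hxo : orderOf x = 2 := by rw [← hg, orderOf_conj', ht]
  have hy'o : orderOf y' = 2 := by rw [← hk, orderOf_conj', hy₀]
  have hxi : IsoInv x := by rw [← hg]; exact hti.conj g
  have hxinv := inv_eq_self_of_orderOf_two hxo
  have hy'inv := inv_eq_self_of_orderOf_two hy'o
  -- the order of `x y'` is even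
  have heven : ¬ Odd (orderOf (x * y')) := by
    intro hodd
    obtain ⟨j, hj⟩ := exists_zpow_conj_of_odd hxo hy'o hodd
    obtain ⟨d, hd⟩ : ∃ d : G, d = (y' * x) ^ j := ⟨_, rfl⟩
    rw [← hd] at hj
    have h1 : (k⁻¹ * d⁻¹ * g) * t * (k⁻¹ * d⁻¹ * g)⁻¹ = y₀ := by
      have h2 : y' = d⁻¹ * x * d := by rw [← hj]; group
      have h3 : y₀ = k⁻¹ * y' * k := by rw [← hk]; group
      rw [h3, h2, ← hg]; group
    have h4 := hti _ (by rw [h1]; exact hcomm)
    rw [h1] at h4
    exact hne h4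
  rw [Nat.not_odd_iff_even] at heven
  obtain ⟨m, hm⟩ := heven
  have hm' : orderOf (x * y') = 2 * m := by omega
  obtain ⟨hwo, hwx, hwy⟩ := even_central_involution hxo hy'o m hm'
  obtain ⟨w, hw⟩ : ∃ w : G, w = (x * y') ^ m := ⟨_, rfl⟩
  rw [← hw] at hwo hwx hwy
  have hmem := hIH w x y' hwo hxo hxi hwx hwy
  have hsq : x * y' * x⁻¹ * y'⁻¹ = (x * y') ^ 2 := by
    rw [hxinv, hy'inv, sq]; group
  rw [hsq] at hmem
  have hodd2 : Odd (orderOf ((x * y') ^ 2)) := odd_orderOf_of_mem_centralizerPPrimeCore w _ hmem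
  obtain ⟨⟨n, hn⟩, ⟨d, hd⟩⟩ := even_decomp hxo hy'o m hm' hodd2
  rw [← hw] at hn hd
  have hv : ((x * y') ^ 2) ^ n ∈ centralizerPPrimeCore 2 w := pow_mem hmem n
  have h942 := Cfsg.Agent.S0942.result 2 M hM w ⟨1, by rw [hwo, pow_one]⟩ _ hv χ hχ
  rw [← hn] at h942
  rw [h942]
  -- `w = x * (x * w)` and `x * w` is conjugate to `y'`
  have hxx : x * x = 1 := mul_self_of_orderOf_two hxo
  have hw2 : w = x * (x * w) := by rw [← mul_assoc, hxx, one_mul]
  obtain ⟨y1, hy1⟩ : ∃ y1 : G, y1 = (g⁻¹ * d * k) * y₀ * (g⁻¹ * d * k)⁻¹ := ⟨_, rfl⟩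
  have hy1' : y1 = g⁻¹ * (x * w) * g := by
    rw [hy1, ← hd, ← hk]; group
  have hcomm1 : Commute t y1 := by
    have h1 : Commute x (x * w) := by
      show x * (x * w) = x * w * x
      rw [mul_assoc, hwx.eq]
    have h2 : t = g⁻¹ * x * g := by rw [← hg]; group
    rw [h2, hy1']
    show g⁻¹ * x * g * (g⁻¹ * (x * w) * g) = g⁻¹ * (x * w) * g * (g⁻¹ * x * g)
    calc g⁻¹ * x * g * (g⁻¹ * (x * w) * g) = g⁻¹ * (x * (x * w)) * g := by group
      _ = g⁻¹ * ((x * w) * x) * g := by rw [h1.eq]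
      _ = _ := by group
  rw [hy1] at hcomm1
  obtain ⟨c, hct, hcy⟩ := hti.fusion_control ht y₀ (g⁻¹ * d * k) hcomm hcomm1
  rw [← hy1] at hcy
  have h5 : w = g * (t * y1) * g⁻¹ := by
    rw [hy1', ← hg]
    have : g * (t * (g⁻¹ * (g * t * g⁻¹ * w) * g)) * g⁻¹ = (g * t * g⁻¹) * ((g * t * g⁻¹) * w) := by
      group
    rw [this, hg, ← hw2]
  have h6 : t * y1 = c * (t * y₀) * c⁻¹ := by
    rw [← hcy]
    nth_rewrite 1 [← hct]
    group
  rw [h5, hcf, h6, hcf]

/-- an irreducible character with `t` in its kernel is trivial when `G = ⟨t^G⟩` -/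
theorem irr_eq_one_of_ker (t : G) (hgen : Subgroup.normalClosure ({t} : Set G) = ⊤)
    (χ : IrrCharacter G) (h : (χ : G → ℂ) t = (χ : G → ℂ) 1) :
    (χ : G → ℂ) = fun _ => 1 := by
  classical
  have : Fintype G := Fintype.ofFinite G
  have hc := Cfsg.Agent.Lib.Helper83.isCharacter_of_irr χ.2
  have hker : ∀ g : G, (χ : G → ℂ) g = (χ : G → ℂ) 1 := by
    intro g
    have h1 : t ∈ Cfsg.Agent.Lib.Helper83.charKer hc :=
      (Cfsg.Agent.Lib.Helper83.mem_charKer hc t).mpr h
    have h2 : Subgroup.normalClosure ({t} : Set G) ≤ Cfsg.Agent.Lib.Helper83.charKer hc :=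
      Subgroup.normalClosure_le_normal (Set.singleton_subset_iff.mpr h1)
    rw [hgen] at h2
    exact (Cfsg.Agent.Lib.Helper83.mem_charKer hc g).mp (h2 (Subgroup.mem_top g))
  by_contra hne
  have h0 := Cfsg.Agent.Lib.Helper05.classInner_irr_ne χ.2
    (Cfsg.Agent.Lib.Helper05.isIrrCharacter_one (G := G)) hne
  have hd : (χ : G → ℂ) 1 ≠ 0 := Cfsg.Agent.Lib.Helper83.irr_degree_ne_zero χ
  apply hd
  unfold classInner at h0
  simp only [hker, map_one, mul_one, Finset.sum_const, Finset.card_univ, nsmul_eq_mul] at h0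
  have hG : (Nat.card G : ℂ) ≠ 0 := Nat.cast_ne_zero.mpr Nat.card_pos.ne'
  rw [← Nat.card_eq_fintype_card, ← mul_assoc, inv_mul_cancel₀ hG, one_mul] at h0
  exact h0

/-- the character-theoretic contradiction -/
theorem main_contra {t : G} (ht : orderOf t = 2) (hti : IsoInv t)
    (hgen : Subgroup.normalClosure ({t} : Set G) = ⊤)
    (hIH : ∀ w x y' : G, orderOf w = 2 → orderOf x = 2 → IsoInv x → Commute w x → Commute w y' →
      x * y' * x⁻¹ * y'⁻¹ ∈ centralizerPPrimeCore 2 w)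
    (y : G) (hy : orderOf y = 2) (hne : y ≠ t) (hcomm : Commute t y) : False := by
  classical
  have : Fintype G := Fintype.ofFinite G
  have : Fact (Nat.Prime 2) := ⟨Nat.prime_two⟩
  obtain ⟨M, hM⟩ := Cfsg.Agent.Lib.Helper82.exists_isPModular 2 Nat.prime_two
  have hMp : M.IsPrime := hM.2.1.isPrime
  have htt : t * t = 1 := mul_self_of_orderOf_two ht
  have hyy : y * y = 1 := mul_self_of_orderOf_two hy
  -- the involution `t * y`
  have hty1 : t * y ≠ 1 := by
    intro h
    apply hne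
    have : y = t⁻¹ := eq_inv_of_mul_eq_one_right h
    rw [this, inv_eq_self_of_orderOf_two ht]
  have hty2 : (t * y) ^ 2 = 1 := by
    rw [sq]
    calc t * y * (t * y) = t * (y * t) * y := by group
      _ = t * (t * y) * y := by rw [hcomm.eq]
      _ = (t * t) * (y * y) := by group
      _ = 1 := by rw [htt, hyy, one_mul]
  have htyo : orderOf (t * y) = 2 := orderOf_eq_prime hty2 hty1
  have htyne : t * y ≠ t := by
    intro h
    have : y = 1 := by simpa using h
    rw [this, orderOf_one] at hy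
    norm_num at hy
  have htycomm : Commute t (t * y) := by
    show t * (t * y) = t * y * t
    rw [mul_assoc, hcomm.eq]
  have htty : t * (t * y) = y := by rw [← mul_assoc, htt, one_mul]
  -- relations for each principal block character
  have hrel : ∀ χ : IrrCharacter G, χ ∈ principalBlock M G →
      (χ : G → ℂ) t * (χ : G → ℂ) y = (χ : G → ℂ) 1 * (χ : G → ℂ) (t * y) ∧
      (χ : G → ℂ) t * (χ : G → ℂ) (t * y) = (χ : G → ℂ) 1 * (χ : G → ℂ) y := by
    intro χ hχ
    constructor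
    · exact Cfsg.Agent.S0943.result χ t y (fun x y' hx hy' =>
        char_const_on_products M hM ht hti hIH y hy hne hcomm χ hχ x y' hx hy')
    · have := Cfsg.Agent.S0943.result χ t (t * y) (fun x y' hx hy' =>
        char_const_on_products M hM ht hti hIH (t * y) htyo htyne htycomm χ hχ x y' hx hy')
      rw [htty] at this
      exact this
  -- weak block orthogonality
  have ho1 := Cfsg.Agent.Lib.Helper22.sum_block_conj_eq_zero_of_singular hM
    (Cfsg.Agent.Lib.Helper83.trivChar G) (1 : G) y (by rw [orderOf_one]; norm_num)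
    (by rw [hy])
  have ho2 := Cfsg.Agent.Lib.Helper22.sum_block_conj_eq_zero_of_singular hM
    (Cfsg.Agent.Lib.Helper83.trivChar G) (1 : G) (t * y) (by rw [orderOf_one]; norm_num)
    (by rw [htyo])
  rw [← Cfsg.Agent.Lib.Helper81.principalBlock_eq_blockOf_trivChar] at ho1 ho2
  have hfin : (principalBlock M G).Finite := Set.toFinite _
  have hsum : ∑ᶠ χ ∈ principalBlock M G, ((χ : G → ℂ) 1 * conj ((χ : G → ℂ) y) +
      (χ : G → ℂ) 1 * conj ((χ : G → ℂ) (t * y))) = 0 := by
    rw [finsum_mem_add_distrib hfin, ho1, ho2, add_zero]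
  -- each term vanishes except for the trivial character
  have hterm : ∀ χ : IrrCharacter G, χ ∈ principalBlock M G →
      χ ≠ Cfsg.Agent.Lib.Helper83.trivChar G →
      (χ : G → ℂ) 1 * conj ((χ : G → ℂ) y) + (χ : G → ℂ) 1 * conj ((χ : G → ℂ) (t * y)) = 0 := by
    intro χ hχ hχne
    obtain ⟨r1, r2⟩ := hrel χ hχ
    have h1 : ((χ : G → ℂ) t - (χ : G → ℂ) 1) * ((χ : G → ℂ) y + (χ : G → ℂ) (t * y)) = 0 := by
      linear_combination r1 + r2
    rcases mul_eq_zero.mp h1 with h2 | h2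
    · exfalso
      apply hχne
      have h3 := irr_eq_one_of_ker t hgen χ (sub_eq_zero.mp h2)
      apply Subtype.ext
      rw [h3]
      funext g
      exact (Cfsg.Agent.Lib.Helper83.trivChar_apply g).symm
    · rw [← mul_add, ← map_add, h2, map_zero, mul_zero]
  have hsum2 : ∑ᶠ χ ∈ principalBlock M G, ((χ : G → ℂ) 1 * conj ((χ : G → ℂ) y) +
      (χ : G → ℂ) 1 * conj ((χ : G → ℂ) (t * y))) = 2 := by
    rw [finsum_mem_def, finsum_eq_single _ (Cfsg.Agent.Lib.Helper83.trivChar G)]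
    · rw [Set.indicator_of_mem (Cfsg.Agent.Lib.Helper81.trivChar_mem_principalBlock hMp)]
      simp only [Cfsg.Agent.Lib.Helper83.trivChar_apply, map_one, mul_one]
      norm_num
    · intro χ hχne
      by_cases hχ : χ ∈ principalBlock M G
      · rw [Set.indicator_of_mem hχ]
        exact hterm χ hχ hχne
      · rw [Set.indicator_of_notMem hχ]
  rw [hsum2] at hsum
  norm_num at hsum

end Cfsg.Agent.Lib.Helper42.ZStar
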