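import Mathlib
import Cfsg.Agent.Lib.Helper42.ZStarChar
import Cfsg.Agent.Lib.Helper42.PPrimeCore
import Cfsg.Agent.Lib.Helper15.PSolv
import Cfsg.Agent.Lib.Helper22.KleinFourSylow
import Cfsg.Agent.S0947

/-!
# Glauberman's Z*-theorem: the induction (helper42)
-/

set_option autoImplicit false
set_option linter.style.haveILetI false
set_option linter.unusedSectionVars false

namespace Cfsg.Agent.Lib.Helper42.ZStar

open Cfsg

universe u

/-- for an isolated involution `t` and a `2`-subgroup `Q`, some conjugate of `t` centralizes `Q` -/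
theorem exists_conj_commute_pgroup {G : Type u} [Group G] [Finite G] {t : G}
    (ht : orderOf t = 2) (hti : IsoInv t) (Q : Subgroup G) (hQ : IsPGroup 2 Q) :
    ∃ h : G, ∀ x ∈ Q, Commute (h * t * h⁻¹) x := by
  have : Fact (Nat.Prime 2) := ⟨Nat.prime_two⟩
  obtain ⟨S, hS⟩ := hQ.exists_le_sylow
  have htp : IsPGroup 2 (Subgroup.zpowers t) :=
    IsPGroup.of_card (n := 1) (by rw [Nat.card_zpowers, ht, pow_one])
  obtain ⟨S', hS'⟩ := htp.exists_le_sylow
  obtain ⟨h, hh⟩ := MulAction.exists_smul_eq G S' S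
  have htS : h * t * h⁻¹ ∈ (S : Subgroup G) := by
    rw [← hh, Sylow.smul_def, Sylow.pointwise_smul_def,
      Subgroup.mem_pointwise_smul_iff_inv_smul_mem]
    have : t ∈ (S' : Subgroup G) := hS' (Subgroup.mem_zpowers t)
    simpa [MulAut.smul_def, MulAut.conj_inv_apply, mul_assoc] using this
  refine ⟨h, fun x hx => ?_⟩
  have hxS : x ∈ (S : Subgroup G) := hS hx
  have ho : orderOf (h * t * h⁻¹) = 2 := by rw [orderOf_conj', ht]
  have hmem : x * (h * t * h⁻¹) * x⁻¹ ∈ (S : Subgroup G) :=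
    (S : Subgroup G).mul_mem ((S : Subgroup G).mul_mem hxS htS) ((S : Subgroup G).inv_mem hxS)
  have h1 := (hti.conj h).conj_eq_of_mem_pgroup ho (S : Subgroup G) S.isPGroup' htS x hmem
  show h * t * h⁻¹ * x = x * (h * t * h⁻¹)
  calc h * t * h⁻¹ * x = (x * (h * t * h⁻¹) * x⁻¹) * x := by rw [h1]
    _ = x * (h * t * h⁻¹) := by group

/-- the commutator `[t, g]` in terms of the conjugate `g t g⁻¹` -/
theorem comm_eq_mul_conj {G : Type u} [Group G] {t : G} (ht : orderOf t = 2) (g : G) :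
    t * g * t⁻¹ * g⁻¹ = t * (g * t * g⁻¹) := by
  rw [inv_eq_self_of_orderOf_two ht]; group

/-- an element of odd order is a power of its square -/
theorem mem_of_sq_mem_of_odd {G : Type u} [Group G] (N : Subgroup G) (x : G)
    (hodd : Odd (orderOf x)) (hsq : x ^ 2 ∈ N) : x ∈ N := by
  obtain ⟨j, hj⟩ := hodd
  have h1 : x = (x ^ 2) ^ (j + 1) := by
    rw [← pow_mul]
    have : 2 * (j + 1) = orderOf x + 1 := by omega
    rw [this, pow_succ, pow_orderOf_eq_one, one_mul]
  rw [h1]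
  exact N.pow_mem hsq _

/-- Case B: reduction to the normal closure of `t`. -/
theorem caseB {G : Type u} [Group G] [Finite G] {t : G} (ht : orderOf t = 2) (hti : IsoInv t)
    (M : Subgroup G) [hMn : M.Normal] (htM : t ∈ M)
    (hM : ∀ m ∈ M, t * m * t⁻¹ * m⁻¹ ∈ (pPrimeCore 2 M).map M.subtype) (g : G) :
    t * g * t⁻¹ * g⁻¹ ∈ pPrimeCore 2 G := by
  rw [comm_eq_mul_conj ht]
  have hsM : g * t * g⁻¹ ∈ M := hMn.conj_mem t htM g
  have h1 := hM _ hsM
  have ho : orderOf (g * t * g⁻¹) = 2 := by rw [orderOf_conj', ht]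
  have h2 : t * (g * t * g⁻¹) * t⁻¹ * (g * t * g⁻¹)⁻¹ = (t * (g * t * g⁻¹)) ^ 2 := by
    rw [inv_eq_self_of_orderOf_two ht, inv_eq_self_of_orderOf_two ho, sq]
    group
  rw [h2] at h1
  have h3 := Cfsg.Agent.Lib.Helper15.map_pPrimeCore_le_of_normal 2 M h1
  exact mem_of_sq_mem_of_odd _ _ (hti.odd_orderOf_mul_conj ht g) h3

/-- the inductive statement for groups of a given order -/
def ZStarFor (n : ℕ) : Prop :=
  ∀ (G : Type u) [Group G] [Finite G], Nat.card G = n → ∀ t : G, orderOf t = 2 → IsoInv t →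
    ∀ g : G, t * g * t⁻¹ * g⁻¹ ∈ pPrimeCore 2 G

/-- a proper subgroup has smaller order -/
theorem card_lt_of_ne_top {G : Type u} [Group G] [Finite G] (H : Subgroup G) (hH : H ≠ ⊤) :
    Nat.card H < Nat.card G := by
  rcases lt_or_eq_of_le (Subgroup.card_le_card_group H) with h | h
  · exact h
  · exact absurd (Subgroup.eq_top_of_card_eq H h) hH

/-- the induction hypothesis applied to a proper subgroup containing `x` -/
theorem subgroup_step {G : Type u} [Group G] [Finite G]
    (ih : ∀ m < Nat.card G, ZStarFor.{u} m) (H : Subgroup G) (hH : H ≠ ⊤) {x : G}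
    (hx : orderOf x = 2) (hxi : IsoInv x) (hxH : x ∈ H) (y : G) (hyH : y ∈ H) :
    x * y * x⁻¹ * y⁻¹ ∈ (pPrimeCore 2 H).map H.subtype := by
  have hlt := card_lt_of_ne_top H hH
  have hx' : orderOf (⟨x, hxH⟩ : H) = 2 := by rw [Subgroup.orderOf_mk, hx]
  have hxi' : IsoInv (⟨x, hxH⟩ : H) := by
    intro m hm
    apply Subtype.ext
    have h1 : Commute x ((m : G) * x * (m : G)⁻¹) := by
      have := congrArg Subtype.val hm.eq
      show x * ((m : G) * x * (m : G)⁻¹) = (m : G) * x * (m : G)⁻¹ * x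
      simpa using this
    simpa using hxi (m : G) h1
  have h1 := ih _ hlt H rfl ⟨x, hxH⟩ hx' hxi' ⟨y, hyH⟩
  exact ⟨_, h1, by simp⟩

/-- the hypothesis `hIH` of `main_contra`, from the induction hypothesis, when no involution is
central -/
theorem hIH_of_ih {G : Type u} [Group G] [Finite G]
    (ih : ∀ m < Nat.card G, ZStarFor.{u} m)
    (hnc : ∀ c : G, orderOf c = 2 → c ∉ Subgroup.center G)
    (w x y' : G) (hw : orderOf w = 2) (hx : orderOf x = 2) (hxi : IsoInv x) (hwx : Commute w x)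
    (hwy : Commute w y') : x * y' * x⁻¹ * y'⁻¹ ∈ centralizerPPrimeCore 2 w := by
  have hne : Subgroup.centralizer ({w} : Set G) ≠ ⊤ := by
    intro htop
    apply hnc w hw
    rw [Subgroup.mem_center_iff]
    intro g
    have hg : g ∈ Subgroup.centralizer ({w} : Set G) := by rw [htop]; exact Subgroup.mem_top g
    exact ((Subgroup.mem_centralizer_iff.mp hg) w rfl).symm
  have hxC : x ∈ Subgroup.centralizer ({w} : Set G) := by
    rw [Subgroup.mem_centralizer_iff]
    intro h hh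
    rw [Set.mem_singleton_iff] at hh
    rw [hh]; exact hwx.eq
  have hyC : y' ∈ Subgroup.centralizer ({w} : Set G) := by
    rw [Subgroup.mem_centralizer_iff]
    intro h hh
    rw [Set.mem_singleton_iff] at hh
    rw [hh]; exact hwy.eq
  exact subgroup_step ih _ hne hx hxi hxC y' hyC

/-- the statement of S0225 (2-rank one), as a hypothesis -/
def BS225 : Prop :=
  ∀ (G : Type u) [Group G] [Finite G], Even (Nat.card G) → (∀ E : Subgroup G, ¬ IsKleinFour E) →
    ∃ z : G, orderOf z = 2 ∧ ∃ N : Subgroup G, N.Normal ∧ Odd (Nat.card N) ∧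
      ∀ g : G, z * g * z⁻¹ * g⁻¹ ∈ N

theorem commute_conj_iff {G : Type u} [Group G] (h a b : G) :
    Commute (h * a * h⁻¹) (h * b * h⁻¹) ↔ Commute a b := by
  constructor
  · intro hc
    have h1 := hc.eq
    show a * b = b * a
    calc a * b = h⁻¹ * ((h * a * h⁻¹) * (h * b * h⁻¹)) * h := by group
      _ = h⁻¹ * ((h * b * h⁻¹) * (h * a * h⁻¹)) * h := by rw [h1]
      _ = b * a := by group
  · intro hc
    have h1 := hc.eq
    show (h * a * h⁻¹) * (h * b * h⁻¹) = (h * b * h⁻¹) * (h * a * h⁻¹)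
    calc (h * a * h⁻¹) * (h * b * h⁻¹) = h * (a * b) * h⁻¹ := by group
      _ = h * (b * a) * h⁻¹ := by rw [h1]
      _ = _ := by group

/-- Case C1: `t` is the only involution of its centralizer. -/
theorem caseC1 (hBS : BS225.{u}) {G : Type u} [Group G] [Finite G] {t : G}
    (ht : orderOf t = 2) (hti : IsoInv t)
    (hno : ∀ y : G, orderOf y = 2 → Commute t y → y = t) (g : G) :
    t * g * t⁻¹ * g⁻¹ ∈ pPrimeCore 2 G := by
  classical
  have heven : Even (Nat.card G) := by
    have := orderOf_dvd_natCard t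
    rw [ht] at this
    exact (even_iff_two_dvd).mpr this
  -- transport of `hno` to conjugates
  have hno' : ∀ h e : G, orderOf e = 2 → Commute (h * t * h⁻¹) e → e = h * t * h⁻¹ := by
    intro h e he hc
    have h1 : orderOf (h⁻¹ * e * h) = 2 := by
      have := orderOf_conj' h⁻¹ e
      rw [inv_inv] at this
      rw [this, he]
    have h2 : Commute t (h⁻¹ * e * h) := by
      have h3 : Commute (h * t * h⁻¹) (h * (h⁻¹ * e * h) * h⁻¹) := by
        have : h * (h⁻¹ * e * h) * h⁻¹ = e := by group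
        rw [this]; exact hc
      exact (commute_conj_iff h t _).mp h3
    have h4 := hno _ h1 h2
    rw [← h4]; group
  have hrank : ∀ E : Subgroup G, ¬ IsKleinFour E := by
    intro E hE
    have hE2 : IsPGroup 2 E := IsPGroup.of_card (n := 2) (by rw [hE.card_four]; norm_num)
    obtain ⟨h, hh⟩ := exists_conj_commute_pgroup ht hti E hE2
    have hex : ∃ e ∈ E, e ≠ 1 ∧ e ≠ h * t * h⁻¹ := by
      by_contra hcon
      push Not at hcon
      have hinj : Function.Injective (fun e : E => decide ((e : G) = 1)) := by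
        intro e e' hee
        simp only [decide_eq_decide] at hee
        apply Subtype.ext
        by_cases h1 : (e : G) = 1
        · rw [h1, (hee.mp h1)]
        · have h2 : (e' : G) ≠ 1 := fun h3 => h1 (hee.mpr h3)
          rw [hcon e e.2 h1, hcon e' e'.2 h2]
      have := Nat.card_le_card_of_injective _ hinj
      rw [hE.card_four, Nat.card_eq_fintype_card, Fintype.card_bool] at this
      omega
    obtain ⟨e, heE, he1, hene⟩ := hex
    have he2 : e ^ 2 = 1 := by
      have := Monoid.pow_exponent_eq_one (⟨e, heE⟩ : E)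
      rw [hE.exponent_two] at this
      have := congrArg Subtype.val this
      simpa using this
    have heo : orderOf e = 2 := orderOf_eq_prime he2 he1
    exact hene (hno' h e heo (hh e heE))
  obtain ⟨z, hz, N, hNn, hNodd, hN⟩ := hBS G heven hrank
  have hzp : IsPGroup 2 (Subgroup.zpowers z) :=
    IsPGroup.of_card (n := 1) (by rw [Nat.card_zpowers, hz, pow_one])
  obtain ⟨h, hh⟩ := exists_conj_commute_pgroup ht hti _ hzp
  have hzt : z = h * t * h⁻¹ := hno' h z hz (hh z (Subgroup.mem_zpowers z))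
  have h1 : t * g * t⁻¹ * g⁻¹ = h⁻¹ * (z * (h * g * h⁻¹) * z⁻¹ * (h * g * h⁻¹)⁻¹) * h⁻¹⁻¹ := by
    rw [hzt]; group
  have h2 : t * g * t⁻¹ * g⁻¹ ∈ N := by
    rw [h1]
    exact hNn.conj_mem _ (hN _) _
  exact Cfsg.Agent.Lib.Helper01.le_pPrimeCore hNn (Nat.coprime_two_right.mpr hNodd) h2

/-- an element of odd order killed by a power of two is trivial -/
theorem eq_one_of_odd_of_pow_two_pow {H : Type*} [Group H] (x : H) (hodd : Odd (orderOf x))
    (k : ℕ) (h : x ^ 2 ^ k = 1) : x = 1 := by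
  have h2 : orderOf x ∣ 2 ^ k := orderOf_dvd_of_pow_eq_one h
  rcases (Nat.dvd_prime_pow Nat.prime_two).mp h2 with ⟨i, -, hi⟩
  rcases Nat.eq_zero_or_pos i with rfl | hipos
  · exact orderOf_eq_one_iff.mp (by simpa using hi)
  · exfalso
    rw [hi] at hodd
    exact (Nat.not_even_iff_odd.mpr hodd) (Nat.even_pow.mpr ⟨even_two, hipos.ne'⟩)

/-- Case C2a: there is a central involution. -/
theorem caseC2a {G : Type u} [Group G] [Finite G]
    (ih : ∀ m < Nat.card G, ZStarFor.{u} m) {t : G} (ht : orderOf t = 2) (hti : IsoInv t)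
    (hcen : t ∉ Subgroup.center G) (c : G) (hc : orderOf c = 2) (hcc : c ∈ Subgroup.center G)
    (g : G) : t * g * t⁻¹ * g⁻¹ ∈ pPrimeCore 2 G := by
  classical
  have : Fact (Nat.Prime 2) := ⟨Nat.prime_two⟩
  have hccomm : ∀ (k : ℤ) (x : G), x * c ^ k = c ^ k * x := by
    intro k x
    have h1 : Commute x c := Subgroup.mem_center_iff.mp hcc x
    exact (h1.zpow_right k).eq
  obtain ⟨Z, hZ⟩ : ∃ Z : Subgroup G, Z = Subgroup.zpowers c := ⟨_, rfl⟩
  have hc2 : c ^ (2 : ℤ) = 1 := by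
    have := pow_orderOf_eq_one c
    rw [hc] at this
    exact_mod_cast this
  have hZmem : ∀ x ∈ Z, x = 1 ∨ x = c := by
    intro x hx
    rw [hZ] at hx
    obtain ⟨k, rfl⟩ := Subgroup.mem_zpowers_iff.mp hx
    rcases Int.even_or_odd' k with ⟨j, hj | hj⟩
    · left
      rw [hj, zpow_mul, hc2, one_zpow]
    · right
      rw [hj, zpow_add, zpow_mul, hc2, one_zpow, one_mul, zpow_one]
  have hZsq : ∀ x ∈ Z, x ^ 2 = 1 := by
    intro x hx
    rcases hZmem x hx with h1 | h1
    · rw [h1, one_pow]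
    · rw [h1]; exact_mod_cast hc2
  have hZcen : ∀ x ∈ Z, ∀ a : G, a * x = x * a := by
    intro x hx a
    rw [hZ] at hx
    obtain ⟨k, rfl⟩ := Subgroup.mem_zpowers_iff.mp hx
    exact hccomm k a
  have hZn : Z.Normal := by
    constructor
    intro x hx a
    rw [hZcen x hx a, mul_inv_cancel_right]
    exact hx
  have hZcard : Nat.card Z = 2 := by rw [hZ, Nat.card_zpowers, hc]
  have hcardQ : Nat.card (G ⧸ Z) < Nat.card G := by
    have h1 := Subgroup.card_eq_card_quotient_mul_card_subgroup Z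
    rw [hZcard] at h1
    have h2 : 0 < Nat.card (G ⧸ Z) := Nat.card_pos
    omega
  have htZ : t ∉ Z := by
    intro h
    rcases hZmem t h with h1 | h1
    · rw [h1, orderOf_one] at ht; norm_num at ht
    · exact hcen (h1 ▸ hcc)
  -- the image of `t`
  have htq2 : ((t : G ⧸ Z)) ^ 2 = 1 := by
    rw [← QuotientGroup.mk_pow, ← ht, pow_orderOf_eq_one, QuotientGroup.mk_one]
  have htq1 : (t : G ⧸ Z) ≠ 1 := by
    intro h
    exact htZ ((QuotientGroup.eq_one_iff t).mp h)
  have htqo : orderOf (t : G ⧸ Z) = 2 := orderOf_eq_prime htq2 htq1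
  have htqi : IsoInv (t : G ⧸ Z) := by
    intro q hq
    obtain ⟨a, rfl⟩ := QuotientGroup.mk_surjective q
    have hso : orderOf (a * t * a⁻¹) = 2 := by rw [orderOf_conj', ht]
    have e1 := inv_eq_self_of_orderOf_two ht
    have e2 := inv_eq_self_of_orderOf_two hso
    have h1 : ((t * (a * t * a⁻¹)) ^ 2 : G) ∈ Z := by
      have h2 := hq.eq
      have h3 : (((a * t * a⁻¹) * t : G) : G ⧸ Z) = ((t * (a * t * a⁻¹) : G) : G ⧸ Z) := by
        simpa using h2.symm
      have h4 := QuotientGroup.eq.mp h3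
      have h5 : (a * t * a⁻¹ * t)⁻¹ * (t * (a * t * a⁻¹)) = (t * (a * t * a⁻¹)) ^ 2 := by
        rw [mul_inv_rev, e1, e2, sq]
      rwa [h5] at h4
    have h6 : (t * (a * t * a⁻¹)) ^ 2 ^ 2 = 1 := by
      have := hZsq _ h1
      rw [← pow_mul] at this
      exact this
    have h7 := eq_one_of_odd_of_pow_two_pow _ (hti.odd_orderOf_mul_conj ht a) 2 h6
    have h8 : a * t * a⁻¹ = t := by
      have : a * t * a⁻¹ = t⁻¹ := eq_inv_of_mul_eq_one_right h7
      rw [this, e1]
    have h9 : (a : G ⧸ Z) * (t : G ⧸ Z) * (a : G ⧸ Z)⁻¹ = ((a * t * a⁻¹ : G) : G ⧸ Z) := by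
      simp
    rw [h9, h8]
  have hQ := ih _ hcardQ (G ⧸ Z) rfl (t : G ⧸ Z) htqo htqi
  -- the preimage of the core
  obtain ⟨L, hL⟩ : ∃ L : Subgroup G,
      L = (pPrimeCore 2 (G ⧸ Z)).comap (QuotientGroup.mk' Z) := ⟨_, rfl⟩
  haveI hcoren : (pPrimeCore 2 (G ⧸ Z)).Normal := Cfsg.Agent.Lib.Helper01.pPrimeCore_normal 2
  haveI hLn : L.Normal := by rw [hL]; exact Subgroup.Normal.comap hcoren _
  have hxL : t * g * t⁻¹ * g⁻¹ ∈ L := by
    rw [hL, Subgroup.mem_comap]
    have := hQ (g : G ⧸ Z)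
    simpa using this
  have hxodd : Odd (orderOf (t * g * t⁻¹ * g⁻¹)) := by
    rw [comm_eq_mul_conj ht]; exact hti.odd_orderOf_mul_conj ht g
  have hcoreodd : Odd (Nat.card (pPrimeCore 2 (G ⧸ Z))) :=
    Nat.Coprime.odd_of_right (Cfsg.Agent.Lib.Helper01.pPrimeCore_card_coprime 2)
  have hLmem : ∀ x ∈ L, ((x : G) : G ⧸ Z) ∈ pPrimeCore 2 (G ⧸ Z) := by
    intro x hx
    rw [hL, Subgroup.mem_comap] at hx
    exact hx
  let Q₂ : Sylow 2 L := default
  have hQ₂Z : ∀ q : L, q ∈ (Q₂ : Subgroup L) → (q : G) ∈ Z := by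
    intro q hq
    obtain ⟨k, hk⟩ := Q₂.isPGroup' ⟨q, hq⟩
    have hk' : (q : G) ^ 2 ^ k = 1 := by
      have h1 := congrArg Subtype.val hk
      have h2 := congrArg Subtype.val h1
      simpa using h2
    have hmem : ((q : G) : G ⧸ Z) ∈ pPrimeCore 2 (G ⧸ Z) := hLmem (q : G) q.2
    have ho : Odd (orderOf ((q : G) : G ⧸ Z)) :=
      Odd.of_dvd_nat hcoreodd (Subgroup.orderOf_dvd_natCard _ hmem)
    have h1 : (((q : G) : G ⧸ Z)) ^ 2 ^ k = 1 := by
      rw [← QuotientGroup.mk_pow, hk', QuotientGroup.mk_one]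
    have h2 := eq_one_of_odd_of_pow_two_pow _ ho k h1
    exact (QuotientGroup.eq_one_iff _).mp h2
  have hN : Subgroup.normalizer ((Q₂ : Subgroup L) : Set L) ≤
      Subgroup.centralizer ((Q₂ : Subgroup L) : Set L) := by
    intro l _
    rw [Subgroup.mem_centralizer_iff]
    intro q hq
    apply Subtype.ext
    have := hZcen (q : G) (hQ₂Z q hq) (l : G)
    simp only [Subgroup.coe_mul]
    exact this.symm
  have hnc := Cfsg.Agent.Lib.Helper22.exists_index_pPrimeCore_of_normalizer_le Q₂ hN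
  have hreg : ¬ 2 ∣ orderOf (⟨t * g * t⁻¹ * g⁻¹, hxL⟩ : L) := by
    rw [Subgroup.orderOf_mk]
    exact hxodd.not_two_dvd_nat
  have hmem := Cfsg.Agent.S0947.mem_pPrimeCore_of_pRegular 2 hnc _ hreg
  have hmap : t * g * t⁻¹ * g⁻¹ ∈ (pPrimeCore 2 L).map L.subtype := ⟨_, hmem, rfl⟩
  exact Cfsg.Agent.Lib.Helper15.map_pPrimeCore_le_of_normal 2 L hmap

/-- **Glauberman's Z*-theorem**, inductive form, assuming the 2-rank one case. -/
theorem zstar_main (hBS : BS225.{u}) : ∀ n : ℕ, ZStarFor.{u} n := by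
  intro n
  induction n using Nat.strong_induction_on with
  | _ n ih =>
    intro G _ _ hn t ht hti g
    subst hn
    by_cases hcen : t ∈ Subgroup.center G
    · have h1 : t * g = g * t := (Subgroup.mem_center_iff.mp hcen g).symm
      have h2 : t * g * t⁻¹ * g⁻¹ = 1 := by rw [h1]; group
      rw [h2]; exact Subgroup.one_mem _
    by_cases hgen : Subgroup.normalClosure ({t} : Set G) = ⊤
    swap
    · have htM : t ∈ Subgroup.normalClosure ({t} : Set G) :=
        Subgroup.subset_normalClosure rfl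
      exact caseB ht hti (Subgroup.normalClosure ({t} : Set G)) htM
        (fun m hm => subgroup_step ih _ hgen ht hti htM m hm) g
    by_cases hinv : ∃ y : G, orderOf y = 2 ∧ y ≠ t ∧ Commute t y
    · obtain ⟨y, hy, hne, hcomm⟩ := hinv
      by_cases hcz : ∃ c : G, orderOf c = 2 ∧ c ∈ Subgroup.center G
      · obtain ⟨c, hc, hcc⟩ := hcz
        exact caseC2a ih ht hti hcen c hc hcc g
      · push Not at hcz
        exfalso
        exact main_contra ht hti hgen (hIH_of_ih ih hcz) y hy hne hcomm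
    · push Not at hinv
      apply caseC1 hBS ht hti _ g
      intro y hy hc
      by_contra hne
      exact hinv y hy hne hc

/-- **Glauberman's Z*-theorem** (Sylow form), assuming the 2-rank one case. -/
theorem zstar_of_bs (hBS : BS225.{u}) {G : Type u} [Group G] [Finite G] (P : Sylow 2 G) (u : G)
    (hu : orderOf u = 2) (huP : u ∈ P) (hiso : ∀ g : G, g * u * g⁻¹ ∈ P → g * u * g⁻¹ = u) :
    ∃ N : Subgroup G, N.Normal ∧ Odd (Nat.card N) ∧ ∀ g : G, (u * g * u⁻¹ * g⁻¹) ∈ N := by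
  have : Fact (Nat.Prime 2) := ⟨Nat.prime_two⟩
  have hti : IsoInv u := by
    intro g hg
    -- `u` and `g u g⁻¹` commute, so they generate a `2`-group
    have hso : orderOf (g * u * g⁻¹) = 2 := by rw [orderOf_conj', hu]
    have hup : IsPGroup 2 (Subgroup.zpowers u) :=
      IsPGroup.of_card (n := 1) (by rw [Nat.card_zpowers, hu, pow_one])
    have hsp : IsPGroup 2 (Subgroup.zpowers (g * u * g⁻¹)) :=
      IsPGroup.of_card (n := 1) (by rw [Nat.card_zpowers, hso, pow_one])
    have hN : Subgroup.zpowers (g * u * g⁻¹) ≤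
        Subgroup.normalizer (Subgroup.zpowers u : Set G) := by
      rw [Subgroup.zpowers_le]
      have hcz : ∀ h ∈ Subgroup.zpowers u, (g * u * g⁻¹) * h * (g * u * g⁻¹)⁻¹ = h := by
        intro h hh
        obtain ⟨k, rfl⟩ := Subgroup.mem_zpowers_iff.mp hh
        have : Commute (g * u * g⁻¹) (u ^ k) := (hg.symm.zpow_right k)
        rw [this.eq, mul_inv_cancel_right]
      rw [Subgroup.mem_normalizer_iff]
      intro h
      constructor
      · intro hh
        rw [hcz h hh]; exact hh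
      · intro hh
        have h2 := hcz _ hh
        have h3 : (g * u * g⁻¹) * h * (g * u * g⁻¹)⁻¹ = h := by
          have h4 : (g * u * g⁻¹)⁻¹ * ((g * u * g⁻¹) * ((g * u * g⁻¹) * h * (g * u * g⁻¹)⁻¹)
              * (g * u * g⁻¹)⁻¹) * (g * u * g⁻¹)
              = (g * u * g⁻¹)⁻¹ * ((g * u * g⁻¹) * h * (g * u * g⁻¹)⁻¹) * (g * u * g⁻¹) := by
            rw [h2]
          simpa [mul_assoc] using h4
        rw [← h3]; exact hh
    have hAp : IsPGroup 2 (Subgroup.zpowers u ⊔ Subgroup.zpowers (g * u * g⁻¹) : Subgroup G) :=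
      IsPGroup.to_sup_of_normal_left' hup hsp hN
    obtain ⟨S', hS'⟩ := hAp.exists_le_sylow
    obtain ⟨h, hh⟩ := MulAction.exists_smul_eq G P S'
    -- conjugate back into `P`
    have hmemP : ∀ x ∈ (S' : Subgroup G), h⁻¹ * x * h ∈ (P : Subgroup G) := by
      intro x hx
      rw [← hh, Sylow.smul_def, Sylow.pointwise_smul_def,
        Subgroup.mem_pointwise_smul_iff_inv_smul_mem] at hx
      simpa [MulAut.smul_def, MulAut.conj_inv_apply] using hx
    have h1 := hmemP u (hS' ((le_sup_left : Subgroup.zpowers u ≤ _) (Subgroup.mem_zpowers u)))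
    have h2 := hmemP (g * u * g⁻¹)
      (hS' ((le_sup_right : Subgroup.zpowers (g * u * g⁻¹) ≤ _) (Subgroup.mem_zpowers _)))
    have h3 := hiso h⁻¹ (by rwa [inv_inv])
    have h4 := hiso (h⁻¹ * g) (by
      have : h⁻¹ * g * u * (h⁻¹ * g)⁻¹ = h⁻¹ * (g * u * g⁻¹) * h := by group
      rw [this]; exact h2)
    have h5 : h⁻¹ * (g * u * g⁻¹) * h = h⁻¹ * u * h := by
      have e1 : h⁻¹ * g * u * (h⁻¹ * g)⁻¹ = h⁻¹ * (g * u * g⁻¹) * h := by group
      have e2 : h⁻¹ * u * h⁻¹⁻¹ = h⁻¹ * u * h := by group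
      rw [← e1, h4, ← e2, h3]
    have h6 : g * u * g⁻¹ = h * (h⁻¹ * (g * u * g⁻¹) * h) * h⁻¹ := by group
    rw [h6, h5]; group
  refine ⟨pPrimeCore 2 G, Cfsg.Agent.Lib.Helper01.pPrimeCore_normal 2,
    Nat.Coprime.odd_of_right (Cfsg.Agent.Lib.Helper01.pPrimeCore_card_coprime 2), ?_⟩
  exact zstar_main hBS (Nat.card G) G rfl u hu hti

end Cfsg.Agent.Lib.Helper42.ZStar
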