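import Mathlib

set_option autoImplicit false
set_option linter.unusedVariables false

/-! K-S2721-B2 (keystone 272105, S2721/S2720, architect helper7): an isometry `S` of a nondegenerate
quadratic form with `S ^ r = 1`, `r` invertible in `F`, which fixes a nonzero vector, fixes an
anisotropic vector.  Mathlib only. -/

namespace Cfsg.Agent.Lib.Helper42.S2721K

open Module Matrix

universe u

variable {F : Type u} [Field F] {ι : Type} [Fintype ι] [DecidableEq ι]

/-- K-S2721-B2 (a nonzero fixed vector gives an anisotropic fixed vector). -/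
theorem exists_fixed_anisotropic (Q : QuadraticForm F (ι → F))
    (hQ : (QuadraticMap.polarBilin Q).Nondegenerate) {r : ℕ} (hr0 : 0 < r) (hrF : (r : F) ≠ 0)
    (S : Matrix ι ι F) (hS : ∀ v, Q (S *ᵥ v) = Q v) (hSr : S ^ r = 1)
    (w : ι → F) (hw : S *ᵥ w = w) (hw0 : w ≠ 0) : ∃ u : ι → F, S *ᵥ u = u ∧ Q u ≠ 0 := by
  by_contra hcon
  push Not at hcon
  have hpowQ : ∀ (j : ℕ) (v : ι → F), Q ((S ^ j) *ᵥ v) = Q v := by
    intro j
    induction j with
    | zero => intro v; rw [pow_zero, Matrix.one_mulVec]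
    | succ j ih => intro v; rw [pow_succ', ← Matrix.mulVec_mulVec, hS, ih]
  have hpoww : ∀ j : ℕ, (S ^ j) *ᵥ w = w := by
    intro j
    induction j with
    | zero => rw [pow_zero, Matrix.one_mulVec]
    | succ j ih => rw [pow_succ, ← Matrix.mulVec_mulVec, hw, ih]
  have hpolar : ∀ (j : ℕ) (x y : ι → F),
      QuadraticMap.polar Q ((S ^ j) *ᵥ x) ((S ^ j) *ᵥ y) = QuadraticMap.polar Q x y := by
    intro j x y
    unfold QuadraticMap.polar
    rw [← Matrix.mulVec_add, hpowQ, hpowQ, hpowQ]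
  have hefix : ∀ v : ι → F, S *ᵥ ((r : F)⁻¹ • ∑ j ∈ Finset.range r, (S ^ j) *ᵥ v) =
      (r : F)⁻¹ • ∑ j ∈ Finset.range r, (S ^ j) *ᵥ v := by
    intro v
    rw [← Matrix.mulVecLin_apply, map_smul, map_sum]
    congr 1
    have h1 : ∀ j : ℕ, S.mulVecLin ((S ^ j) *ᵥ v) = (S ^ (j + 1)) *ᵥ v := by
      intro j
      rw [Matrix.mulVecLin_apply, Matrix.mulVec_mulVec, ← pow_succ']
    simp only [h1]
    have h2 := Finset.sum_range_succ (fun j => (S ^ j) *ᵥ v) r
    have h3 := Finset.sum_range_succ' (fun j => (S ^ j) *ᵥ v) r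
    rw [h2] at h3
    simp only [hSr, pow_zero] at h3
    exact (add_right_cancel h3).symm
  have hB : ∀ v : ι → F,
      QuadraticMap.polarBilin Q w ((r : F)⁻¹ • ∑ j ∈ Finset.range r, (S ^ j) *ᵥ v) =
        QuadraticMap.polarBilin Q w v := by
    intro v
    rw [map_smul, map_sum]
    have h1 : ∀ j ∈ Finset.range r,
        QuadraticMap.polarBilin Q w ((S ^ j) *ᵥ v) = QuadraticMap.polarBilin Q w v := by
      intro j _
      rw [QuadraticMap.polarBilin_apply_apply, QuadraticMap.polarBilin_apply_apply]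
      conv_lhs => rw [← hpoww j]
      exact hpolar j w v
    rw [Finset.sum_congr rfl h1, Finset.sum_const, Finset.card_range, nsmul_eq_mul, smul_eq_mul,
      ← mul_assoc, inv_mul_cancel₀ hrF, one_mul]
  have hzero : ∀ v : ι → F, QuadraticMap.polarBilin Q w v = 0 := by
    intro v
    rw [← hB v, QuadraticMap.polarBilin_apply_apply]
    unfold QuadraticMap.polar
    have h1 : S *ᵥ (w + (r : F)⁻¹ • ∑ j ∈ Finset.range r, (S ^ j) *ᵥ v) =
        w + (r : F)⁻¹ • ∑ j ∈ Finset.range r, (S ^ j) *ᵥ v := by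
      rw [Matrix.mulVec_add, hw, hefix]
    rw [hcon _ h1, hcon _ hw, hcon _ (hefix v)]
    ring
  exact hw0 (hQ.1 w hzero)

end Cfsg.Agent.Lib.Helper42.S2721K
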