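import Mathlib
import Cfsg.Prelude.Def_GeometricClasses
import Cfsg.Agent.Lib.Helper61.AschDefs

/-!
# K-S5630-A1: Clifford for a normalized subalgebra (keystone for S5630, architect helper61)
-/

set_option autoImplicit false

namespace Cfsg.Agent.Lib.Helper42.Asch

open Cfsg Cfsg.Geo Cfsg.Agent.Lib.Helper61.Asch
open scoped Matrix Kronecker MatrixGroups

variable {F : Type*} [Field F] {n : ℕ}

local notation "V" => (Fin n → F)
local notation "Mat" => Matrix (Fin n) (Fin n) F

/-- comap of an `A`-submodule under an invertible matrix normalizing `A` -/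
def cmap (A : Subalgebra F Mat) (k : GL (Fin n) F)
    (hk : ∀ x ∈ A, (k : Mat) * x * ((k⁻¹ : GL (Fin n) F) : Mat) ∈ A) (N : Submodule A V) :
    Submodule A V where
  carrier := {v | (k : Mat) *ᵥ v ∈ N}
  add_mem' := by
    intro a b ha hb
    simp only [Set.mem_ofPred_eq, Matrix.mulVec_add] at ha hb ⊢
    exact N.add_mem ha hb
  zero_mem' := by simp
  smul_mem' := by
    intro a v hv
    simp only [Set.mem_ofPred_eq] at hv ⊢
    have h1 : (k : Mat) *ᵥ (a • v) =
        (⟨(k : Mat) * (a : Mat) * ((k⁻¹ : GL (Fin n) F) : Mat), hk a a.2⟩ : A) • ((k : Mat) *ᵥ v) := by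
      show (k : Mat) *ᵥ ((a : Mat) *ᵥ v) =
        ((k : Mat) * (a : Mat) * ((k⁻¹ : GL (Fin n) F) : Mat)) *ᵥ ((k : Mat) *ᵥ v)
      rw [Matrix.mulVec_mulVec, Matrix.mulVec_mulVec, Matrix.mul_assoc, Matrix.mul_assoc]
      congr 2
      rw [show ((k⁻¹ : GL (Fin n) F) : Mat) * (k : Mat) = 1 from by
        rw [← Units.val_mul, inv_mul_cancel, Units.val_one], Matrix.mul_one]
    rw [h1]
    exact N.smul_mem _ hv

theorem mem_cmap (A : Subalgebra F Mat) (k : GL (Fin n) F)
    (hk : ∀ x ∈ A, (k : Mat) * x * ((k⁻¹ : GL (Fin n) F) : Mat) ∈ A) (N : Submodule A V) (v : V) :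
    v ∈ cmap A k hk N ↔ (k : Mat) *ᵥ v ∈ N := Iff.rfl

theorem cmap_mono (A : Subalgebra F Mat) (k : GL (Fin n) F)
    (hk : ∀ x ∈ A, (k : Mat) * x * ((k⁻¹ : GL (Fin n) F) : Mat) ∈ A) {N N' : Submodule A V}
    (h : N ≤ N') : cmap A k hk N ≤ cmap A k hk N' := fun _ hv => h hv

theorem cmap_cmap (A : Subalgebra F Mat) (k k' : GL (Fin n) F)
    (hk : ∀ x ∈ A, (k : Mat) * x * ((k⁻¹ : GL (Fin n) F) : Mat) ∈ A)
    (hk' : ∀ x ∈ A, (k' : Mat) * x * ((k'⁻¹ : GL (Fin n) F) : Mat) ∈ A)
    (hkk : k' * k = 1) (N : Submodule A V) :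
    cmap A k hk (cmap A k' hk' N) = N := by
  ext v
  rw [mem_cmap, mem_cmap, Matrix.mulVec_mulVec, ← Units.val_mul, hkk, Units.val_one,
    Matrix.one_mulVec]

/-- K-S5630-A1. -/
theorem isSemisimpleModule_of_normAlg [Fintype F] (K : Subgroup (GL (Fin n) F))
    (A : Subalgebra F Mat)
    (hK : ActsIrreducibly (matrixSet K)) (hKA : NormAlg K A) :
    IsSemisimpleModule A V := by
  classical
  apply IsSemisimpleModule.of_sSup_simples_eq_top
  set T : Submodule A V := sSup {m : Submodule A V | IsSimpleModule A m} with hT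
  have : Finite (Submodule A V) :=
    Finite.of_injective (fun N : Submodule A V => (N : Set V)) SetLike.coe_injective
  -- the order isomorphism
  have hiso : ∀ (k : GL (Fin n) F) (hk : k ∈ K) (m : Submodule A V), IsAtom m →
      IsAtom (cmap A k (hKA k hk) m) := by
    intro k hk m hm
    have hk1 := hKA k hk
    have hk2 := hKA k⁻¹ (K.inv_mem hk)
    let e : Submodule A V ≃o Submodule A V :=
      { toFun := cmap A k hk1
        invFun := cmap A k⁻¹ hk2
        left_inv := fun N => cmap_cmap A k⁻¹ k hk2 hk1 (by simp) N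
        right_inv := fun N => cmap_cmap A k k⁻¹ hk1 hk2 (by simp) N
        map_rel_iff' := by
          intro N N'
          show cmap A k hk1 N ≤ cmap A k hk1 N' ↔ N ≤ N'
          constructor
          · intro h
            have := cmap_mono A k⁻¹ hk2 h
            rwa [cmap_cmap A k⁻¹ k hk2 hk1 (by simp), cmap_cmap A k⁻¹ k hk2 hk1 (by simp)] at this
          · intro h
            exact cmap_mono A k hk1 h }
    exact (e.isAtom_iff m).mpr hm
  have hinv : ∀ k ∈ K, ∀ v ∈ T, (k : Mat) *ᵥ v ∈ T := by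
    intro k hk
    have hk1 := hKA k hk
    have hk2 := hKA k⁻¹ (K.inv_mem hk)
    have hle : T ≤ cmap A k hk1 T := by
      apply sSup_le
      intro m hm
      have hm' : IsAtom m := isSimpleModule_iff_isAtom.mp hm
      have h2 : IsAtom (cmap A k⁻¹ hk2 m) := hiso k⁻¹ (K.inv_mem hk) m hm'
      have h3 : cmap A k⁻¹ hk2 m ≤ T := le_sSup (isSimpleModule_iff_isAtom.mpr h2)
      have h4 := cmap_mono A k hk1 h3
      rwa [cmap_cmap A k k⁻¹ hk1 hk2 (by simp)] at h4
    intro v hv
    exact hle hv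
  -- irreducibility
  have h5 := hK (T.restrictScalars F) (by
    rintro s ⟨k, hk, rfl⟩
    rintro _ ⟨v, hv, rfl⟩
    exact hinv k hk v hv)
  rcases h5 with h5 | h5
  · -- T = ⊥ : no atoms, so ⊤ = ⊥
    have hTbot : T = ⊥ := by
      rw [eq_bot_iff]
      intro v hv
      have : v ∈ T.restrictScalars F := hv
      rw [h5] at this
      simpa using this
    by_contra hne
    have hne' : (⊤ : Submodule A V) ≠ ⊥ := by
      intro h
      apply hne
      rw [hTbot, h]
    obtain ⟨a, ha, -⟩ := (eq_bot_or_exists_atom_le (⊤ : Submodule A V)).resolve_left hne'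
    have : a ≤ T := le_sSup (isSimpleModule_iff_isAtom.mpr ha)
    rw [hTbot] at this
    exact ha.1 (le_bot_iff.mp this)
  · rw [eq_top_iff]
    intro v _
    have : v ∈ T.restrictScalars F := by rw [h5]; trivial
    exact this

end Cfsg.Agent.Lib.Helper42.Asch
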