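import Mathlib
import Cfsg.Prelude.Def_GeometricClasses
import Cfsg.Agent.Lib.Helper61.AschDefs
import Cfsg.Agent.Lib.Helper61.AschBasic
import Cfsg.Agent.Lib.Helper46.AschOBasic
import Cfsg.Agent.Lib.Helper30.AschOA2b

/-!
# K-OEven-A2p (helper42, architect helper46): the orthogonal complement of an isotypic component is the sum of all
components but one (first half of helper30's `isOrthogonalMDecomposition_of_components`, characteristic free)
-/

set_option autoImplicit false

namespace Cfsg.Agent.Lib.Helper42.AschE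

open Cfsg Cfsg.Geo Cfsg.Agent.Lib.Helper61.Asch Cfsg.Agent.Lib.Helper46.AschO Cfsg.Agent.Lib.Helper30.AschO
open scoped Matrix Kronecker MatrixGroups

variable {F : Type*} [Field F] [Fintype F] {n : ℕ}

local notation "V" => (Fin n → F)
local notation "Mat" => Matrix (Fin n) (Fin n) F

/-- **K-OEven-A2p.** -/
theorem components_pairing (Q : V → F) (hQ : IsNondegenerateQuadraticForm Q)
    (A : Subalgebra F Mat) (hA : ∀ x ∈ A, adjQ Q x ∈ A)
    (t m : ℕ) (D : Fin t → Submodule F V) (hD : IsMDecomposition m D)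
    (hinvA : ∀ i, ∀ a ∈ A, (D i).map (Matrix.toLin' a) ≤ D i)
    (hinvC : ∀ i, ∀ M : Mat, (∀ a ∈ A, M * a = a * M) → (D i).map (Matrix.toLin' M) ≤ D i)
    (hfull : ∀ W : Submodule F V, (∀ a ∈ A, W.map (Matrix.toLin' a) ≤ W) →
        (∀ M : Mat, (∀ a ∈ A, M * a = a * M) → W.map (Matrix.toLin' M) ≤ W) →
        ∃ s : Finset (Fin t), W = ⨆ i ∈ s, D i) :
    ∀ i, ∃ j, ∀ l, l ≠ j → AreOrthogonalFor (QuadraticMap.polar Q) (D i) (D l) := by
  classical
  have horth_symm : ∀ i j, AreOrthogonalFor (QuadraticMap.polar Q) (D i) (D j) →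
      AreOrthogonalFor (QuadraticMap.polar Q) (D j) (D i) := by
    intro i j h u hu v hv
    rw [QuadraticMap.polar_comm]
    exact h v hv u hu
  have hs : ∀ i, ∃ s : Finset (Fin t), perpQ Q hQ (D i) = ⨆ j ∈ s, D j := fun i =>
    hfull _ (perpQ_invariant_alg Q hQ A hA (D i) (hinvA i))
      (perpQ_invariant_comm Q hQ A hA (D i) (hinvC i))
  choose s hs using hs
  have hs_orth : ∀ i j, j ∈ s i → AreOrthogonalFor (QuadraticMap.polar Q) (D i) (D j) := by
    intro i j hj u hu v hv
    have hv' : v ∈ perpQ Q hQ (D i) := by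
      rw [hs i]
      exact (le_iSup₂ (f := fun j (_ : j ∈ s i) => D j) j hj) hv
    exact hv' u hu
  have hn : t * m = n := Cfsg.Agent.Lib.Helper36.SLMax.mul_eq_of_isMDecomposition D hD
  have hcard : ∀ i, t ≤ (s i).card + 1 := by
    intro i
    have h1 := le_finrank_add_finrank_perpQ Q hQ (D i)
    rw [hs i, Cfsg.Agent.Lib.Helper40.EigLA.finrank_biSup_of_indep D hD.indep (s i)] at h1
    simp only [hD.finrank_eq, Finset.sum_const, smul_eq_mul] at h1
    have h3 : t * m ≤ ((s i).card + 1) * m := by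
      rw [hn, add_mul, one_mul, add_comm]
      exact h1
    exact Nat.le_of_mul_le_mul_right h3 hD.pos
  have hex : ∀ i, ∃ j, ¬ AreOrthogonalFor (QuadraticMap.polar Q) (D i) (D j) := by
    intro i
    have hne : D i ≠ ⊥ := by
      intro h
      have h3 := hD.finrank_eq i
      rw [h, finrank_bot] at h3
      exact hD.pos.ne h3
    obtain ⟨w, hw, hw0⟩ := Submodule.exists_mem_ne_zero_of_ne_bot hne
    obtain ⟨j, x, hx, hxw⟩ := exists_polar_ne_zero Q hQ D hD.iSup_eq_top w hw0
    exact ⟨j, fun h => hxw (horth_symm i j h x hx w hw)⟩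
  have huniq : ∀ i j k, ¬ AreOrthogonalFor (QuadraticMap.polar Q) (D i) (D j) →
      ¬ AreOrthogonalFor (QuadraticMap.polar Q) (D i) (D k) → j = k := by
    intro i j k hj hk
    by_contra hjk
    have hj' : j ∉ s i := fun h => hj (hs_orth i j h)
    have hk' : k ∉ s i := fun h => hk (hs_orth i k h)
    have hsub : s i ⊆ (Finset.univ.erase j).erase k := by
      intro x hx
      rw [Finset.mem_erase, Finset.mem_erase]
      refine ⟨fun h => hk' (h ▸ hx), fun h => hj' (h ▸ hx), Finset.mem_univ _⟩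
    have hc := Finset.card_le_card hsub
    rw [Finset.card_erase_of_mem (by
        rw [Finset.mem_erase]
        exact ⟨fun h => hjk h.symm, Finset.mem_univ _⟩),
      Finset.card_erase_of_mem (Finset.mem_univ _), Finset.card_univ, Fintype.card_fin] at hc
    have h3 := hcard i
    have h4 := hD.two_le
    omega
  intro i
  obtain ⟨j, hj⟩ := hex i
  refine ⟨j, fun l hl => ?_⟩
  by_contra hno
  exact hl (huniq i l j hno hj)

end Cfsg.Agent.Lib.Helper42.AschE
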