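import Mathlib
import Cfsg.Prelude.Def_GeometricClasses
import Cfsg.Agent.Lib.Helper61.AschDefs
import Cfsg.Agent.Lib.Helper43.SpAschDefs
import Cfsg.Agent.Lib.Helper43.SpAschDefs2
import Cfsg.Agent.Lib.Helper04.AschE3a

/-!
# K-SpAsch-Eb2 (helper42, architect helper43): a group of similarities permuting the tensor factors transitively
forces all the signs `ε i` of the factor Gram matrices to be equal

The adjoint involution of the form on the `i`-th factor algebra is `x ↦ (G i)⁻¹ xᵀ (G i)`; conjugation by a similarity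
carrying factor `i` onto factor `j` intertwines the involutions.  The factor algebra contains a non-zero self-adjoint
element `X` with `X Y X ∈ F X` for all `Y` in the factor iff `G i` is symmetric (`q` odd).
-/

set_option autoImplicit false

namespace Cfsg.Agent.Lib.Helper42.SpAsch

open Cfsg Cfsg.Geo Cfsg.Agent.Lib.Helper61.Asch Cfsg.Agent.Lib.Helper43.SpAsch
open scoped Matrix Kronecker MatrixGroups

local notation "pA" => Cfsg.Agent.Lib.Helper04.Asch.pureAt
local notation "PT" => Cfsg.Agent.Lib.Helper04.Asch.PT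

variable {F : Type*} [Field F] {n m t : ℕ}

local notation "V" => (Fin n → F)
local notation "Mat" => Matrix (Fin n) (Fin n) F
local notation "W" => (Fin t → Fin m)
local notation "MW" => Matrix (Fin t → Fin m) (Fin t → Fin m) F
local notation "Mm" => Matrix (Fin m) (Fin m) F

/-! ## small matrix lemmas -/

theorem mul_single_mul_apply (z z' : Mm) (a b p q : Fin m) :
    (z * Matrix.single b a (1 : F) * z') p q = z p b * z' a q := by
  rw [Matrix.mul_apply, Finset.sum_eq_single a]
  · rw [Matrix.mul_apply, Finset.sum_eq_single b]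
    · simp [Matrix.single_apply]
    · intro j _ hj
      simp [Matrix.single_apply, Ne.symm hj]
    · simp
  · intro x _ hx
    rw [Matrix.mul_apply]
    simp [Matrix.single_apply, Ne.symm hx]
  · simp

theorem val_inv_mul (P : GL (Fin n) F) : ((P⁻¹ : GL (Fin n) F) : Mat) * (P : Mat) = 1 := by
  rw [← Units.val_mul, inv_mul_cancel, Units.val_one]

theorem val_mul_inv (P : GL (Fin n) F) : (P : Mat) * ((P⁻¹ : GL (Fin n) F) : Mat) = 1 := by
  rw [← Units.val_mul, mul_inv_cancel, Units.val_one]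

/-! ## the coordinates `(e, P)` -/

/-- the matrix on `Fin n` of a matrix on `Fin t → Fin m` in the coordinates `(e, P)` -/
def lift (e : Fin n ≃ W) (P : GL (Fin n) F) (M : MW) : Mat :=
  (P : Mat) * Matrix.reindex e.symm e.symm M * ((P⁻¹ : GL (Fin n) F) : Mat)

theorem reindex_mul (e : Fin n ≃ W) (M M' : MW) :
    Matrix.reindex e.symm e.symm (M * M') = Matrix.reindex e.symm e.symm M * Matrix.reindex e.symm e.symm M' := by
  simp only [Matrix.reindex_apply, Matrix.submatrix_mul_equiv]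

theorem lift_mul (e : Fin n ≃ W) (P : GL (Fin n) F) (M M' : MW) :
    lift e P (M * M') = lift e P M * lift e P M' := by
  unfold lift
  rw [reindex_mul]
  simp only [mul_assoc]
  rw [← mul_assoc ((P⁻¹ : GL (Fin n) F) : Mat) (P : Mat), val_inv_mul, one_mul]

theorem lift_smul (e : Fin n ≃ W) (P : GL (Fin n) F) (c : F) (M : MW) :
    lift e P (c • M) = c • lift e P M := by
  unfold lift
  rw [show Matrix.reindex e.symm e.symm (c • M) = c • Matrix.reindex e.symm e.symm M from rfl,
    Matrix.mul_smul, Matrix.smul_mul]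

theorem reindex_eq_of_lift (e : Fin n ≃ W) (P : GL (Fin n) F) (M : MW) :
    Matrix.reindex e.symm e.symm M = ((P⁻¹ : GL (Fin n) F) : Mat) * lift e P M * (P : Mat) := by
  unfold lift
  calc Matrix.reindex e.symm e.symm M
      = (((P⁻¹ : GL (Fin n) F) : Mat) * (P : Mat)) * Matrix.reindex e.symm e.symm M
          * (((P⁻¹ : GL (Fin n) F) : Mat) * (P : Mat)) := by rw [val_inv_mul, one_mul, mul_one]
    _ = _ := by simp only [mul_assoc]

theorem lift_injective (e : Fin n ≃ W) (P : GL (Fin n) F) : Function.Injective (lift (m := m) (t := t) e P) := by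
  intro M M' h
  apply (Matrix.reindex e.symm e.symm).injective
  rw [reindex_eq_of_lift e P M, reindex_eq_of_lift e P M', h]

theorem lift_mulVec (e : Fin n ≃ W) (P : GL (Fin n) F) (M : MW) (x : W → F) :
    lift e P M *ᵥ ((P : Mat) *ᵥ (x ∘ e)) = (P : Mat) *ᵥ ((M *ᵥ x) ∘ e) := by
  unfold lift
  rw [Matrix.mulVec_mulVec, mul_assoc, mul_assoc, val_inv_mul, mul_one, ← Matrix.mulVec_mulVec]
  congr 1
  rw [Matrix.reindex_apply, Matrix.submatrix_mulVec_equiv]
  congr 2
  funext a
  simp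

theorem exists_coord (e : Fin n ≃ W) (P : GL (Fin n) F) (u : V) : ∃ x : W → F, u = (P : Mat) *ᵥ (x ∘ e) := by
  refine ⟨(((P⁻¹ : GL (Fin n) F) : Mat) *ᵥ u) ∘ e.symm, ?_⟩
  have h : ((((P⁻¹ : GL (Fin n) F) : Mat) *ᵥ u) ∘ e.symm) ∘ e = ((P⁻¹ : GL (Fin n) F) : Mat) *ᵥ u := by
    funext a
    simp
  rw [h, Matrix.mulVec_mulVec, val_mul_inv, Matrix.one_mulVec]

/-! ## the form in coordinates -/

theorem PT_transpose (a : Fin t → Mm) : (PT a)ᵀ = PT (fun i => (a i)ᵀ) := by
  ext u v
  rfl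

theorem form_eq {f : V → V → F} {e : Fin n ≃ W} {P : GL (Fin n) F} {c : F} {G : Fin t → Mm}
    (hform : IsPowerForm f m t e P c G) (x y : W → F) :
    f ((P : Mat) *ᵥ (x ∘ e)) ((P : Mat) *ᵥ (y ∘ e)) = c * (x ⬝ᵥ (PT G *ᵥ y)) := by
  rw [hform x y]
  congr 1
  simp only [dotProduct, Matrix.mulVec, Cfsg.Agent.Lib.Helper04.Asch.PT_apply, Finset.mul_sum, mul_assoc]

/-- adjoints in coordinates -/
theorem adjoint_lift {f : V → V → F} {e : Fin n ≃ W} {P : GL (Fin n) F} {c : F} {G : Fin t → Mm}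
    (hform : IsPowerForm f m t e P c G) (M M' : MW) (h : Mᵀ * PT G = PT G * M') (u v : V) :
    f (lift e P M *ᵥ u) v = f u (lift e P M' *ᵥ v) := by
  obtain ⟨x, rfl⟩ := exists_coord e P u
  obtain ⟨y, rfl⟩ := exists_coord e P v
  rw [lift_mulVec, lift_mulVec, form_eq hform, form_eq hform]
  congr 1
  rw [Matrix.mulVec_mulVec, ← h, ← Matrix.mulVec_mulVec, Matrix.dotProduct_mulVec x, Matrix.vecMul_transpose]

theorem pureAt_transpose_mul_PT (G : Fin t → Mm) (i : Fin t) (x : Mm) :
    (pA m t i x)ᵀ * PT G = PT (Function.update G i (xᵀ * G i)) := by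
  rw [Cfsg.Agent.Lib.Helper04.Asch.pureAt_eq_PT, PT_transpose, Cfsg.Agent.Lib.Helper04.Asch.PT_mul]
  congr 1
  funext l
  by_cases h : l = i
  · subst h
    simp [Function.update_self]
  · simp [Function.update_of_ne h]

theorem PT_mul_pureAt (G : Fin t → Mm) (i : Fin t) (y : Mm) :
    PT G * pA m t i y = PT (Function.update G i (G i * y)) := by
  rw [Cfsg.Agent.Lib.Helper04.Asch.pureAt_eq_PT, Cfsg.Agent.Lib.Helper04.Asch.PT_mul]
  congr 1
  funext l
  by_cases h : l = i
  · subst h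
    simp [Function.update_self]
  · simp [Function.update_of_ne h]

/-- the adjoint of an element of the `i`-th factor -/
theorem adjoint_factor {f : V → V → F} {e : Fin n ≃ W} {P : GL (Fin n) F} {c : F} {G : Fin t → Mm}
    (hform : IsPowerForm f m t e P c G) (i : Fin t) (x y : Mm) (h : xᵀ * G i = G i * y) (u v : V) :
    f (lift e P (pA m t i x) *ᵥ u) v = f u (lift e P (pA m t i y) *ᵥ v) := by
  apply adjoint_lift hform
  rw [pureAt_transpose_mul_PT, PT_mul_pureAt, h]

theorem mem_factorSet_iff (e : Fin n ≃ W) (P : GL (Fin n) F) (i : Fin t) (X : Mat) :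
    X ∈ factorSet m t e P i ↔ ∃ x : Mm, lift e P (pA m t i x) = X := Iff.rfl

theorem lift_pureAt_injective (e : Fin n ≃ W) (P : GL (Fin n) F) (i : Fin t) :
    Function.Injective (fun x : Mm => lift e P (pA m t i x)) :=
  (lift_injective e P).comp (Cfsg.Agent.Lib.Helper04.Asch.pureAt_injective i)

/-! ## the invariant -/

/-- self-adjoint matrices -/
def SelfAdj (f : V → V → F) (X : Mat) : Prop := ∀ u v : V, f (X *ᵥ u) v = f u (X *ᵥ v)

/-- the set `S` contains a non-zero self-adjoint `X` with `X S X ⊆ F X` -/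
def HasRankOne (f : V → V → F) (S : Set Mat) : Prop :=
  ∃ X ∈ S, X ≠ 0 ∧ SelfAdj f X ∧ ∀ Y ∈ S, ∃ l : F, X * Y * X = l • X

theorem hasRankOne_of_symm {f : V → V → F} {e : Fin n ≃ W} {P : GL (Fin n) F} {c : F} {G : Fin t → Mm}
    (hform : IsPowerForm f m t e P c G) (hm : 0 < m) (i : Fin t) (hG : IsUnit (G i)) (hsymm : (G i)ᵀ = G i) :
    HasRankOne f (factorSet m t e P i) := by
  set E : Mm := Matrix.single ⟨0, hm⟩ ⟨0, hm⟩ (1 : F) with hE
  have hdet : IsUnit (G i).det := (Matrix.isUnit_iff_isUnit_det _).1 hG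
  have hx0 : E * G i ≠ 0 := by
    intro h
    have h1 : E = 0 := by
      calc E = E * G i * (G i)⁻¹ := by rw [mul_assoc, Matrix.mul_nonsing_inv _ hdet, mul_one]
        _ = 0 := by rw [h, zero_mul]
    have h2 := congrFun (congrFun h1 ⟨0, hm⟩) ⟨0, hm⟩
    rw [hE, Matrix.single_apply] at h2
    simp at h2
  have hET : Eᵀ = E := by
    rw [hE, Matrix.transpose_single]
  refine ⟨lift e P (pA m t i (E * G i)), (mem_factorSet_iff e P i _).2 ⟨E * G i, rfl⟩, ?_, ?_, ?_⟩
  · intro h
    have h0 : lift e P (pA m t i (0 : Mm)) = 0 := by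
      have := lift_smul e P (0 : F) (pA m t i (0 : Mm))
      rw [zero_smul, zero_smul] at this
      have h3 : pA m t i (0 : Mm) = (0 : MW) := by
        have := Cfsg.Agent.Lib.Helper04.Asch.pureAt_smul (m := m) (t := t) i (0 : F) (0 : Mm)
        rwa [zero_smul, zero_smul] at this
      rw [h3]
      exact this
    exact hx0 (lift_pureAt_injective e P i (h.trans h0.symm))
  · intro u v
    apply adjoint_factor hform
    rw [Matrix.transpose_mul, hsymm, hET, mul_assoc]
  · intro Y hY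
    obtain ⟨y, rfl⟩ := (mem_factorSet_iff e P i Y).1 hY
    refine ⟨(G i * y) ⟨0, hm⟩ ⟨0, hm⟩, ?_⟩
    rw [← lift_mul, ← lift_mul, ← Cfsg.Agent.Lib.Helper04.Asch.pureAt_mul, ← Cfsg.Agent.Lib.Helper04.Asch.pureAt_mul,
      ← lift_smul, ← Cfsg.Agent.Lib.Helper04.Asch.pureAt_smul]
    congr 2
    calc E * G i * y * (E * G i) = (E * (G i * y) * E) * G i := by simp only [mul_assoc]
      _ = (Matrix.single ⟨0, hm⟩ ⟨0, hm⟩ ((1 : F) * (G i * y) ⟨0, hm⟩ ⟨0, hm⟩ * 1)) * G i := by
          rw [hE, Matrix.single_mul_mul_single]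
      _ = ((G i * y) ⟨0, hm⟩ ⟨0, hm⟩) • (E * G i) := by
          rw [one_mul, mul_one, hE, ← Matrix.smul_mul, Matrix.smul_single, smul_eq_mul, mul_one]

theorem not_hasRankOne_of_skew {f : V → V → F} (hf : IsSymplecticForm f) (h2 : (2 : F) ≠ 0)
    {e : Fin n ≃ W} {P : GL (Fin n) F} {c : F} {G : Fin t → Mm}
    (hform : IsPowerForm f m t e P c G) (i : Fin t) (hG : IsUnit (G i)) (hskew : (G i)ᵀ = -G i) :
    ¬ HasRankOne f (factorSet m t e P i) := by
  rintro ⟨X, hXS, hX0, hXsa, hXr⟩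
  obtain ⟨x, rfl⟩ := (mem_factorSet_iff e P i X).1 hXS
  have hdet : IsUnit (G i).det := (Matrix.isUnit_iff_isUnit_det _).1 hG
  -- the adjoint of `X`
  set x' : Mm := (G i)⁻¹ * xᵀ * G i with hx'
  have hadj : ∀ u v : V, f (lift e P (pA m t i x) *ᵥ u) v = f u (lift e P (pA m t i x') *ᵥ v) := by
    intro u v
    apply adjoint_factor hform
    rw [hx', ← mul_assoc, ← mul_assoc, Matrix.mul_nonsing_inv _ hdet, one_mul]
  -- uniqueness of the adjoint
  have heq : lift e P (pA m t i x) = lift e P (pA m t i x') := by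
    have hb := hf.bilinear
    have h0 : ∀ v : V, (lift e P (pA m t i x) - lift e P (pA m t i x')) *ᵥ v = 0 := by
      intro v
      by_contra hne
      obtain ⟨⟨w, hw⟩, _⟩ := hf.nondegenerate _ hne
      apply hw
      rw [Matrix.sub_mulVec, sub_eq_add_neg, hb.add_right, ← neg_one_smul F, hb.smul_right, ← hXsa w v, hadj w v]
      ring
    have h1 : lift e P (pA m t i x) - lift e P (pA m t i x') = 0 := by
      apply Matrix.toLin'.injective
      apply LinearMap.ext
      intro v
      rw [Matrix.toLin'_apply, h0 v]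
      simp
    exact sub_eq_zero.1 h1
  have hxx' : x = x' := lift_pureAt_injective e P i heq
  -- `z = G x` is skew and non-zero
  have hGx : G i * x = xᵀ * G i := by
    conv_lhs => rw [hxx', hx']
    rw [← mul_assoc, ← mul_assoc, Matrix.mul_nonsing_inv _ hdet, one_mul]
  set z : Mm := G i * x with hz
  have hzT : zᵀ = -z := by
    rw [hz, Matrix.transpose_mul, hskew, Matrix.mul_neg, ← hGx]
  have hx0 : x ≠ 0 := by
    rintro rfl
    apply hX0
    have h3 : pA m t i (0 : Mm) = (0 : MW) := by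
      have := Cfsg.Agent.Lib.Helper04.Asch.pureAt_smul (m := m) (t := t) i (0 : F) (0 : Mm)
      rwa [zero_smul, zero_smul] at this
    rw [h3]
    have := lift_smul e P (0 : F) (0 : MW)
    rwa [zero_smul, zero_smul] at this
  have hz0 : z ≠ 0 := by
    intro h
    apply hx0
    calc x = (G i)⁻¹ * (G i * x) := by rw [← mul_assoc, Matrix.nonsing_inv_mul _ hdet, one_mul]
      _ = 0 := by rw [← hz, h, mul_zero]
  have hdiag : ∀ p, z p p = 0 := by
    intro p
    have h := congrFun (congrFun hzT p) p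
    rw [Matrix.transpose_apply, Matrix.neg_apply] at h
    have h3 : (2 : F) * z p p = 0 := by linear_combination h
    rcases mul_eq_zero.1 h3 with h4 | h4
    · exact absurd h4 h2
    · exact h4
  obtain ⟨a, b, hab⟩ : ∃ a b, z a b ≠ 0 := by
    by_contra hne
    push_neg at hne
    apply hz0
    ext a b
    exact hne a b
  have hba : z b a = -z a b := by
    have h := congrFun (congrFun hzT a) b
    rwa [Matrix.transpose_apply, Matrix.neg_apply] at h
  -- the rank one condition for `y = E_ba G`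
  obtain ⟨l, hl⟩ := hXr (lift e P (pA m t i (Matrix.single b a (1 : F) * G i)))
    ((mem_factorSet_iff e P i _).2 ⟨_, rfl⟩)
  rw [← lift_mul, ← lift_mul, ← Cfsg.Agent.Lib.Helper04.Asch.pureAt_mul, ← Cfsg.Agent.Lib.Helper04.Asch.pureAt_mul,
    ← lift_smul, ← Cfsg.Agent.Lib.Helper04.Asch.pureAt_smul] at hl
  have hl' : x * (Matrix.single b a (1 : F) * G i) * x = l • x := lift_pureAt_injective e P i hl
  have hzz : z * Matrix.single b a (1 : F) * z = l • z := by
    calc z * Matrix.single b a (1 : F) * z = G i * (x * (Matrix.single b a (1 : F) * G i) * x) := by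
          rw [hz]; simp only [mul_assoc]
      _ = l • z := by rw [hl', Matrix.mul_smul]
  have e1 := congrFun (congrFun hzz a) b
  have e2 := congrFun (congrFun hzz b) a
  rw [mul_single_mul_apply, Matrix.smul_apply, smul_eq_mul] at e1 e2
  rw [hdiag b, zero_mul, hba] at e2
  have hl1 : l = z a b := by
    have : (z a b - l) * z a b = 0 := by linear_combination e1
    rcases mul_eq_zero.1 this with h | h
    · exact (sub_eq_zero.1 h).symm
    · exact absurd h hab
  rw [hl1] at e2
  have : z a b * z a b = 0 := by linear_combination e2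
  rcases mul_eq_zero.1 this with h | h <;> exact hab h

/-! ## transfer along a similarity -/

theorem selfAdj_conj {f : V → V → F} {k : GL (Fin n) F} (hk : k ∈ similarityGroup f) {X : Mat} (hX : SelfAdj f X) :
    SelfAdj f ((k : Mat) * X * ((k⁻¹ : GL (Fin n) F) : Mat)) := by
  obtain ⟨μ, hμ⟩ := hk
  intro u v
  have h1 : ∀ w : V, (k : Mat) *ᵥ (((k⁻¹ : GL (Fin n) F) : Mat) *ᵥ w) = w := by
    intro w
    rw [Matrix.mulVec_mulVec, val_mul_inv, Matrix.one_mulVec]
  calc f (((k : Mat) * X * ((k⁻¹ : GL (Fin n) F) : Mat)) *ᵥ u) v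
      = f ((k : Mat) *ᵥ (X *ᵥ (((k⁻¹ : GL (Fin n) F) : Mat) *ᵥ u)))
          ((k : Mat) *ᵥ (((k⁻¹ : GL (Fin n) F) : Mat) *ᵥ v)) := by
        rw [h1 v, Matrix.mulVec_mulVec, Matrix.mulVec_mulVec, mul_assoc]
    _ = (μ : F) * f (X *ᵥ (((k⁻¹ : GL (Fin n) F) : Mat) *ᵥ u)) (((k⁻¹ : GL (Fin n) F) : Mat) *ᵥ v) := hμ _ _
    _ = (μ : F) * f (((k⁻¹ : GL (Fin n) F) : Mat) *ᵥ u) (X *ᵥ (((k⁻¹ : GL (Fin n) F) : Mat) *ᵥ v)) := by rw [hX]
    _ = f ((k : Mat) *ᵥ (((k⁻¹ : GL (Fin n) F) : Mat) *ᵥ u))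
          ((k : Mat) *ᵥ (X *ᵥ (((k⁻¹ : GL (Fin n) F) : Mat) *ᵥ v))) := (hμ _ _).symm
    _ = f u ((((k : Mat) * X * ((k⁻¹ : GL (Fin n) F) : Mat))) *ᵥ v) := by
        rw [h1 u, Matrix.mulVec_mulVec, Matrix.mulVec_mulVec, mul_assoc]

theorem hasRankOne_transfer [Fintype F] {f : V → V → F} {k : GL (Fin n) F} (hk : k ∈ similarityGroup f)
    (e : Fin n ≃ W) (P : GL (Fin n) F) (i j : Fin t)
    (hij : ∀ x ∈ factorSet m t e P i, (k : Mat) * x * ((k⁻¹ : GL (Fin n) F) : Mat) ∈ factorSet m t e P j)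
    (h : HasRankOne f (factorSet m t e P i)) : HasRankOne f (factorSet m t e P j) := by
  classical
  -- the induced map on `m × m` matrices
  have hex : ∀ x : Mm, ∃ y : Mm, lift e P (pA m t j y) =
      (k : Mat) * lift e P (pA m t i x) * ((k⁻¹ : GL (Fin n) F) : Mat) :=
    fun x => (mem_factorSet_iff e P j _).1 (hij _ ((mem_factorSet_iff e P i _).2 ⟨x, rfl⟩))
  choose φ hφ using hex
  have hconj_inj : ∀ A B : Mat, (k : Mat) * A * ((k⁻¹ : GL (Fin n) F) : Mat) =
      (k : Mat) * B * ((k⁻¹ : GL (Fin n) F) : Mat) → A = B := by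
    intro A B hAB
    have h1 := congrArg (fun M => ((k⁻¹ : GL (Fin n) F) : Mat) * M * (k : Mat)) hAB
    simp only [mul_assoc] at h1
    rw [val_inv_mul, mul_one, mul_one, ← mul_assoc, val_inv_mul, one_mul, ← mul_assoc, val_inv_mul, one_mul] at h1
    exact h1
  have hφinj : Function.Injective φ := by
    intro x y hxy
    apply lift_pureAt_injective e P i
    apply hconj_inj
    show (k : Mat) * lift e P (pA m t i x) * ((k⁻¹ : GL (Fin n) F) : Mat) =
      (k : Mat) * lift e P (pA m t i y) * ((k⁻¹ : GL (Fin n) F) : Mat)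
    rw [← hφ x, ← hφ y, hxy]
  have hφsurj : Function.Surjective φ := Finite.injective_iff_surjective.1 hφinj
  obtain ⟨X, hXS, hX0, hXsa, hXr⟩ := h
  refine ⟨(k : Mat) * X * ((k⁻¹ : GL (Fin n) F) : Mat), hij X hXS, ?_, selfAdj_conj hk hXsa, ?_⟩
  · intro h0
    apply hX0
    apply hconj_inj
    rw [h0, mul_zero, zero_mul]
  · intro Y hY
    obtain ⟨y, rfl⟩ := (mem_factorSet_iff e P j Y).1 hY
    obtain ⟨y₀, rfl⟩ := hφsurj y
    obtain ⟨l, hl⟩ := hXr (lift e P (pA m t i y₀)) ((mem_factorSet_iff e P i _).2 ⟨y₀, rfl⟩)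
    refine ⟨l, ?_⟩
    rw [hφ y₀]
    calc (k : Mat) * X * ((k⁻¹ : GL (Fin n) F) : Mat) *
          ((k : Mat) * lift e P (pA m t i y₀) * ((k⁻¹ : GL (Fin n) F) : Mat)) *
          ((k : Mat) * X * ((k⁻¹ : GL (Fin n) F) : Mat))
        = (k : Mat) * (X * ((((k⁻¹ : GL (Fin n) F) : Mat) * (k : Mat)) * (lift e P (pA m t i y₀) *
            ((((k⁻¹ : GL (Fin n) F) : Mat) * (k : Mat)) * X))))
            * ((k⁻¹ : GL (Fin n) F) : Mat) := by simp only [mul_assoc]
      _ = (k : Mat) * (X * lift e P (pA m t i y₀) * X) * ((k⁻¹ : GL (Fin n) F) : Mat) := by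
          rw [val_inv_mul, one_mul, one_mul, mul_assoc X]
      _ = l • ((k : Mat) * X * ((k⁻¹ : GL (Fin n) F) : Mat)) := by
          rw [hl, Matrix.mul_smul, Matrix.smul_mul]

/-! ## the keystone -/

/-- **K-SpAsch-Eb2.** -/
theorem eps_eq_of_transitive [Fintype F] {f : V → V → F} (hf : IsSymplecticForm f) (hq : Odd (Fintype.card F))
    (K : Subgroup (GL (Fin n) F)) (hKΔ : K ≤ similarityGroup f) (m t : ℕ) (hm : 0 < m)
    (e : Fin n ≃ (Fin t → Fin m)) (P : GL (Fin n) F) (G : Fin t → Matrix (Fin m) (Fin m) F) (ε : Fin t → F) (c : F)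
    (hc : c ≠ 0) (hG : ∀ i, IsUnit (G i)) (hε : ∀ i, ε i = 1 ∨ ε i = -1) (hGε : ∀ i, (G i)ᵀ = ε i • G i)
    (hform : IsPowerForm f m t e P c G)
    (htrans : ∀ i j, ∃ k ∈ K, ∀ x ∈ factorSet m t e P i,
        (k : Mat) * x * ((k⁻¹ : GL (Fin n) F) : Mat) ∈ factorSet m t e P j) :
    ∀ i j, ε i = ε j := by
  -- `2 ≠ 0`
  have h2 : (2 : F) ≠ 0 := by
    intro h
    have hchar : ringChar F = 2 := by
      have h3 : ringChar F ∣ 2 := by
        have : ((2 : ℕ) : F) = 0 := by exact_mod_cast h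
        exact (ringChar.spec F 2).1 this
      rcases (Nat.dvd_prime Nat.prime_two).1 h3 with h4 | h4
      · exfalso
        haveI := ringChar.charP F
        rw [h4] at this
        exact CharP.ringChar_ne_one h4
      · exact h4
    have := FiniteField.even_card_of_char_two hchar
    exact (Nat.not_even_iff_odd.2 hq) (Nat.even_iff.2 this)
  have hne : (1 : F) ≠ -1 := by
    intro h
    apply h2
    linear_combination h
  -- the invariant decides the sign
  have hkey : ∀ i, ε i = 1 ↔ HasRankOne f (factorSet m t e P i) := by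
    intro i
    constructor
    · intro h1
      apply hasRankOne_of_symm hform hm i (hG i)
      rw [hGε i, h1, one_smul]
    · intro hR
      rcases hε i with h1 | h1
      · exact h1
      · exfalso
        refine not_hasRankOne_of_skew hf h2 hform i (hG i) ?_ hR
        rw [hGε i, h1, neg_one_smul]
  have hmove : ∀ i j, ε i = 1 → ε j = 1 := by
    intro i j h1
    obtain ⟨k, hk, hkij⟩ := htrans i j
    exact (hkey j).2 (hasRankOne_transfer (hKΔ hk) e P i j hkij ((hkey i).1 h1))
  intro i j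
  rcases hε i with h1 | h1
  · rw [h1, hmove i j h1]
  · rcases hε j with h3 | h3
    · exfalso
      have := hmove j i h3
      rw [h1] at this
      exact hne this.symm
    · rw [h1, h3]

end Cfsg.Agent.Lib.Helper42.SpAsch
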