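import Mathlib
import Cfsg.Prelude.Def_GeometricClasses

/-!
# K-S5673-B2, generic lemmas: involutions of finite fields of odd degree; maximal field subalgebras are
self-centralizing
-/

set_option autoImplicit false

namespace Cfsg.Agent.Lib.Helper42.AschO

open Cfsg Cfsg.Geo
open scoped Matrix

/-- an `F`-algebra involution of a finite field of odd degree over `F` is the identity (field version) -/
theorem algEquiv_eq_one_of_sq {F L : Type*} [Field F] [Field L] [Finite L] [Algebra F L]
    (hodd : Odd (Module.finrank F L)) (τ : L ≃ₐ[F] L) (h : τ ^ 2 = 1) : τ = 1 := by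
  haveI : FiniteDimensional F L := Module.Finite.of_finite
  have hcard : Nat.card (L ≃ₐ[F] L) = Module.finrank F L := IsGalois.card_aut_eq_finrank F L
  have h1 : orderOf τ ∣ 2 := orderOf_dvd_of_pow_eq_one h
  have h2 : orderOf τ ∣ Module.finrank F L := by
    rw [← hcard]
    exact orderOf_dvd_natCard τ
  have h3 : orderOf τ = 1 := by
    have hcop : Nat.Coprime 2 (Module.finrank F L) := (Nat.coprime_two_left).2 hodd
    exact Nat.eq_one_of_dvd_coprimes hcop h1 h2
  exact orderOf_eq_one_iff.1 h3

/-- the same for a ring which is a field -/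
theorem algHom_involution_eq_id {F R : Type*} [Field F] [Ring R] [Algebra F R] (hR : IsField R) [Finite R]
    (hodd : Odd (Module.finrank F R)) (f : R →ₐ[F] R) (hf : ∀ x, f (f x) = x) : ∀ x, f x = x := by
  letI := hR.toField
  let τ : R ≃ₐ[F] R := AlgEquiv.ofAlgHom f f (AlgHom.ext hf) (AlgHom.ext hf)
  have hτ : τ ^ 2 = 1 := by
    ext x
    rw [pow_two]
    exact hf x
  have := algEquiv_eq_one_of_sq hodd τ hτ
  intro x
  have h1 : τ x = x := by rw [this]; rfl
  exact h1

variable {F : Type*} [Field F] {n : ℕ}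

local notation "Mat" => Matrix (Fin n) (Fin n) F

/-- a field subalgebra has no zero divisors -/
theorem eq_zero_of_mul_eq_zero {r : ℕ} {E : Subalgebra F Mat} (hE : IsFieldSubalgebra r E) {a b : Mat}
    (ha : a ∈ E) (hab : a * b = 0) : a = 0 ∨ b = 0 := by
  by_cases h0 : a = 0
  · exact Or.inl h0
  · right
    obtain ⟨y, hy, hay⟩ := hE.inv a ha h0
    have hya : y * a = 1 := by rw [← hE.comm a ha y hy]; exact hay
    calc b = (y * a) * b := by rw [hya, one_mul]
      _ = y * (a * b) := by rw [mul_assoc]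
      _ = 0 := by rw [hab, mul_zero]

/-- a field subalgebra of degree `n` of the `n × n` matrices is its own centralizer -/
theorem mem_of_commute_of_finrank_eq (hn : 0 < n) {E : Subalgebra F Mat} (hE : IsFieldSubalgebra n E)
    (g : Mat) (hg : ∀ x ∈ E, g * x = x * g) : g ∈ E := by
  set v : Fin n → F := Pi.single ⟨0, hn⟩ 1 with hv
  have hv0 : v ≠ 0 := by
    intro h
    have := congrFun h ⟨0, hn⟩
    simp [hv] at this
  let φ : E →ₗ[F] (Fin n → F) :=
    { toFun := fun x => (x : Mat) *ᵥ v
      map_add' := fun x y => by simp [Matrix.add_mulVec]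
      map_smul' := fun c x => by simp [Matrix.smul_mulVec] }
  have hinj : Function.Injective φ := by
    rw [← LinearMap.ker_eq_bot, LinearMap.ker_eq_bot']
    intro x hx
    by_contra hx0
    have hx0' : (x : Mat) ≠ 0 := fun h => hx0 (Subtype.ext h)
    obtain ⟨y, hy, hxy⟩ := hE.inv x x.2 hx0'
    have hyx : y * (x : Mat) = 1 := by rw [← hE.comm x x.2 y hy]; exact hxy
    apply hv0
    have hx' : (x : Mat) *ᵥ v = 0 := hx
    calc v = (y * (x : Mat)) *ᵥ v := by rw [hyx, Matrix.one_mulVec]
      _ = y *ᵥ ((x : Mat) *ᵥ v) := by rw [Matrix.mulVec_mulVec]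
      _ = 0 := by rw [hx', Matrix.mulVec_zero]
  have hsurj : Function.Surjective φ := by
    have hfr : Module.finrank F E = Module.finrank F (Fin n → F) := by
      rw [hE.finrank_eq, Module.finrank_fin_fun]
    haveI : FiniteDimensional F E := FiniteDimensional.of_finrank_pos (by rw [hE.finrank_eq]; exact hn)
    exact (LinearMap.injective_iff_surjective_of_finrank_eq_finrank hfr).1 hinj
  obtain ⟨x₀, hx₀⟩ := hsurj (g *ᵥ v)
  have hx₀' : (x₀ : Mat) *ᵥ v = g *ᵥ v := hx₀
  have : g = (x₀ : Mat) := by
    apply Matrix.toLin'.injective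
    apply LinearMap.ext
    intro u
    obtain ⟨x, hx⟩ := hsurj u
    have hx' : (x : Mat) *ᵥ v = u := hx
    rw [Matrix.toLin'_apply, Matrix.toLin'_apply, ← hx', Matrix.mulVec_mulVec, Matrix.mulVec_mulVec,
      hg x x.2, ← Matrix.mulVec_mulVec, ← hx₀', Matrix.mulVec_mulVec,
      hE.comm x x.2 x₀ x₀.2]
  rw [this]
  exact x₀.2

end Cfsg.Agent.Lib.Helper42.AschO
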