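import Mathlib
import Cfsg.Prelude.Def_GeometricClasses
import Cfsg.Agent.Lib.Helper61.AschDefs
import Cfsg.Agent.Lib.Helper61.AschBasic
import Cfsg.Agent.Lib.Helper46.AschODefs
import Cfsg.Agent.Lib.Helper46.AschOBasic
import Cfsg.Agent.Lib.Helper41.AschB2
import Cfsg.Agent.Lib.Helper63.SLMaxD3
import Cfsg.Agent.Lib.Helper42.AschOB2a

/-!
# K-S5673-B2 (helper42, architect helper46): a normal subgroup whose enveloping algebra is simple with centre bigger
than `F` puts a group of similarities of an odd-dimensional quadratic form in the extension-field class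

The field subalgebra of prime degree `r` cut out of the centre of `A = spanAlg N` by `x ^ (q ^ r) = x` (helper41's B2)
is stable under the adjoint of the polar form, which induces on it an `F`-automorphism of order at most two; `r ∣ n`
is odd, so it is trivial: the subalgebra is self-adjoint.  `r = n` is impossible: `N` would consist of scalars.
-/

set_option autoImplicit false

namespace Cfsg.Agent.Lib.Helper42.AschO

open Cfsg Cfsg.Geo Cfsg.Agent.Lib.Helper61.Asch Cfsg.Agent.Lib.Helper46.AschO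
open scoped Matrix MatrixGroups
open Module

variable {F : Type*} [Field F] [Fintype F] {n : ℕ}

local notation "V" => (Fin n → F)
local notation "Mat" => Matrix (Fin n) (Fin n) F

theorem adjQ_pow {Q : V → F} (hQ : IsNondegenerateQuadraticForm Q) (x : Mat) (k : ℕ) :
    adjQ Q (x ^ k) = adjQ Q x ^ k := by
  induction k with
  | zero => rw [pow_zero, pow_zero, adjQ_one hQ]
  | succ k ih => rw [pow_succ, adjQ_mul hQ, ih, ← pow_succ']

theorem adjQ_zero (Q : V → F) : adjQ Q (0 : Mat) = 0 := by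
  unfold adjQ
  rw [Matrix.transpose_zero, mul_zero, zero_mul]

/-- a square root of `c` from a square equal to an odd power of `c` -/
theorem exists_sq_eq_of_sq_eq_pow_odd {m : ℕ} (hm : Odd m) (a c : F) (hc : c ≠ 0) (h : a ^ 2 = c ^ m) :
    ∃ d : F, d ^ 2 = c := by
  obtain ⟨k, rfl⟩ := hm
  refine ⟨a / c ^ k, ?_⟩
  have hck : c ^ (2 * k) ≠ 0 := pow_ne_zero _ hc
  rw [div_pow, h, ← pow_mul, pow_succ, mul_comm k 2, mul_comm (c ^ (2 * k)) c, mul_div_assoc, div_self hck,
    mul_one]

/-- refinement of helper41's `c3_of_center_ne_bot`: the field subalgebra is cut out of the centre of `A` by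
`x ^ (q ^ r) = x` -/
theorem exists_central_fieldSubalgebra (K : Subgroup (GL (Fin n) F)) (A : Subalgebra F Mat) [IsSimpleRing A]
    (hKA : NormAlg K A) (hc : Subalgebra.center F A ≠ ⊥) :
    ∃ (r : ℕ) (E : Subalgebra F Mat), r.Prime ∧ IsFieldSubalgebra r E ∧ K ≤ subalgebraNormalizer E ∧
      ∀ x : Mat, x ∈ E ↔ (x ∈ A ∧ ∀ a ∈ A, a * x = x * a) ∧ x ^ (Fintype.card F ^ r) = x := by
  classical
  -- the centre is a field
  have hL : IsField (Subalgebra.center F A) := by
    have h := IsSimpleRing.isField_center A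
    refine ⟨⟨0, 1, zero_ne_one⟩, mul_comm, ?_⟩
    intro a ha
    have ha' : (⟨a.1, a.2⟩ : Subring.center A) ≠ 0 := by
      intro h0
      apply ha
      apply Subtype.ext
      exact congrArg Subtype.val h0
    obtain ⟨b, hb⟩ := h.mul_inv_cancel ha'
    refine ⟨⟨b.1, b.2⟩, ?_⟩
    apply Subtype.ext
    exact congrArg Subtype.val hb
  haveI : Finite (Subalgebra.center F A) :=
    Finite.of_injective (fun x : Subalgebra.center F A => ((x : A) : Mat))
      (fun x y h => Subtype.ext (Subtype.ext h))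
  -- its degree is at least two
  have hd1 : finrank F (Subalgebra.center F A) ≠ 1 := by
    intro h
    apply hc
    rw [eq_bot_iff]
    intro w hw
    have h1 := (finrank_eq_one_iff_of_nonzero' (1 : Subalgebra.center F A) one_ne_zero).1 h ⟨w, hw⟩
    obtain ⟨c, hc'⟩ := h1
    rw [Algebra.mem_bot]
    refine ⟨c, ?_⟩
    have h2 : ((c • (1 : Subalgebra.center F A) : Subalgebra.center F A) : A) = w :=
      congrArg Subtype.val hc'
    rw [← h2, Algebra.algebraMap_eq_smul_one]
    rfl
  obtain ⟨r, hrp, hrd⟩ := Nat.exists_prime_and_dvd hd1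
  let ι : Subalgebra.center F A →ₐ[F] Mat := A.val.comp (Subalgebra.center F A).val
  have hι : Function.Injective ι := fun x y h => Subtype.ext (Subtype.ext h)
  obtain ⟨E, hEr, hEcomm, hEinv, hEmem⟩ :=
    Cfsg.Agent.Lib.Helper41.Asch.exists_fieldSubalgebra_of_embedding (F := F) (B := Mat)
      (L := Subalgebra.center F A) hL ι hι r hrd hrp.pos
  -- description of the image of the centre
  have hrange : ∀ x : Mat, x ∈ ι.range ↔ x ∈ A ∧ ∀ a ∈ A, a * x = x * a := by
    intro x
    constructor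
    · rintro ⟨c, rfl⟩
      refine ⟨(c : A).2, ?_⟩
      intro a ha
      have := Subalgebra.mem_center_iff.1 c.2 ⟨a, ha⟩
      exact congrArg Subtype.val this
    · rintro ⟨hxA, hx⟩
      refine ⟨⟨⟨x, hxA⟩, ?_⟩, rfl⟩
      rw [Subalgebra.mem_center_iff]
      intro b
      apply Subtype.ext
      exact hx b.1 b.2
  refine ⟨r, E, hrp, ⟨hEcomm, hEinv, hEr⟩, ?_, fun x => by rw [hEmem, hrange]⟩
  -- forward invariance
  have hfwd : ∀ g ∈ K, ∀ x : Mat, x ∈ E →
      (g : Mat) * x * ((g⁻¹ : GL (Fin n) F) : Mat) ∈ E := by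
    intro g hg x hx
    rw [hEmem] at hx ⊢
    obtain ⟨hx1, hx2⟩ := hx
    rw [hrange] at hx1 ⊢
    obtain ⟨hxA, hxc⟩ := hx1
    refine ⟨⟨hKA g hg x hxA, ?_⟩, ?_⟩
    · intro a ha
      have ha' : ((g⁻¹ : GL (Fin n) F) : Mat) * a * (g : Mat) ∈ A := by
        have := hKA g⁻¹ (K.inv_mem hg) a ha
        rwa [inv_inv] at this
      have h1 := hxc _ ha'
      have hgi : ((g : GL (Fin n) F) : Mat) * ((g⁻¹ : GL (Fin n) F) : Mat) = 1 := by
        rw [← Units.val_mul, mul_inv_cancel, Units.val_one]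
      have hig : ((g⁻¹ : GL (Fin n) F) : Mat) * ((g : GL (Fin n) F) : Mat) = 1 := by
        rw [← Units.val_mul, inv_mul_cancel, Units.val_one]
      calc a * ((g : Mat) * x * ((g⁻¹ : GL (Fin n) F) : Mat))
          = (g : Mat) * ((((g⁻¹ : GL (Fin n) F) : Mat) * a * (g : Mat)) * x)
              * ((g⁻¹ : GL (Fin n) F) : Mat) := by
            simp only [mul_assoc]
            rw [← mul_assoc (g : Mat) ((g⁻¹ : GL (Fin n) F) : Mat), hgi, one_mul]
        _ = (g : Mat) * (x * (((g⁻¹ : GL (Fin n) F) : Mat) * a * (g : Mat)))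
              * ((g⁻¹ : GL (Fin n) F) : Mat) := by rw [h1]
        _ = (g : Mat) * x * ((g⁻¹ : GL (Fin n) F) : Mat) * a := by
            simp only [mul_assoc]
            rw [hgi, mul_one]
    · rw [Units.conj_pow, hx2]
  intro g hg
  show ∀ k : Mat, k ∈ E ↔ (g : Mat) * k * ((g⁻¹ : GL (Fin n) F) : Mat) ∈ E
  intro k
  constructor
  · exact hfwd g hg k
  · intro h
    have := hfwd g⁻¹ (K.inv_mem hg) _ h
    rw [inv_inv] at this
    have hig : ((g⁻¹ : GL (Fin n) F) : Mat) * ((g : GL (Fin n) F) : Mat) = 1 := by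
      rw [← Units.val_mul, inv_mul_cancel, Units.val_one]
    have e : ((g⁻¹ : GL (Fin n) F) : Mat) * ((g : Mat) * k * ((g⁻¹ : GL (Fin n) F) : Mat)) * (g : Mat)
        = k := by
      simp only [mul_assoc]
      rw [hig, mul_one, ← mul_assoc, hig, one_mul]
    rwa [e] at this

/-- **K-S5673-B2.** -/
theorem ogeom_of_center_ne_bot (hodd : Odd n) (h2 : (2 : F) ≠ 0) (Q : V → F) (hQ : IsNondegenerateQuadraticForm Q)
    (K N : Subgroup (GL (Fin n) F)) (hK : K ≤ quadSimilarityGroup Q) (hNK : N ≤ K) (hKN : NormBy K N)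
    (hsimple : IsSimpleRing (spanAlg N)) (hc : Subalgebra.center F (spanAlg N) ≠ ⊥) : OGeom Q K := by
  classical
  haveI := hsimple
  obtain ⟨r, E, hrp, hEf, hnorm, hEmem⟩ :=
    exists_central_fieldSubalgebra K (spanAlg N) (normAlg_spanAlg hKN) hc
  have hnpos : 0 < n := hodd.pos
  have hrn : r ∣ n := Cfsg.Agent.Lib.Helper63.SLMax.dvd_of_isFieldSubalgebra E hEf
  have hrodd : Odd r := by
    obtain ⟨k, hk⟩ := hrn
    rcases Nat.even_or_odd r with he | ho
    · exfalso
      have : Even n := by rw [hk]; exact he.mul_right k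
      exact (Nat.not_even_iff_odd.2 hodd) this
    · exact ho
  have hAadj : ∀ x ∈ spanAlg N, adjQ Q x ∈ spanAlg N := fun x hx => adjQ_mem_spanAlg hQ (hNK.trans hK) hx
  -- `E` is stable under the adjoint
  have hEadj : ∀ x ∈ E, adjQ Q x ∈ E := by
    intro x hx
    rw [hEmem] at hx ⊢
    obtain ⟨⟨hxA, hxc⟩, hxp⟩ := hx
    refine ⟨⟨hAadj x hxA, ?_⟩, ?_⟩
    · intro a ha
      have h1 : a * adjQ Q x = adjQ Q (x * adjQ Q a) := by rw [adjQ_mul hQ, adjQ_adjQ hQ]
      have h2 : adjQ Q x * a = adjQ Q (adjQ Q a * x) := by rw [adjQ_mul hQ, adjQ_adjQ hQ]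
      rw [h1, h2, hxc _ (hAadj a ha)]
    · rw [← adjQ_pow hQ, hxp]
  -- `E` is a finite field
  haveI : Nontrivial E := Module.nontrivial_of_finrank_pos (R := F) (by rw [hEf.finrank_eq]; exact hrp.pos)
  have hEfield : IsField E := by
    refine ⟨exists_pair_ne E, ?_, ?_⟩
    · intro x y
      exact Subtype.ext (hEf.comm x x.2 y y.2)
    · intro a ha
      have ha' : (a : Mat) ≠ 0 := fun h => ha (Subtype.ext h)
      obtain ⟨y, hy, hay⟩ := hEf.inv a a.2 ha'
      exact ⟨⟨y, hy⟩, Subtype.ext hay⟩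
  haveI : Finite E := Finite.of_injective (fun x : E => (x : Mat)) Subtype.val_injective
  -- the adjoint as an algebra endomorphism of `E`
  let f : E →ₐ[F] E :=
    { toFun := fun x => ⟨adjQ Q (x : Mat), hEadj x x.2⟩
      map_one' := Subtype.ext (adjQ_one hQ)
      map_mul' := fun x y => Subtype.ext (by
        show adjQ Q ((x : Mat) * (y : Mat)) = adjQ Q (x : Mat) * adjQ Q (y : Mat)
        rw [hEf.comm x x.2 y y.2, adjQ_mul hQ])
      map_zero' := Subtype.ext (adjQ_zero Q)
      map_add' := fun x y => Subtype.ext (adjQ_add Q x y)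
      commutes' := fun c => Subtype.ext (adjQ_algebraMap hQ c) }
  have hfix : ∀ x : E, f x = x :=
    algHom_involution_eq_id hEfield (by rw [hEf.finrank_eq]; exact hrodd) f
      (fun x => Subtype.ext (adjQ_adjQ hQ (x : Mat)))
  have hself : ∀ x ∈ E, adjQ Q x = x := fun x hx => congrArg Subtype.val (hfix ⟨x, hx⟩)
  have hSA : IsSelfAdjointFor (QuadraticMap.polar Q) E := by
    intro k hk u v
    rw [polar_adjQ hQ, hself k hk]
  -- the degree is not `n`
  have hn_ne_r : n ≠ r := by
    intro hnr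
    subst hnr
    apply hc
    have hscal : ∀ g ∈ N, ∃ d : F, ((g : GL (Fin n) F) : Mat) = algebraMap F Mat d := by
      intro g hg
      have hgA : (g : Mat) ∈ spanAlg N := coe_mem_spanAlg hg
      have hgE : (g : Mat) ∈ E := mem_of_commute_of_finrank_eq hnpos hEf (g : Mat)
        (fun x hx => ((hEmem x).1 hx).1.2 (g : Mat) hgA)
      obtain ⟨c, hc'⟩ := hK (hNK hg)
      have hadj : adjQ Q (g : Mat) = (c : F) • ((g⁻¹ : GL (Fin n) F) : Mat) := adjQ_similarity hQ hc'
      have hgg : (g : Mat) * (g : Mat) = (c : F) • (1 : Mat) := by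
        calc (g : Mat) * (g : Mat) = (g : Mat) * adjQ Q (g : Mat) := by rw [hself _ hgE]
          _ = (c : F) • ((g : Mat) * ((g⁻¹ : GL (Fin n) F) : Mat)) := by rw [hadj, Matrix.mul_smul]
          _ = (c : F) • (1 : Mat) := by rw [← Units.val_mul, mul_inv_cancel, Units.val_one]
      have hdet : (g : Mat).det ^ 2 = (c : F) ^ n := by
        have := congrArg Matrix.det hgg
        rw [Matrix.det_mul, Matrix.det_smul, Matrix.det_one, mul_one, Fintype.card_fin] at this
        rw [pow_two]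
        exact this
      obtain ⟨d, hd2⟩ := exists_sq_eq_of_sq_eq_pow_odd hodd _ (c : F) c.ne_zero hdet
      have hDD : algebraMap F Mat d * algebraMap F Mat d = (c : F) • (1 : Mat) := by
        rw [← map_mul, ← pow_two, hd2, Algebra.algebraMap_eq_smul_one]
      have hprod : ((g : Mat) - algebraMap F Mat d) * ((g : Mat) + algebraMap F Mat d) = 0 := by
        rw [← (Algebra.commute_algebraMap_right d (g : Mat)).mul_self_sub_mul_self_eq', hgg, hDD, sub_self]
      have hmem : (g : Mat) - algebraMap F Mat d ∈ E := E.sub_mem hgE (E.algebraMap_mem d)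
      rcases eq_zero_of_mul_eq_zero hEf hmem hprod with h0 | h0
      · exact ⟨d, sub_eq_zero.1 h0⟩
      · exact ⟨-d, by rw [map_neg]; exact eq_neg_of_add_eq_zero_left h0⟩
    have hAbot : spanAlg N ≤ ⊥ := by
      apply Algebra.adjoin_le
      rintro _ ⟨g, hg, rfl⟩
      obtain ⟨d, hd⟩ := hscal g hg
      show ((g : GL (Fin n) F) : Mat) ∈ (⊥ : Subalgebra F Mat)
      rw [hd]
      exact Subalgebra.algebraMap_mem _ d
    rw [eq_bot_iff]
    intro w _
    have hw : ((w : spanAlg N) : Mat) ∈ (⊥ : Subalgebra F Mat) := hAbot w.2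
    rw [Algebra.mem_bot] at hw ⊢
    obtain ⟨d, hd⟩ := hw
    exact ⟨d, Subtype.ext hd⟩
  exact ⟨subalgebraNormalizer E,
    Or.inr (Or.inr (Or.inr (Or.inr (Or.inl ⟨r, E, hrp, hn_ne_r, hEf, hSA, rfl⟩)))), hnorm⟩

end Cfsg.Agent.Lib.Helper42.AschO
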