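import Mathlib
import Cfsg.Prelude.Def_GeometricClasses
import Cfsg.Agent.Lib.Helper61.AschDefs

/-!
# K-S5630-C5, part a: the `F₀`-span of an absolutely irreducible matrix group with traces in `F₀`
-/

set_option autoImplicit false
set_option linter.unusedSectionVars false
set_option linter.style.haveILetI false

namespace Cfsg.Agent.Lib.Helper42.Asch

open Cfsg Cfsg.Geo Cfsg.Agent.Lib.Helper61.Asch
open scoped Matrix Kronecker MatrixGroups

section General

variable {F : Type*} [Field F] {n : ℕ}

local notation "V" => (Fin n → F)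
local notation "Mat" => Matrix (Fin n) (Fin n) F

/-- the trace form is nondegenerate -/
theorem eq_zero_of_trace_mul_eq_zero (M : Mat) (h : ∀ N : Mat, Matrix.trace (M * N) = 0) :
    M = 0 := by
  ext i j
  have := h (Matrix.single j i 1)
  rw [Matrix.trace_mul_single] at this
  simpa using this

theorem adjoin_matrixSet_toSubmodule {R : Type*} [CommSemiring R] [Algebra R Mat]
    (X : Subgroup (GL (Fin n) F)) :
    Subalgebra.toSubmodule (Algebra.adjoin R (matrixSet X)) = Submodule.span R (matrixSet X) := by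
  rw [Algebra.adjoin_eq_span]
  congr 1
  have : matrixSet X = ((X.toSubmonoid.map (Units.coeHom Mat) : Submonoid Mat) : Set Mat) := by
    ext M
    simp [matrixSet]
  rw [this, Submonoid.closure_eq]

theorem span_matrixSet_eq_top (X : Subgroup (GL (Fin n) F)) (hX : spanAlg X = ⊤) :
    Submodule.span F (matrixSet X) = ⊤ := by
  rw [← adjoin_matrixSet_toSubmodule]
  have : Algebra.adjoin F (matrixSet X) = ⊤ := hX
  rw [this, Algebra.top_toSubmodule]

theorem one_mem_matrixSet (X : Subgroup (GL (Fin n) F)) : (1 : Mat) ∈ matrixSet X :=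
  ⟨1, X.one_mem, rfl⟩

theorem mul_mem_matrixSet (X : Subgroup (GL (Fin n) F)) {a b : Mat} (ha : a ∈ matrixSet X)
    (hb : b ∈ matrixSet X) : a * b ∈ matrixSet X := by
  obtain ⟨x, hx, rfl⟩ := ha
  obtain ⟨y, hy, rfl⟩ := hb
  exact ⟨x * y, X.mul_mem hx hy, rfl⟩

end General

section Descent

variable {F : Type*} [Field F] [Fintype F] {n : ℕ}

local notation "V" => (Fin n → F)
local notation "Mat" => Matrix (Fin n) (Fin n) F

/-- the `F₀`-span of `X`, as an `F₀`-algebra -/
noncomputable def A0 (X : Subgroup (GL (Fin n) F)) (F₀ : Subfield F) : Subalgebra F₀ Mat :=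
  Algebra.adjoin F₀ (matrixSet X)

variable {X : Subgroup (GL (Fin n) F)} {F₀ : Subfield F}

theorem mem_A0_iff (X : Subgroup (GL (Fin n) F)) (F₀ : Subfield F) (M : Mat) :
    M ∈ A0 X F₀ ↔ M ∈ Submodule.span F₀ (matrixSet X) := by
  rw [← adjoin_matrixSet_toSubmodule]
  rfl

theorem matrixSet_subset_A0 : matrixSet X ⊆ A0 X F₀ := Algebra.subset_adjoin

theorem smul_eq_coe_smul (c : F₀) (M : Mat) : c • M = (c : F) • M := by
  ext i j
  simp [Subfield.smul_def]

theorem trace_mem_of_mem_A0
    (htr : ∀ x ∈ X, Matrix.trace ((x : GL (Fin n) F) : Mat) ∈ F₀) {a : Mat}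
    (ha : a ∈ A0 X F₀) : Matrix.trace a ∈ F₀ := by
  rw [mem_A0_iff] at ha
  induction ha using Submodule.span_induction with
  | mem x hx =>
    obtain ⟨g, hg, rfl⟩ := hx
    exact htr g hg
  | zero => simp
  | add x y _ _ hx hy =>
    rw [Matrix.trace_add]
    exact F₀.add_mem hx hy
  | smul c x _ hx =>
    rw [smul_eq_coe_smul, Matrix.trace_smul, smul_eq_mul]
    exact F₀.mul_mem c.2 hx

theorem span_A0_eq_top (hX : spanAlg X = ⊤) :
    Submodule.span F ((A0 X F₀ : Subalgebra F₀ Mat) : Set Mat) = ⊤ := by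
  rw [eq_top_iff, ← span_matrixSet_eq_top X hX]
  exact Submodule.span_mono matrixSet_subset_A0

theorem eq_zero_of_trace_mul_span {b : Set Mat} (hb : Submodule.span F b = ⊤) (a : Mat)
    (h : ∀ x ∈ b, Matrix.trace (a * x) = 0) : a = 0 := by
  apply eq_zero_of_trace_mul_eq_zero
  intro N
  have hN : N ∈ Submodule.span F b := by rw [hb]; trivial
  induction hN using Submodule.span_induction with
  | mem x hx => exact h x hx
  | zero => simp
  | add x y _ _ hx hy => rw [mul_add, Matrix.trace_add, hx, hy, add_zero]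
  | smul c x _ hx => rw [Matrix.mul_smul, Matrix.trace_smul, hx, smul_zero]

theorem finrank_A0_le (hX : spanAlg X = ⊤)
    (htr : ∀ x ∈ X, Matrix.trace ((x : GL (Fin n) F) : Mat) ∈ F₀) :
    Module.finrank F₀ (A0 X F₀) ≤ Module.finrank F Mat := by
  classical
  obtain ⟨b, hbsub, hbspan, hbli⟩ := exists_linearIndependent F (matrixSet X)
  rw [span_matrixSet_eq_top X hX] at hbspan
  haveI : Fintype b := Fintype.ofFinite b
  have hcard : Module.finrank F Mat = Fintype.card b := by
    rw [← finrank_top F Mat, ← hbspan, finrank_span_set_eq_card hbli]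
    simp
  let Ψ : A0 X F₀ → (b → F₀) := fun a j =>
    ⟨Matrix.trace ((a : Mat) * (j : Mat)),
      trace_mem_of_mem_A0 htr ((A0 X F₀).mul_mem a.2 (matrixSet_subset_A0 (hbsub j.2)))⟩
  have hΨ : Function.Injective Ψ := by
    intro a a' h
    have h0 : (a : Mat) - a' = 0 := by
      apply eq_zero_of_trace_mul_span hbspan
      intro x hx
      have := congrArg Subtype.val (congrFun h ⟨x, hx⟩)
      simp only [Ψ] at this
      rw [sub_mul, Matrix.trace_sub, this, sub_self]
    exact Subtype.ext (sub_eq_zero.mp h0)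
  have h1 : Nat.card (A0 X F₀) ≤ Nat.card (b → F₀) := Nat.card_le_card_of_injective Ψ hΨ
  rw [Module.natCard_eq_pow_finrank (K := F₀), Nat.card_fun, Nat.card_eq_fintype_card (α := b)]
    at h1
  rw [hcard]
  exact (Nat.pow_le_pow_iff_right Finite.one_lt_card).mp h1

theorem eq_A0_of_span_eq_top (hX : spanAlg X = ⊤)
    (htr : ∀ x ∈ X, Matrix.trace ((x : GL (Fin n) F) : Mat) ∈ F₀)
    (J : Submodule F₀ Mat) (hJ : J ≤ Subalgebra.toSubmodule (A0 X F₀))
    (hJs : Submodule.span F (J : Set Mat) = ⊤) : J = Subalgebra.toSubmodule (A0 X F₀) := by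
  apply Submodule.eq_of_le_of_finrank_le hJ
  have h1 : Module.finrank F Mat ≤ Module.finrank F₀ J := by
    let c := Module.finBasis F₀ J
    have hsp : Submodule.span F (Set.range (fun i => (c i : Mat))) = ⊤ := by
      rw [eq_top_iff, ← hJs]
      apply Submodule.span_le.mpr
      intro x hx
      have h2 := c.sum_repr ⟨x, hx⟩
      have h3 : x = ∑ i, (c.repr ⟨x, hx⟩ i : F) • (c i : Mat) := by
        have h4 := congrArg (Subtype.val) h2
        rw [Submodule.coe_sum] at h4
        have h5 : (↑(⟨x, hx⟩ : J) : Mat) = x := rfl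
        rw [h5] at h4
        refine h4.symm.trans ?_
        refine Finset.sum_congr rfl (fun i _ => ?_)
        rw [Submodule.coe_smul, smul_eq_coe_smul]
      rw [h3]
      exact Submodule.sum_mem _
        (fun i _ => Submodule.smul_mem _ _ (Submodule.subset_span ⟨i, rfl⟩))
    calc Module.finrank F Mat = Module.finrank F (⊤ : Submodule F Mat) := (finrank_top F Mat).symm
      _ = (Set.range fun i => (c i : Mat)).finrank F := by rw [← hsp]; rfl
      _ ≤ Fintype.card (Fin (Module.finrank F₀ J)) := finrank_range_le_card _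
      _ = _ := Fintype.card_fin _
  exact (finrank_A0_le hX htr).trans h1

end Descent

end Cfsg.Agent.Lib.Helper42.Asch
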