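import Mathlib
import Cfsg.Prelude.Def_GeometricClasses
import Cfsg.Agent.Lib.Helper61.AschDefs
import Cfsg.Agent.Lib.Helper42.AschC5a

/-!
# K-S5630-C5, part b: the `F₀`-span `A0 X F₀` is central simple, hence a full matrix algebra over `F₀`
-/

set_option autoImplicit false
set_option linter.unusedSectionVars false
set_option linter.style.haveILetI false

namespace Cfsg.Agent.Lib.Helper42.Asch

open Cfsg Cfsg.Geo Cfsg.Agent.Lib.Helper61.Asch
open scoped Matrix Kronecker MatrixGroups

/-- a central simple finite-dimensional algebra over a finite field is a full matrix algebra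
(adapted from `Helper29.Asch.exists_algEquiv_matrix_of_center_eq_bot`). -/
theorem exists_algEquiv_matrix_of_center_eq_bot_gen {k : Type*} [Field k] [Finite k]
    (A : Type*) [Ring A] [Algebra k A] [Module.Finite k A] [IsSimpleRing A]
    (hc : Subalgebra.center k A = ⊥) :
    ∃ a : ℕ, 0 < a ∧ Nonempty (Matrix (Fin a) (Fin a) k ≃ₐ[k] A) := by
  have : IsArtinianRing A := IsArtinianRing.of_finite k A
  obtain ⟨a, ha, D, hD, hAlg, hfin, ⟨e⟩⟩ :=
    IsSimpleRing.exists_algEquiv_matrix_divisionRing_finite k A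
  have : Finite D := Module.finite_of_finite k
  have hcomm : ∀ x y : D, x * y = y * x := fun x y => by
    let _ := littleWedderburn D
    exact mul_comm x y
  have hinj : Function.Injective (algebraMap k D) := (algebraMap k D).injective
  have hsurj : Function.Surjective (algebraMap k D) := by
    intro d
    set M : Matrix (Fin a) (Fin a) D := Matrix.scalar (Fin a) d with hM
    have hMc : ∀ N : Matrix (Fin a) (Fin a) D, N * M = M * N := fun N =>
      ((Matrix.scalar_commute d (fun r' => hcomm d r') N).eq).symm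
    have hmem : e.symm M ∈ Subalgebra.center k A := by
      rw [Subalgebra.mem_center_iff]
      intro x
      have hx : x = e.symm (e x) := (e.symm_apply_apply x).symm
      rw [hx, ← map_mul, ← map_mul, hMc]
    rw [hc, Algebra.mem_bot] at hmem
    obtain ⟨c, hcM⟩ := hmem
    refine ⟨c, ?_⟩
    have h1 : e (algebraMap k A c) = M := by rw [hcM, e.apply_symm_apply]
    rw [e.commutes] at h1
    have h2 := congrFun (congrFun h1 (0 : Fin a)) (0 : Fin a)
    simpa [hM, Matrix.algebraMap_matrix_apply] using h2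
  let φ : k ≃ₐ[k] D := AlgEquiv.ofBijective (Algebra.ofId k D) ⟨hinj, hsurj⟩
  exact ⟨a, Nat.pos_of_ne_zero (NeZero.ne a), ⟨(e.trans (AlgEquiv.mapMatrix φ.symm)).symm⟩⟩

section Simple

variable {F : Type*} [Field F] [Fintype F] {n : ℕ}

local notation "V" => (Fin n → F)
local notation "Mat" => Matrix (Fin n) (Fin n) F

variable {X : Subgroup (GL (Fin n) F)} {F₀ : Subfield F}

theorem isSimpleRing_A0 (hn : 0 < n) (hX : spanAlg X = ⊤)
    (htr : ∀ x ∈ X, Matrix.trace ((x : GL (Fin n) F) : Mat) ∈ F₀) :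
    IsSimpleRing (A0 X F₀) := by
  haveI : Nonempty (Fin n) := ⟨⟨0, hn⟩⟩
  haveI : Nontrivial (A0 X F₀) := inferInstance
  apply IsSimpleRing.of_eq_bot_or_eq_top
  intro I
  by_cases hI : I = ⊥
  · exact Or.inl hI
  right
  obtain ⟨a, haI, ha0⟩ : ∃ a ∈ I, a ≠ 0 := by
    by_contra hcon
    push Not at hcon
    apply hI
    rw [eq_bot_iff]
    intro x hx
    rw [TwoSidedIdeal.mem_bot]
    exact hcon x hx
  let J : Submodule F₀ Mat :=
    { carrier := {M | ∃ h : M ∈ A0 X F₀, (⟨M, h⟩ : A0 X F₀) ∈ I}
      add_mem' := by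
        rintro M N ⟨hM, hMI⟩ ⟨hN, hNI⟩
        exact ⟨(A0 X F₀).add_mem hM hN, I.add_mem hMI hNI⟩
      zero_mem' := ⟨(A0 X F₀).zero_mem, I.zero_mem⟩
      smul_mem' := by
        rintro c M ⟨hM, hMI⟩
        refine ⟨(A0 X F₀).smul_mem hM c, ?_⟩
        have : (⟨c • M, (A0 X F₀).smul_mem hM c⟩ : A0 X F₀) =
            algebraMap F₀ (A0 X F₀) c * ⟨M, hM⟩ := by
          ext1
          simp [Algebra.smul_def]
        rw [this]
        exact I.mul_mem_left _ _ hMI }
  have hJmem : ∀ M : Mat, M ∈ J ↔ ∃ h : M ∈ A0 X F₀, (⟨M, h⟩ : A0 X F₀) ∈ I := fun M => Iff.rfl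
  have htop : ∀ M : Mat, M ∈ Submodule.span F ((A0 X F₀ : Subalgebra F₀ Mat) : Set Mat) := by
    intro M
    rw [span_A0_eq_top hX]
    trivial
  have hleft : ∀ (M : Mat), ∀ s ∈ Submodule.span F (J : Set Mat),
      M * s ∈ Submodule.span F (J : Set Mat) := by
    intro M
    have hM := htop M
    induction hM using Submodule.span_induction with
    | mem x hx =>
      intro s hs
      induction hs using Submodule.span_induction with
      | mem y hy =>
        obtain ⟨hyA, hyI⟩ := hy
        exact Submodule.subset_span ⟨(A0 X F₀).mul_mem hx hyA, I.mul_mem_left ⟨x, hx⟩ _ hyI⟩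
      | zero => simp
      | add y z _ _ hy hz => rw [mul_add]; exact Submodule.add_mem _ hy hz
      | smul f y _ hy => rw [Matrix.mul_smul]; exact Submodule.smul_mem _ _ hy
    | zero => intro s _; simp
    | add x y _ _ hx hy =>
      intro s hs
      rw [add_mul]
      exact Submodule.add_mem _ (hx s hs) (hy s hs)
    | smul f x _ hx =>
      intro s hs
      rw [Matrix.smul_mul]
      exact Submodule.smul_mem _ _ (hx s hs)
  have hright : ∀ (M : Mat), ∀ s ∈ Submodule.span F (J : Set Mat),
      s * M ∈ Submodule.span F (J : Set Mat) := by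
    intro M
    have hM := htop M
    induction hM using Submodule.span_induction with
    | mem x hx =>
      intro s hs
      induction hs using Submodule.span_induction with
      | mem y hy =>
        obtain ⟨hyA, hyI⟩ := hy
        exact Submodule.subset_span ⟨(A0 X F₀).mul_mem hyA hx, I.mul_mem_right _ ⟨x, hx⟩ hyI⟩
      | zero => simp
      | add y z _ _ hy hz => rw [add_mul]; exact Submodule.add_mem _ hy hz
      | smul f y _ hy => rw [Matrix.smul_mul]; exact Submodule.smul_mem _ _ hy
    | zero => intro s _; simp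
    | add x y _ _ hx hy =>
      intro s hs
      rw [mul_add]
      exact Submodule.add_mem _ (hx s hs) (hy s hs)
    | smul f x _ hx =>
      intro s hs
      rw [Matrix.mul_smul]
      exact Submodule.smul_mem _ _ (hx s hs)
  have haM : (a : Mat) ≠ 0 := fun h => ha0 (Subtype.ext h)
  obtain ⟨k, l, hkl⟩ : ∃ k l, (a : Mat) k l ≠ 0 := by
    by_contra hcon
    push Not at hcon
    exact haM (Matrix.ext hcon)
  have haS : (a : Mat) ∈ Submodule.span F (J : Set Mat) := Submodule.subset_span ⟨a.2, haI⟩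
  have hsingle : ∀ i j, Matrix.single i j (1 : F) ∈ Submodule.span F (J : Set Mat) := by
    intro i j
    have h1 := hright (Matrix.single l j 1) _ (hleft (Matrix.single i k 1) _ haS)
    rw [Matrix.single_mul_mul_single] at h1
    have h2 := Submodule.smul_mem _ ((a : Mat) k l)⁻¹ h1
    rw [Matrix.smul_single] at h2
    convert h2 using 2
    simp [hkl]
  have hS : Submodule.span F (J : Set Mat) = ⊤ := by
    rw [eq_top_iff]
    intro M _
    rw [Matrix.matrix_eq_sum_single M]
    refine Submodule.sum_mem _ (fun i _ => Submodule.sum_mem _ (fun j _ => ?_))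
    have := Submodule.smul_mem _ (M i j) (hsingle i j)
    rwa [Matrix.smul_single, smul_eq_mul, mul_one] at this
  have hJ := eq_A0_of_span_eq_top hX htr J (by rintro M ⟨hM, _⟩; exact hM) hS
  have h1 : (1 : Mat) ∈ J := by
    rw [hJ]
    exact (A0 X F₀).one_mem
  obtain ⟨h1A, h1I⟩ := h1
  exact (TwoSidedIdeal.one_mem_iff I).mp h1I

theorem center_A0_eq_bot (hn : 0 < n) (hX : spanAlg X = ⊤)
    (htr : ∀ x ∈ X, Matrix.trace ((x : GL (Fin n) F) : Mat) ∈ F₀) :
    Subalgebra.center F₀ (A0 X F₀) = ⊥ := by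
  rw [eq_bot_iff]
  intro z hz
  rw [Subalgebra.mem_center_iff] at hz
  have htop : ∀ M : Mat, M ∈ Submodule.span F ((A0 X F₀ : Subalgebra F₀ Mat) : Set Mat) := by
    intro M
    rw [span_A0_eq_top hX]
    trivial
  have hcomm : ∀ M : Mat, M * (z : Mat) = (z : Mat) * M := by
    intro M
    have hM := htop M
    induction hM using Submodule.span_induction with
    | mem x hx => exact congrArg Subtype.val (hz ⟨x, hx⟩)
    | zero => simp
    | add x y _ _ hx hy => rw [add_mul, mul_add, hx, hy]
    | smul f x _ hx => rw [Matrix.smul_mul, Matrix.mul_smul, hx]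
  obtain ⟨c, hc⟩ : (z : Mat) ∈ Set.range (Matrix.scalar (Fin n)) := by
    apply Matrix.mem_range_scalar_iff_commute_single'.mpr
    intro i j
    exact hcomm _
  obtain ⟨a1, ha1, htr1⟩ : ∃ a ∈ A0 X F₀, Matrix.trace a ≠ 0 := by
    by_contra hcon
    push Not at hcon
    have hall : ∀ M : Mat, Matrix.trace M = 0 := by
      intro M
      have hM := htop M
      induction hM using Submodule.span_induction with
      | mem x hx => exact hcon x hx
      | zero => simp
      | add x y _ _ hx hy => rw [Matrix.trace_add, hx, hy, add_zero]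
      | smul f x _ hx => rw [Matrix.trace_smul, hx, smul_zero]
    have := hall (Matrix.single ⟨0, hn⟩ ⟨0, hn⟩ 1)
    simp at this
  have h1 : Matrix.trace ((z : Mat) * a1) ∈ F₀ :=
    trace_mem_of_mem_A0 htr ((A0 X F₀).mul_mem z.2 ha1)
  have h2 : Matrix.trace a1 ∈ F₀ := trace_mem_of_mem_A0 htr ha1
  have h3 : Matrix.trace ((z : Mat) * a1) = c * Matrix.trace a1 := by
    rw [← hc, Matrix.scalar_apply, ← Matrix.smul_one_eq_diagonal, Matrix.smul_mul, Matrix.one_mul,
      Matrix.trace_smul, smul_eq_mul]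
  have hcF : c ∈ F₀ := by
    have : c = (c * Matrix.trace a1) * (Matrix.trace a1)⁻¹ := by field_simp
    rw [this, ← h3]
    exact F₀.mul_mem h1 (F₀.inv_mem h2)
  rw [Algebra.mem_bot]
  refine ⟨⟨c, hcF⟩, Subtype.ext ?_⟩
  rw [← hc]
  simp [Matrix.algebraMap_eq_diagonal]
  intro i
  rfl

theorem exists_algEquiv_A0 (hn : 0 < n) (hX : spanAlg X = ⊤)
    (htr : ∀ x ∈ X, Matrix.trace ((x : GL (Fin n) F) : Mat) ∈ F₀) :
    ∃ m : ℕ, 0 < m ∧ Nonempty (Matrix (Fin m) (Fin m) F₀ ≃ₐ[F₀] A0 X F₀) := by
  haveI := isSimpleRing_A0 hn hX htr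
  exact exists_algEquiv_matrix_of_center_eq_bot_gen (A0 X F₀) (center_A0_eq_bot hn hX htr)

end Simple

end Cfsg.Agent.Lib.Helper42.Asch
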