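import Mathlib
import Cfsg.Prelude.Def_GeometricClasses
import Cfsg.Agent.Lib.Helper61.AschDefs
import Cfsg.Agent.Lib.Helper42.AschC5a
import Cfsg.Agent.Lib.Helper42.AschC5b

/-!
# K-S5630-C5 (keystone 213, architect helper61): an absolutely irreducible matrix group over a finite field
with traces in a subfield `F₀` is realisable over `F₀`.
-/

set_option autoImplicit false
set_option linter.unusedSectionVars false
set_option linter.style.haveILetI false

namespace Cfsg.Agent.Lib.Helper42.Asch

open Cfsg Cfsg.Geo Cfsg.Agent.Lib.Helper61.Asch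
open scoped Matrix Kronecker MatrixGroups

variable {F : Type*} [Field F] [Fintype F] {n : ℕ}

local notation "V" => (Fin n → F)
local notation "Mat" => Matrix (Fin n) (Fin n) F

variable {X : Subgroup (GL (Fin n) F)} {F₀ : Subfield F}

/-- matrix units of `A0 ≃ M_m(F₀)` give an `F`-basis of `V` on which `A0` acts through `M_m(F₀)` -/
theorem exists_units_basis (hX : spanAlg X = ⊤) {m : ℕ} (hm : 0 < m)
    (φ : Matrix (Fin m) (Fin m) F₀ ≃ₐ[F₀] A0 X F₀) :
    ∃ u : Fin m → V, LinearIndependent F u ∧ Submodule.span F (Set.range u) = ⊤ ∧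
      ∀ (c : Matrix (Fin m) (Fin m) F₀) (k : Fin m),
        ((φ c : A0 X F₀) : Mat) *ᵥ u k = ∑ i, ((c i k : F₀) : F) • u i := by
  classical
  let ε : Fin m → Fin m → Mat := fun i j => ((φ (Matrix.single i j 1) : A0 X F₀) : Mat)
  have hε_same : ∀ i j l, ε i j * ε j l = ε i l := by
    intro i j l
    show ((φ (Matrix.single i j 1) : A0 X F₀) : Mat) *
      ((φ (Matrix.single j l 1) : A0 X F₀) : Mat) = ((φ (Matrix.single i l 1) : A0 X F₀) : Mat)
    rw [← Subalgebra.coe_mul, ← map_mul, Matrix.single_mul_single_same, mul_one]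
  have hε_ne : ∀ i j k l, j ≠ k → ε i j * ε k l = 0 := by
    intro i j k l h
    show ((φ (Matrix.single i j 1) : A0 X F₀) : Mat) *
      ((φ (Matrix.single k l 1) : A0 X F₀) : Mat) = 0
    rw [← Subalgebra.coe_mul, ← map_mul, Matrix.single_mul_single_of_ne (h := h), map_zero]
    rfl
  let z : Fin m := ⟨0, hm⟩
  have hz0 : ε z z ≠ 0 := by
    intro h
    have h1 : (φ (Matrix.single z z 1) : A0 X F₀) = 0 := Subtype.ext h
    have h2 : (Matrix.single z z (1 : F₀)) = 0 := φ.injective (h1.trans (map_zero φ).symm)
    have := congrFun (congrFun h2 z) z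
    simp at this
  obtain ⟨v, hv⟩ : ∃ v : V, ε z z *ᵥ v ≠ 0 := by
    by_contra hcon
    push Not at hcon
    apply hz0
    ext i j
    have := congrFun (hcon (Pi.single j 1)) i
    simpa [Matrix.mulVec_single_one] using this
  set w := ε z z *ᵥ v with hw
  let u : Fin m → V := fun i => ε i z *ᵥ w
  have hεu : ∀ i j k, ε i j *ᵥ u k = if j = k then u i else 0 := by
    intro i j k
    show ε i j *ᵥ (ε k z *ᵥ w) = _
    rw [Matrix.mulVec_mulVec]
    split_ifs with h
    · subst h
      rw [hε_same]
    · rw [hε_ne _ _ _ _ h, Matrix.zero_mulVec]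
  have huz : u z = w := by
    show ε z z *ᵥ (ε z z *ᵥ v) = ε z z *ᵥ v
    rw [Matrix.mulVec_mulVec, hε_same]
  have hact : ∀ (c : Matrix (Fin m) (Fin m) F₀) (k : Fin m),
      ((φ c : A0 X F₀) : Mat) *ᵥ u k = ∑ i, ((c i k : F₀) : F) • u i := by
    intro c k
    induction c using Matrix.induction_on' with
    | h_zero => simp
    | h_add p q hp hq =>
      rw [map_add, Subalgebra.coe_add, Matrix.add_mulVec, hp, hq, ← Finset.sum_add_distrib]
      refine Finset.sum_congr rfl (fun i _ => ?_)
      rw [Matrix.add_apply, Subfield.coe_add, add_smul]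
    | h_std_basis i j x =>
      have h1 : (Matrix.single i j x : Matrix (Fin m) (Fin m) F₀) = x • Matrix.single i j 1 := by
        rw [Matrix.smul_single, smul_eq_mul, mul_one]
      rw [h1, map_smul, Subalgebra.coe_smul, smul_eq_coe_smul, Matrix.smul_mulVec]
      show (x : F) • (ε i j *ᵥ u k) = _
      rw [hεu]
      split_ifs with h
      · subst h
        rw [Finset.sum_eq_single i]
        · simp
        · intro b _ hb
          simp [Matrix.single_apply, hb.symm]
        · intro h
          exact absurd (Finset.mem_univ i) h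
      · rw [smul_zero]
        symm
        apply Finset.sum_eq_zero
        intro b _
        simp [Matrix.single_apply, h]
  have hspan : Submodule.span F (Set.range u) = ⊤ := by
    have hinvA : ∀ a ∈ A0 X F₀, ∀ y ∈ Submodule.span F (Set.range u),
        a *ᵥ y ∈ Submodule.span F (Set.range u) := by
      intro a ha y hy
      induction hy using Submodule.span_induction with
      | mem y hy =>
        obtain ⟨k, rfl⟩ := hy
        have := hact (φ.symm ⟨a, ha⟩) k
        rw [φ.apply_symm_apply] at this
        rw [this]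
        exact Submodule.sum_mem _
          (fun i _ => Submodule.smul_mem _ _ (Submodule.subset_span ⟨i, rfl⟩))
      | zero => simp
      | add y y' _ _ h1 h2 => rw [Matrix.mulVec_add]; exact Submodule.add_mem _ h1 h2
      | smul f y _ h1 => rw [Matrix.mulVec_smul]; exact Submodule.smul_mem _ _ h1
    have hinvM : ∀ M : Mat, ∀ y ∈ Submodule.span F (Set.range u),
        M *ᵥ y ∈ Submodule.span F (Set.range u) := by
      intro M
      have hM : M ∈ Submodule.span F ((A0 X F₀ : Subalgebra F₀ Mat) : Set Mat) := by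
        rw [span_A0_eq_top hX]
        trivial
      induction hM using Submodule.span_induction with
      | mem a ha => exact hinvA a ha
      | zero => intro y _; simp
      | add a b _ _ h1 h2 =>
        intro y hy
        rw [Matrix.add_mulVec]
        exact Submodule.add_mem _ (h1 y hy) (h2 y hy)
      | smul f a _ h1 =>
        intro y hy
        rw [Matrix.smul_mulVec]
        exact Submodule.smul_mem _ _ (h1 y hy)
    have hwU : w ∈ Submodule.span F (Set.range u) := by
      rw [← huz]
      exact Submodule.subset_span ⟨z, rfl⟩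
    obtain ⟨r, hr⟩ : ∃ r, w r ≠ 0 := by
      by_contra hcon
      push Not at hcon
      exact hv (funext hcon)
    rw [eq_top_iff]
    intro y _
    have := hinvM (Matrix.vecMulVec y (Pi.single r (w r)⁻¹)) w hwU
    rw [Matrix.vecMulVec_mulVec] at this
    simpa [hr] using this
  have hli : LinearIndependent F u := by
    rw [Fintype.linearIndependent_iff]
    intro g hg j
    have h1 := congrArg (fun y => ε z j *ᵥ y) hg
    simp only [Matrix.mulVec_sum, Matrix.mulVec_smul, hεu, Matrix.mulVec_zero] at h1
    rw [Finset.sum_eq_single j] at h1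
    · simp only [if_true] at h1
      rw [huz] at h1
      exact (smul_eq_zero.mp h1).resolve_right hv
    · intro b _ hb
      simp [Ne.symm hb]
    · intro h
      exact absurd (Finset.mem_univ j) h
  exact ⟨u, hli, hspan, hact⟩

/-- K-S5630-C5. -/
theorem realisableOver_of_trace_mem (X : Subgroup (GL (Fin n) F)) (hX : spanAlg X = ⊤)
    (F₀ : Subfield F)
    (htr : ∀ x ∈ X, Matrix.trace ((x : GL (Fin n) F) : Mat) ∈ F₀) :
    RealisableOver F₀ (matrixSet X) := by
  classical
  rcases Nat.eq_zero_or_pos n with hn | hn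
  · subst hn
    exact ⟨1, fun s _ i => i.elim0⟩
  obtain ⟨m, hm, ⟨φ⟩⟩ := exists_algEquiv_A0 (X := X) (F₀ := F₀) hn hX htr
  obtain ⟨u, hli, hsp, hact⟩ := exists_units_basis hX hm φ
  have hmn : n = m := by
    have b := Module.Basis.mk hli (by rw [hsp])
    have h1 := Module.finrank_eq_card_basis b
    rw [Module.finrank_fin_fun, Fintype.card_fin] at h1
    exact h1
  subst hmn
  let P : Mat := Matrix.of fun r i => u i r
  have hPu : IsUnit P := by
    rw [← Matrix.linearIndependent_cols_iff_isUnit]
    exact hli
  refine ⟨hPu.unit⁻¹, ?_⟩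
  intro s hs i j
  have hsA : s ∈ A0 X F₀ := matrixSet_subset_A0 hs
  set c := φ.symm ⟨s, hsA⟩ with hc
  have hφc : ((φ c : A0 X F₀) : Mat) = s := by rw [hc, φ.apply_symm_apply]
  have hsP : s * P = P * c.map (fun x : F₀ => (x : F)) := by
    ext r k
    have := congrFun (hact c k) r
    rw [hφc] at this
    simp only [Matrix.mul_apply, Matrix.of_apply, Matrix.map_apply, P]
    simp only [Matrix.mulVec, dotProduct, Finset.sum_apply, Pi.smul_apply, smul_eq_mul] at this
    rw [this]
    exact Finset.sum_congr rfl (fun i _ => mul_comm _ _)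
  have hPP : ((hPu.unit⁻¹ : GL (Fin n) F) : Mat) * P = 1 := by
    have h := Units.inv_mul hPu.unit
    rwa [IsUnit.unit_spec] at h
  have hfin : ((hPu.unit⁻¹ : GL (Fin n) F) : Mat) * s *
      (((hPu.unit⁻¹)⁻¹ : GL (Fin n) F) : Mat) = c.map (fun x : F₀ => (x : F)) := by
    rw [inv_inv, IsUnit.unit_spec, Matrix.mul_assoc, hsP, ← Matrix.mul_assoc, hPP, Matrix.one_mul]
  rw [hfin, Matrix.map_apply]
  exact (c i j).2

end Cfsg.Agent.Lib.Helper42.Asch
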