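import Mathlib
import Cfsg.Agent.Lib.Helper11.Syl22Defs

/-!
# S4346 pack, leaf K-A1 (434602), helper42: the number of Sylow 3-subgroups adjacent to `P`
is `3 mod 9` when `n_3 = 22`.
-/

set_option autoImplicit false

namespace Cfsg.Agent.Lib.Helper42.Syl22

open Cfsg.Agent.Lib.Helper11.Syl22

/-- generic: the number of points whose orbit has size divisible by `n` is divisible by `n` -/
theorem a1_dvd_card_of_dvd_orbit {H X : Type*} [Group H] [Finite X] [MulAction H X]
    (n : ℕ) : n ∣ Nat.card {x : X // n ∣ Nat.card (MulAction.orbit H x)} := by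
  classical
  have := Fintype.ofFinite X
  have : Fintype (MulAction.orbitRel.Quotient H X) := Fintype.ofFinite _
  rw [Nat.card_eq_fintype_card, Fintype.card_subtype]
  set S : Finset X := Finset.univ.filter (fun x => n ∣ Nat.card (MulAction.orbit H x)) with hS
  have hfib := Finset.card_eq_sum_card_fiberwise
    (f := fun x : X => (Quotient.mk'' x : MulAction.orbitRel.Quotient H X)) (s := S)
    (t := Finset.univ) (fun x _ => by simp)
  rw [hfib]
  apply Finset.dvd_sum
  intro ω _
  by_cases hne : (S.filter (fun x => (Quotient.mk'' x : MulAction.orbitRel.Quotient H X) = ω)).Nonempty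
  · obtain ⟨x₁, hx₁⟩ := hne
    rw [Finset.mem_filter] at hx₁
    obtain ⟨hxS, hω⟩ := hx₁
    have hS' : n ∣ Nat.card (MulAction.orbit H x₁) := (Finset.mem_filter.1 hxS).2
    have heq : S.filter (fun x => (Quotient.mk'' x : MulAction.orbitRel.Quotient H X) = ω) =
        (MulAction.orbit H x₁).toFinset := by
      ext x
      simp only [Finset.mem_filter, Set.mem_toFinset]
      constructor
      · rintro ⟨_, hx⟩
        rw [← hω] at hx
        exact Quotient.eq''.1 hx
      · intro hx
        refine ⟨?_, ?_⟩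
        · rw [hS, Finset.mem_filter]
          refine ⟨Finset.mem_univ _, ?_⟩
          rw [MulAction.orbit_eq_iff.2 hx]; exact hS'
        · rw [← hω]; exact Quotient.sound' hx
    rw [heq, Set.toFinset_card, ← Nat.card_eq_fintype_card]
    exact hS'
  · rw [Finset.not_nonempty_iff_eq_empty.1 hne, Finset.card_empty]; exact dvd_zero _

/-- orbit–stabiliser for the action of a Sylow subgroup on the set of Sylow subgroups -/
theorem a1_card_orbit_mul {G : Type*} [Group G] [Finite G] (P R : Sylow 3 G) :
    Nat.card (MulAction.orbit ↥(P : Subgroup G) R) *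
      Nat.card ↥((P : Subgroup G) ⊓ (R : Subgroup G)) = Nat.card ↥(P : Subgroup G) := by
  classical
  have h1 : (MulAction.stabilizer ↥(P : Subgroup G) R).index *
      Nat.card (MulAction.stabilizer ↥(P : Subgroup G) R) = Nat.card ↥(P : Subgroup G) :=
    Subgroup.index_mul_card _
  rw [MulAction.index_stabilizer, ← _root_.Nat.card_coe_set_eq] at h1
  have h2 := IsPGroup.inf_normalizer_sylow P.2 R
  have h2' : ∀ x : G, x ∈ (P : Subgroup G) ⊓ Subgroup.normalizer ((R : Subgroup G) : Set G) ↔
      x ∈ (P : Subgroup G) ⊓ (R : Subgroup G) := fun x =>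
    Iff.of_eq (congrArg (fun K : Subgroup G => x ∈ K) h2)
  have hst : MulAction.stabilizer ↥(P : Subgroup G) R =
      ((P : Subgroup G) ⊓ (R : Subgroup G)).subgroupOf (P : Subgroup G) := by
    ext h
    rw [MulAction.mem_stabilizer_iff, Subgroup.mem_subgroupOf, Subgroup.smul_def,
      Sylow.smul_eq_iff_mem_normalizer]
    constructor
    · intro hh
      exact (h2' _).1 ⟨h.2, hh⟩
    · intro hh
      exact ((h2' _).2 hh).2
  have hc : Nat.card (MulAction.stabilizer ↥(P : Subgroup G) R) =
      Nat.card ↥((P : Subgroup G) ⊓ (R : Subgroup G)) := by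
    rw [hst]
    exact Nat.card_congr (Subgroup.subgroupOfEquivOfLe inf_le_left).toEquiv
  rw [← hc]
  exact h1

theorem card_adj_mod_nine {G : Type*} [Group G] [Finite G] (h22 : Nat.card (Sylow 3 G) = 22)
    (P : Sylow 3 G) : Nat.card {R : Sylow 3 G // Adj P R} % 9 = 3 := by
  classical
  have hp3 : Fact (Nat.Prime 3) := ⟨by norm_num⟩
  have := Fintype.ofFinite (Sylow 3 G)
  obtain ⟨k, hk⟩ : ∃ k, Nat.card ↥(P : Subgroup G) = 3 ^ k := IsPGroup.iff_card.1 P.2
  have hPpos : 0 < Nat.card ↥(P : Subgroup G) := Nat.card_pos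
  have horb := a1_card_orbit_mul P
  -- orbit sizes are powers of three
  have hpow : ∀ R : Sylow 3 G, ∃ l, Nat.card (MulAction.orbit ↥(P : Subgroup G) R) = 3 ^ l := by
    intro R
    have hd : Nat.card (MulAction.orbit ↥(P : Subgroup G) R) ∣ 3 ^ k := by
      rw [← hk, ← horb R]; exact Dvd.intro _ rfl
    obtain ⟨l, -, hl⟩ := (Nat.dvd_prime_pow (by norm_num)).1 hd
    exact ⟨l, hl⟩
  have h1 : ∀ R : Sylow 3 G, Nat.card (MulAction.orbit ↥(P : Subgroup G) R) = 1 ↔ R = P := by
    intro R
    constructor
    · intro h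
      have h2 := horb R
      rw [h, one_mul] at h2
      -- `P ⊓ R` has the order of `P`, so `P ≤ R`
      have h3 : (P : Subgroup G) ⊓ (R : Subgroup G) = (P : Subgroup G) :=
        Subgroup.eq_of_le_of_card_ge inf_le_left (le_of_eq h2.symm)
      have h4 : (P : Subgroup G) ≤ (R : Subgroup G) := by
        rw [← h3]; exact inf_le_right
      exact Sylow.ext (P.3 R.2 h4)
    · rintro rfl
      have h2 := horb R
      rw [inf_idem] at h2
      exact Nat.eq_of_mul_eq_mul_right hPpos (by rw [h2, one_mul])
  have h3 : ∀ R : Sylow 3 G, Nat.card (MulAction.orbit ↥(P : Subgroup G) R) = 3 ↔ Adj P R := by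
    intro R
    unfold Adj
    constructor
    · intro h
      have h2 := horb R
      rw [h] at h2
      exact h2
    · intro h
      have h2 := horb R
      have hpos : 0 < Nat.card ↥((P : Subgroup G) ⊓ (R : Subgroup G)) := Nat.card_pos
      exact Nat.eq_of_mul_eq_mul_right hpos (by rw [h2, h])
  have h9 : ∀ R : Sylow 3 G, 9 ∣ Nat.card (MulAction.orbit ↥(P : Subgroup G) R) ↔
      (R ≠ P ∧ ¬ Adj P R) := by
    intro R
    obtain ⟨l, hl⟩ := hpow R
    rw [ne_eq, ← h1 R, ← h3 R, hl]
    constructor
    · intro hd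
      constructor
      · intro h
        rw [h] at hd; omega
      · intro h
        rw [h] at hd; omega
    · rintro ⟨ha, hb⟩
      have hl2 : 2 ≤ l := by
        by_contra hlt
        have : l = 0 ∨ l = 1 := by omega
        rcases this with rfl | rfl
        · exact ha (by norm_num)
        · exact hb (by norm_num)
      exact (pow_dvd_pow 3 hl2 : 3 ^ 2 ∣ 3 ^ l)
  have hB := a1_dvd_card_of_dvd_orbit (H := ↥(P : Subgroup G)) (X := Sylow 3 G) 9
  -- counting
  have hcardB : Nat.card {R : Sylow 3 G // 9 ∣ Nat.card (MulAction.orbit ↥(P : Subgroup G) R)} =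
      (Finset.univ.filter fun R : Sylow 3 G => R ≠ P ∧ ¬ Adj P R).card := by
    rw [Nat.card_eq_fintype_card, Fintype.card_subtype]
    congr 1
    ext R
    simp only [Finset.mem_filter, Finset.mem_univ, true_and]
    exact h9 R
  have hcardA : Nat.card {R : Sylow 3 G // Adj P R} =
      (Finset.univ.filter fun R : Sylow 3 G => Adj P R).card := by
    rw [Nat.card_eq_fintype_card, Fintype.card_subtype]
  have hadjne : ∀ R : Sylow 3 G, Adj P R → R ≠ P := by
    intro R h hRP
    subst hRP
    unfold Adj at h
    rw [inf_idem] at h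
    omega
  have htot : (Finset.univ : Finset (Sylow 3 G)).card = 22 := by
    rw [Finset.card_univ, ← Nat.card_eq_fintype_card, h22]
  have hsplit1 := Finset.card_filter_add_card_filter_not
    (s := (Finset.univ : Finset (Sylow 3 G))) (fun R => R = P)
  have hone : (Finset.univ.filter fun R : Sylow 3 G => R = P).card = 1 := by
    rw [Finset.filter_eq' Finset.univ P, if_pos (Finset.mem_univ _), Finset.card_singleton]
  have hsplit2 := Finset.card_filter_add_card_filter_not
    (s := (Finset.univ.filter fun R : Sylow 3 G => ¬ R = P)) (fun R => Adj P R)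
  have e1 : ((Finset.univ.filter fun R : Sylow 3 G => ¬ R = P).filter fun R => Adj P R) =
      Finset.univ.filter fun R : Sylow 3 G => Adj P R := by
    ext R
    simp only [Finset.mem_filter, Finset.mem_univ, true_and]
    exact ⟨fun h => h.2, fun h => ⟨hadjne R h, h⟩⟩
  have e2 : ((Finset.univ.filter fun R : Sylow 3 G => ¬ R = P).filter fun R => ¬ Adj P R) =
      Finset.univ.filter fun R : Sylow 3 G => R ≠ P ∧ ¬ Adj P R := by
    ext R
    simp only [Finset.mem_filter, Finset.mem_univ, true_and, ne_eq]
  rw [e1, e2] at hsplit2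
  rw [hcardA]
  rw [hcardB] at hB
  obtain ⟨t, ht⟩ := hB
  omega

end Cfsg.Agent.Lib.Helper42.Syl22
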