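import Mathlib
import Cfsg.Agent.Lib.Helper74.FCDefs
import Cfsg.Agent.Lib.Helper48.Subfield.FrobAbs

/-!
# K-S3359-5: commuting elements of order `p` in a Frobenius complement generate the same subgroup
-/

set_option autoImplicit false

universe u

namespace Cfsg.Agent.Lib.Helper42.FC

open Cfsg.Agent.Lib.Helper74.FC

theorem mem_zpowers_of_commute {G : Type u} [Group G] [Finite G]
    (hsub : ∀ D : Subgroup G, D ≠ ⊥ → IsFC D) (p : ℕ) (hp : p.Prime)
    (x y : G) (hx : x ^ p = 1) (hy : y ^ p = 1) (hx1 : x ≠ 1) (hxy : x * y = y * x) :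
    y ∈ Subgroup.zpowers x := by
  by_contra hyx
  haveI : Fact p.Prime := ⟨hp⟩
  set A : Subgroup G := Subgroup.closure ({x, y} : Set G) with hA
  have hxA : x ∈ A := Subgroup.subset_closure (by simp)
  have hyA : y ∈ A := Subgroup.subset_closure (by simp)
  have hne : A ≠ ⊥ := by
    intro h
    rw [h, Subgroup.mem_bot] at hxA
    exact hx1 hxA
  -- A is commutative
  have hgen : ∀ a ∈ ({x, y} : Set G), ∀ b ∈ ({x, y} : Set G), a * b = b * a := by
    rintro a (rfl | rfl) b (rfl | rfl)
    · rfl
    · exact hxy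
    · exact hxy.symm
    · rfl
  have hAcomm : ∀ a ∈ A, ∀ b ∈ A, a * b = b * a := by
    intro a ha b hb
    have h := (Subgroup.closureCommGroupOfComm hgen).mul_comm ⟨a, ha⟩ ⟨b, hb⟩
    exact congrArg Subtype.val h
  -- A has exponent p
  have hexpA : ∀ a ∈ A, a ^ p = 1 := by
    intro a ha
    induction ha using Subgroup.closure_induction with
    | mem v hv =>
      rcases hv with rfl | rfl
      · exact hx
      · exact hy
    | one => exact one_pow p
    | mul a b ha hb iha ihb =>
      rw [(show Commute a b from hAcomm a ha b hb).mul_pow, iha, ihb, one_mul]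
    | inv a _ iha => rw [inv_pow, iha, inv_one]
  -- card A > p
  have hzle : Subgroup.zpowers x ≤ A := by
    rw [Subgroup.zpowers_le]; exact hxA
  have hcardz : Nat.card (Subgroup.zpowers x) = p := by
    rw [Nat.card_zpowers]
    exact orderOf_eq_prime hx hx1
  have hcardA : p < Nat.card A := by
    by_contra hle
    push_neg at hle
    have : Subgroup.zpowers x = A := Subgroup.eq_of_le_of_card_ge hzle (by rw [hcardz]; exact hle)
    exact hyx (this ▸ hyA)
  obtain ⟨L, instL, finL, H, hH, ⟨e⟩⟩ := hsub A hne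
  refine Cfsg.Agent.Lib.Helper48.Subfield.no_elementary_frobenius_complement H hH p ?_ ?_
  · intro c hc
    have h1 : (e.symm ⟨c, hc⟩ : A) ^ p = 1 := by
      apply Subtype.ext
      rw [Subgroup.coe_pow]
      exact hexpA _ (e.symm ⟨c, hc⟩).2
    have h2 := congrArg e h1
    rw [map_pow, MulEquiv.apply_symm_apply, map_one] at h2
    have h3 := congrArg Subtype.val h2
    simpa using h3
  · rw [← Nat.card_congr e.toEquiv]
    exact hcardA

end Cfsg.Agent.Lib.Helper42.FC
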