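import Cfsg.Agent.Lib.Helper49.OElDefs

/-!
# K-OEl-AR1P (keystone 598804, S5988 pack of helper49): `arith_fix_ellP` (pure arithmetic)

Port of helper26's `OhP.arith_fix` to elliptic subspaces of a plus type space.
-/

set_option autoImplicit false
set_option linter.unusedVariables false

namespace Cfsg.Agent.Lib.Helper42.OEl

open Module Cfsg.Agent.Lib.Helper98.Elus Cfsg.Agent.Lib.Helper98.Sy Cfsg.Agent.Lib.Helper38.OhP
  Cfsg.Agent.Lib.Helper49.OEl

theorem arith_fix_ellP (i c d m T : ℕ) (hi : 0 < i) (hc : c = cOf i) (hd : 4 ≤ d) (hm : 2 ≤ m) (hme : Even m)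
    (hmd : m < d) (hT1 : 1 ≤ T) (hTn : T * c ≤ 2 * d) (hal : 0 < 2 * d - T * c ∨ (True ↔ tPlus i T))
    (hR : RhsOddP i c d m) : ∃ j : ℕ, j ≤ T ∧ j * c ≤ m ∧ GoodT True False i c T (2 * d - T * c) m j := by
  have hc0 : 0 < c := by rw [hc]; unfold cOf; split_ifs <;> omega
  obtain ⟨J, ρ, hmJ, hρ, hJdiv, hρmod⟩ :
      ∃ J ρ, m = J * c + ρ ∧ ρ < c ∧ m / c = J ∧ m % c = ρ :=
    ⟨m / c, m % c, (Nat.div_add_mod' m c).symm, Nat.mod_lt _ hc0, rfl, rfl⟩
  obtain ⟨T0, k0, hdT, hk0, hTdiv, hkmod⟩ :
      ∃ T0 k0, 2 * d = T0 * c + k0 ∧ k0 < c ∧ (2 * d) / c = T0 ∧ (2 * d) % c = k0 :=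
    ⟨(2 * d) / c, (2 * d) % c, (Nat.div_add_mod' (2 * d) c).symm,
      Nat.mod_lt _ hc0, rfl, rfl⟩
  have hTT0 : T ≤ T0 := by
    by_contra hlt
    push Not at hlt
    have h1 : (T0 + 1) * c ≤ T * c := Nat.mul_le_mul_right c hlt
    have h2 : (T0 + 1) * c = T0 * c + c := by ring
    omega
  obtain ⟨b, hb⟩ := Nat.exists_eq_add_of_le hTT0
  have hP1 : T0 * c = T * c + b * c := by rw [hb]; ring
  rcases lt_or_ge T J with hTJ | hJT
  · -- `j = T`
    have h1 : (T + 1) * c ≤ J * c := Nat.mul_le_mul_right c hTJ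
    have h2 : (T + 1) * c = T * c + c := by ring
    exact ⟨T, le_rfl, by omega, Or.inr (Or.inl ⟨by omega, by omega⟩)⟩
  · obtain ⟨a, ha⟩ := Nat.exists_eq_add_of_le hJT
    have hP2 : T * c = J * c + a * c := by rw [ha]; ring
    have hb0 : b = 0 → b * c = 0 := fun h => by rw [h, Nat.zero_mul]
    have hb1 : 1 ≤ b → c ≤ b * c := fun h => by
      have := Nat.mul_le_mul_right c h
      rwa [one_mul] at this
    unfold RhsOddP at hR
    rw [hρmod, hkmod] at hR
    rcases hR with ⟨hodd, hcm, hρ0, hρk⟩ | ⟨hev, hR⟩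
    · -- `i` odd
      exact ⟨J, hJT, by omega, Or.inr (Or.inl ⟨by omega, by omega⟩)⟩
    · -- `i` even
      have hci : c = i := by rw [hc]; unfold cOf; rw [if_pos hev]
      have hnodd : ¬ Odd i := Nat.not_odd_iff_even.mpr hev
      have htp : ∀ j, tPlus i j ↔ j % 2 = 0 := fun j => by
        unfold tPlus
        rw [Nat.even_iff]
        constructor
        · rintro (h | h)
          · exact absurd h hnodd
          · exact h
        · intro h; exact Or.inr h
      rw [← hci, hTdiv, hJdiv] at hR
      simp only [htp, true_iff] at hal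
      unfold GoodT
      simp only [htp, false_iff, true_iff]
      rcases hR with ⟨hk00, hB1⟩ | ⟨him, hR⟩
      · rcases hB1 with hT0odd | ⟨hρ0, hJodd⟩
        · rw [Nat.odd_iff] at hT0odd
          have hbpos : 1 ≤ b := by
            by_contra hb'
            have hb'' : b = 0 := by omega
            have := hb0 hb''
            rw [hb''] at hb
            rcases hal with h | h
            · omega
            · omega
          have hbc := hb1 hbpos
          rcases Nat.eq_zero_or_pos ρ with h0 | h0
          · rcases Nat.even_or_odd J with hJe | hJo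
            · rw [Nat.even_iff] at hJe
              have hJpos : 1 ≤ J := by
                by_contra hJ0
                have hJ00 : J = 0 := by omega
                rw [hJ00] at hmJ
                omega
              have hJ1 : (J - 1) * c = J * c - c := by rw [Nat.sub_mul, one_mul]
              have hJc : c ≤ J * c := by
                have := Nat.mul_le_mul_right c hJpos
                rwa [one_mul] at this
              refine ⟨J - 1, by omega, by omega, ?_⟩
              rcases (by omega : b = 1 ∨ 2 ≤ b) with hb1' | hb2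
              · have : b * c = c := by rw [hb1', one_mul]
                exact Or.inr (Or.inr ⟨by omega, by omega, by omega⟩)
              · have : 2 * c ≤ b * c := Nat.mul_le_mul_right c hb2
                exact Or.inr (Or.inl ⟨by omega, by omega⟩)
            · rw [Nat.odd_iff] at hJo
              exact ⟨J, hJT, by omega, Or.inl ⟨by omega, by omega⟩⟩
          · exact ⟨J, hJT, by omega, Or.inr (Or.inl ⟨by omega, by omega⟩)⟩
        · rw [Nat.odd_iff] at hJodd
          exact ⟨J, hJT, by omega, Or.inl ⟨by omega, by omega⟩⟩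
      · rcases hR with ⟨hpos, hlt⟩ | ⟨hpos, heq, hodd2⟩ | ⟨hρ0, hk0pos, hJodd⟩
        · exact ⟨J, hJT, by omega, Or.inr (Or.inl ⟨by omega, by omega⟩)⟩
        · have h3 : 2 * d + m - 2 * k0 = (T0 + J) * c := by rw [add_mul]; omega
          rw [h3, Nat.mul_div_cancel _ hc0, Nat.odd_iff] at hodd2
          rcases Nat.eq_zero_or_pos b with hb' | hb'
          · have := hb0 hb'
            rw [hb'] at hb
            exact ⟨J, hJT, by omega, Or.inr (Or.inr ⟨by omega, by omega, by omega⟩)⟩
          · have := hb1 hb'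
            exact ⟨J, hJT, by omega, Or.inr (Or.inl ⟨by omega, by omega⟩)⟩
        · rw [Nat.odd_iff] at hJodd
          exact ⟨J, hJT, by omega, Or.inl ⟨by omega, by omega⟩⟩

end Cfsg.Agent.Lib.Helper42.OEl
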