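import Mathlib
import Cfsg.Prelude.Def_Blocks
import Cfsg.Agent.Lib.Helper01.CD3Defs
import Cfsg.Agent.Lib.Helper22.BlockRegular
import Cfsg.Agent.Lib.Helper83.CharBasic
import Cfsg.Agent.S0887

/-!
S4460 pack K-CD3, leaf 446030 K-CD3-DIV `exists_over`: for `θ` irreducible of `N ⊴ G` there is an irreducible `χ`
of `G` with `χ 1 = e * θ 1`, `e ∣ |G : N|`.
-/

set_option autoImplicit false

namespace Cfsg.Agent.Lib.Helper42.CD3

open Cfsg Cfsg.Agent.Lib.Helper01.CD3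

universe u

/-- 446030 K-CD3-DIV: degrees over a normal subgroup (S0887): for `θ` irreducible of `N ⊴ G` there is an
irreducible `χ` of `G` with `θ 1 ∣ χ 1` and `χ 1 / θ 1 ∣ |G : N|`. -/
theorem exists_over {G : Type u} [Group G] [Finite G] (N : Subgroup G) [N.Normal]
    {θ : N → ℂ} (hθ : IsIrrCharacter N θ) :
    ∃ χ : G → ℂ, IsIrrCharacter G χ ∧ ∃ e : ℕ, charDegree χ = e * charDegree θ ∧ e ∣ N.index := by
  classical
  have : Fintype G := Fintype.ofFinite G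
  have : Fintype N := Fintype.ofFinite N
  obtain ⟨χ, hχ⟩ := Cfsg.Agent.Lib.Helper22.exists_irr_over N (⟨θ, hθ⟩ : IrrCharacter N)
  have hc : (χ : G → ℂ) 1 = (charDegree (χ : G → ℂ) : ℂ) :=
    (Cfsg.Agent.Lib.Helper83.charDegree_cast (Cfsg.Agent.Lib.Helper83.isCharacter_of_irr χ.2)).symm
  have hd : θ 1 = (charDegree θ : ℂ) :=
    (Cfsg.Agent.Lib.Helper83.charDegree_cast (Cfsg.Agent.Lib.Helper83.isCharacter_of_irr hθ)).symm
  obtain ⟨h1, h2⟩ := Cfsg.Agent.S0887.result N (χ : G → ℂ) χ.2 θ hθ hχ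
    (charDegree (χ : G → ℂ)) (charDegree θ) hc hd
  refine ⟨χ, χ.2, charDegree (χ : G → ℂ) / charDegree θ, ?_, h2⟩
  exact (Nat.div_mul_cancel h1).symm

end Cfsg.Agent.Lib.Helper42.CD3
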