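import Mathlib

set_option linter.style.haveILetI false
set_option linter.unusedSectionVars false

/-!
# Torus centralizers in `SL₂(F)` (package T for the Dickson keystone)

For `A ∈ SL₂(F)` with `(tr A)² ≠ 4` the centralizer of `A` embeds into the units of the
algebraic closure (eigenvalue character); consequences for finite fields.
-/

namespace Cfsg.Agent.Lib.Helper42.SL2Torus

open Matrix Polynomial

section ring
variable {R : Type*} [CommRing R]

theorem comm_entries (A M : Matrix (Fin 2) (Fin 2) R) (h : A * M = M * A) :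
    A 0 1 * M 1 0 = M 0 1 * A 1 0 ∧
    A 0 0 * M 0 1 + A 0 1 * M 1 1 = M 0 0 * A 0 1 + M 0 1 * A 1 1 ∧
    A 1 0 * M 0 0 + A 1 1 * M 1 0 = M 1 0 * A 0 0 + M 1 1 * A 1 0 := by
  have h00 := congrFun (congrFun h 0) 0
  have h01 := congrFun (congrFun h 0) 1
  have h10 := congrFun (congrFun h 1) 0
  simp only [Matrix.mul_apply, Fin.sum_univ_two] at h00 h01 h10
  exact ⟨by linear_combination h00, h01, h10⟩

theorem trace_mul_fin_two (A M : Matrix (Fin 2) (Fin 2) R) :
    (A * M).trace = A 0 0 * M 0 0 + A 0 1 * M 1 0 + A 1 0 * M 0 1 + A 1 1 * M 1 1 := by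
  simp only [Matrix.trace_fin_two, Matrix.mul_apply, Fin.sum_univ_two]; ring

theorem decomp_ring (A M : Matrix (Fin 2) (Fin 2) R) (h : A * M = M * A) :
    (A.trace ^ 2 - 4 * A.det) • M =
      ((A.trace ^ 2 - 2 * A.det) * M.trace - A.trace * (A * M).trace) •
        (1 : Matrix (Fin 2) (Fin 2) R) + (2 * (A * M).trace - A.trace * M.trace) • A := by
  obtain ⟨r1, r2, r3⟩ := comm_entries A M h
  rw [trace_mul_fin_two]
  ext i j
  fin_cases i <;> fin_cases j
  · simp [Matrix.trace_fin_two, Matrix.det_fin_two]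
    linear_combination (A 0 1) * r3 - (A 1 0) * r2
  · simp [Matrix.trace_fin_two, Matrix.det_fin_two]
    linear_combination (A 0 0 - A 1 1) * r2 - 2 * A 0 1 * r1
  · simp [Matrix.trace_fin_two, Matrix.det_fin_two]
    linear_combination -(A 0 0 - A 1 1) * r3 + 2 * A 1 0 * r1
  · simp [Matrix.trace_fin_two, Matrix.det_fin_two]
    linear_combination -(A 0 1) * r3 + (A 1 0) * r2

theorem cayley_hamilton_two (A : Matrix (Fin 2) (Fin 2) R) :
    A * A = A.trace • A - A.det • (1 : Matrix (Fin 2) (Fin 2) R) := by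
  ext i j
  fin_cases i <;> fin_cases j <;>
    simp [Matrix.trace_fin_two, Matrix.det_fin_two, Matrix.mul_apply, Fin.sum_univ_two] <;> ring

theorem trace_sq_two (A : Matrix (Fin 2) (Fin 2) R) :
    (A * A).trace = A.trace ^ 2 - 2 * A.det := by
  rw [trace_mul_fin_two]; simp only [Matrix.trace_fin_two, Matrix.det_fin_two]; ring

theorem det_lin (A : Matrix (Fin 2) (Fin 2) R) (x y : R) :
    (x • (1 : Matrix (Fin 2) (Fin 2) R) + y • A).det = x ^ 2 + x * y * A.trace + y ^ 2 * A.det := by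
  simp [Matrix.trace_fin_two, Matrix.det_fin_two]; ring

theorem trace_lin (A : Matrix (Fin 2) (Fin 2) R) (x y : R) :
    (x • (1 : Matrix (Fin 2) (Fin 2) R) + y • A).trace = 2 * x + y * A.trace := by
  simp [Matrix.trace_fin_two]; ring

theorem trace_mul_lin (A : Matrix (Fin 2) (Fin 2) R) (x y : R) :
    (A * (x • (1 : Matrix (Fin 2) (Fin 2) R) + y • A)).trace =
      x * A.trace + y * (A.trace ^ 2 - 2 * A.det) := by
  rw [Matrix.mul_add, Matrix.mul_smul, Matrix.mul_smul, Matrix.mul_one, Matrix.trace_add,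
    Matrix.trace_smul, Matrix.trace_smul, trace_sq_two]; simp

theorem lin_mul_lin (A : Matrix (Fin 2) (Fin 2) R) (x y x' y' : R) :
    (x • (1 : Matrix (Fin 2) (Fin 2) R) + y • A) * (x' • (1 : Matrix (Fin 2) (Fin 2) R) + y' • A) =
      (x * x' - y * y' * A.det) • (1 : Matrix (Fin 2) (Fin 2) R) +
        (x * y' + y * x' + y * y' * A.trace) • A := by
  have hch := cayley_hamilton_two A
  simp only [Matrix.add_mul, Matrix.mul_add, Matrix.smul_mul, Matrix.mul_smul, Matrix.one_mul,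
    Matrix.mul_one, hch, smul_sub, smul_smul, add_smul, sub_smul]
  abel_nf
  module

end ring

section field
variable {F : Type*} [Field F]

/-- first coordinate of `M` in the basis `1, A` of the centralizer of `A`. -/
noncomputable def cx (A M : Matrix (Fin 2) (Fin 2) F) : F :=
  ((A.trace ^ 2 - 2) * M.trace - A.trace * (A * M).trace) / (A.trace ^ 2 - 4)

/-- second coordinate of `M` in the basis `1, A` of the centralizer of `A`. -/
noncomputable def cy (A M : Matrix (Fin 2) (Fin 2) F) : F :=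
  (2 * (A * M).trace - A.trace * M.trace) / (A.trace ^ 2 - 4)

theorem decomp (A M : Matrix (Fin 2) (Fin 2) F) (hdet : A.det = 1) (hA : A.trace ^ 2 ≠ 4)
    (h : A * M = M * A) : M = cx A M • (1 : Matrix (Fin 2) (Fin 2) F) + cy A M • A := by
  have h4 : A.trace ^ 2 - 4 ≠ 0 := sub_ne_zero.2 hA
  have key := decomp_ring A M h
  rw [hdet, mul_one, mul_one] at key
  calc M = (A.trace ^ 2 - 4)⁻¹ • ((A.trace ^ 2 - 4) • M) := by
        rw [smul_smul, inv_mul_cancel₀ h4, one_smul]
    _ = _ := by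
        rw [key, smul_add, smul_smul, smul_smul]
        simp only [cx, cy, div_eq_inv_mul]

theorem cx_lin (A : Matrix (Fin 2) (Fin 2) F) (hdet : A.det = 1) (hA : A.trace ^ 2 ≠ 4)
    (x y : F) : cx A (x • (1 : Matrix (Fin 2) (Fin 2) F) + y • A) = x := by
  have h4 : A.trace ^ 2 - 4 ≠ 0 := sub_ne_zero.2 hA
  rw [cx, trace_lin, trace_mul_lin, hdet, div_eq_iff h4]; ring

theorem cy_lin (A : Matrix (Fin 2) (Fin 2) F) (hdet : A.det = 1) (hA : A.trace ^ 2 ≠ 4)
    (x y : F) : cy A (x • (1 : Matrix (Fin 2) (Fin 2) F) + y • A) = y := by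
  have h4 : A.trace ^ 2 - 4 ≠ 0 := sub_ne_zero.2 hA
  rw [cy, trace_lin, trace_mul_lin, hdet, div_eq_iff h4]; ring

theorem lin_unique (A : Matrix (Fin 2) (Fin 2) F) (hdet : A.det = 1) (hA : A.trace ^ 2 ≠ 4)
    (x y x' y' : F)
    (h : x • (1 : Matrix (Fin 2) (Fin 2) F) + y • A = x' • (1 : Matrix (Fin 2) (Fin 2) F) + y' • A) :
    x = x' ∧ y = y' := by
  constructor
  · rw [← cx_lin A hdet hA x y, h, cx_lin A hdet hA]
  · rw [← cy_lin A hdet hA x y, h, cy_lin A hdet hA]

theorem exists_root_quadratic (K : Type*) [Field K] [IsAlgClosed K] (t : K) :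
    ∃ l : K, l ^ 2 - t * l + 1 = 0 := by
  have hdeg : (C (1 : K) * X ^ 2 + C (-t) * X + C 1).degree ≠ 0 := by
    rw [Polynomial.degree_quadratic one_ne_zero]; norm_num
  obtain ⟨l, hl⟩ := IsAlgClosed.exists_root _ hdeg
  refine ⟨l, ?_⟩
  simp only [IsRoot.def, eval_add, eval_mul, eval_C, eval_pow, eval_X] at hl
  linear_combination hl

end field

section group
variable {F : Type*} [Field F]

theorem mem_centralizer_iff (A B : Matrix.SpecialLinearGroup (Fin 2) F) :
    B ∈ Subgroup.centralizer ({A} : Set (Matrix.SpecialLinearGroup (Fin 2) F)) ↔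
      (A : Matrix (Fin 2) (Fin 2) F) * (B : Matrix (Fin 2) (Fin 2) F) =
        (B : Matrix (Fin 2) (Fin 2) F) * (A : Matrix (Fin 2) (Fin 2) F) := by
  rw [Subgroup.mem_centralizer_iff]
  constructor
  · intro h
    have := h A rfl
    have h2 := congrArg Subtype.val this
    simpa using h2
  · intro h g hg
    rw [Set.mem_singleton_iff] at hg
    subst hg
    apply Subtype.ext
    simpa using h

/-- the decomposition `B = x + y A` for `B` centralizing `A`. -/
theorem exists_lin (A : Matrix.SpecialLinearGroup (Fin 2) F)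
    (hA : (Matrix.trace (A : Matrix (Fin 2) (Fin 2) F)) ^ 2 ≠ 4)
    (B : Matrix.SpecialLinearGroup (Fin 2) F)
    (hB : B ∈ Subgroup.centralizer ({A} : Set (Matrix.SpecialLinearGroup (Fin 2) F))) :
    ∃ x y : F, (B : Matrix (Fin 2) (Fin 2) F) =
        x • (1 : Matrix (Fin 2) (Fin 2) F) + y • (A : Matrix (Fin 2) (Fin 2) F) ∧
      x ^ 2 + x * y * (Matrix.trace (A : Matrix (Fin 2) (Fin 2) F)) + y ^ 2 = 1 := by
  have h := decomp A.1 B.1 A.2 hA ((mem_centralizer_iff A B).1 hB)
  refine ⟨_, _, h, ?_⟩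
  have hdet := B.2
  rw [h, det_lin, A.2, mul_one] at hdet
  exact hdet

/-- the eigenvalue function `x + y A ↦ x + y l`. -/
noncomputable def eigenFun (A : Matrix.SpecialLinearGroup (Fin 2) F) (l : AlgebraicClosure F)
    (B : Matrix.SpecialLinearGroup (Fin 2) F) : AlgebraicClosure F :=
  algebraMap F (AlgebraicClosure F) (cx A.1 B.1) +
    algebraMap F (AlgebraicClosure F) (cy A.1 B.1) * l

theorem eigenFun_lin (A : Matrix.SpecialLinearGroup (Fin 2) F)
    (hA : (Matrix.trace (A : Matrix (Fin 2) (Fin 2) F)) ^ 2 ≠ 4) (l : AlgebraicClosure F)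
    (B : Matrix.SpecialLinearGroup (Fin 2) F) (x y : F)
    (h : (B : Matrix (Fin 2) (Fin 2) F) =
        x • (1 : Matrix (Fin 2) (Fin 2) F) + y • (A : Matrix (Fin 2) (Fin 2) F)) :
    eigenFun A l B = algebraMap F (AlgebraicClosure F) x +
      algebraMap F (AlgebraicClosure F) y * l := by
  unfold eigenFun
  have h' : B.1 = x • (1 : Matrix (Fin 2) (Fin 2) F) + y • A.1 := h
  rw [h', cx_lin A.1 A.2 hA, cy_lin A.1 A.2 hA]

/-- the eigenvalue character on the centralizer, as a monoid hom to the algebraic closure. -/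
noncomputable def eigenHom (A : Matrix.SpecialLinearGroup (Fin 2) F)
    (hA : (Matrix.trace (A : Matrix (Fin 2) (Fin 2) F)) ^ 2 ≠ 4) (l : AlgebraicClosure F)
    (hl : l ^ 2 - algebraMap F (AlgebraicClosure F)
      (Matrix.trace (A : Matrix (Fin 2) (Fin 2) F)) * l + 1 = 0) :
    Subgroup.centralizer ({A} : Set (Matrix.SpecialLinearGroup (Fin 2) F)) →*
      AlgebraicClosure F where
  toFun B := eigenFun A l B.1
  map_one' := by
    have h1 : (((1 : Subgroup.centralizer ({A} : Set (Matrix.SpecialLinearGroup (Fin 2) F))) :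
        Matrix.SpecialLinearGroup (Fin 2) F) : Matrix (Fin 2) (Fin 2) F) =
        (1 : F) • (1 : Matrix (Fin 2) (Fin 2) F) + (0 : F) • (A : Matrix (Fin 2) (Fin 2) F) := by
      simp
    rw [eigenFun_lin A hA l _ 1 0 h1]; simp
  map_mul' := by
    intro B B'
    obtain ⟨x, y, h, -⟩ := exists_lin A hA B.1 B.2
    obtain ⟨x', y', h', -⟩ := exists_lin A hA B'.1 B'.2
    have hmul : (((B * B' : Subgroup.centralizer
        ({A} : Set (Matrix.SpecialLinearGroup (Fin 2) F))) :
        Matrix.SpecialLinearGroup (Fin 2) F) : Matrix (Fin 2) (Fin 2) F) =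
        (x * x' - y * y') • (1 : Matrix (Fin 2) (Fin 2) F) +
          (x * y' + y * x' + y * y' * (Matrix.trace (A : Matrix (Fin 2) (Fin 2) F))) •
            (A : Matrix (Fin 2) (Fin 2) F) := by
      rw [Subgroup.coe_mul, Matrix.SpecialLinearGroup.coe_mul, h, h', lin_mul_lin]
      have : (A : Matrix (Fin 2) (Fin 2) F).det = 1 := A.2
      rw [this, mul_one]
    rw [eigenFun_lin A hA l _ _ _ hmul, eigenFun_lin A hA l _ _ _ h, eigenFun_lin A hA l _ _ _ h']
    simp only [map_sub, map_mul, map_add]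
    linear_combination (-(algebraMap F (AlgebraicClosure F) y) *
      (algebraMap F (AlgebraicClosure F) y')) * hl

theorem y_eq_zero_of (A : Matrix.SpecialLinearGroup (Fin 2) F)
    (hA : (Matrix.trace (A : Matrix (Fin 2) (Fin 2) F)) ^ 2 ≠ 4) (l : AlgebraicClosure F)
    (hl : l ^ 2 - algebraMap F (AlgebraicClosure F)
      (Matrix.trace (A : Matrix (Fin 2) (Fin 2) F)) * l + 1 = 0) (x y : F)
    (h : algebraMap F (AlgebraicClosure F) x + algebraMap F (AlgebraicClosure F) y * l =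
      algebraMap F (AlgebraicClosure F) x + algebraMap F (AlgebraicClosure F) y *
        (algebraMap F (AlgebraicClosure F) (Matrix.trace (A : Matrix (Fin 2) (Fin 2) F)) - l)) :
    y = 0 := by
  have h1 : algebraMap F (AlgebraicClosure F) y *
      (2 * l - algebraMap F (AlgebraicClosure F)
        (Matrix.trace (A : Matrix (Fin 2) (Fin 2) F))) = 0 := by
    linear_combination h
  rcases mul_eq_zero.1 h1 with h2 | h2
  · exact (map_eq_zero _).1 h2
  · exfalso
    apply hA
    have h3 : algebraMap F (AlgebraicClosure F)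
        ((Matrix.trace (A : Matrix (Fin 2) (Fin 2) F)) ^ 2) =
        algebraMap F (AlgebraicClosure F) 4 := by
      simp only [map_pow, map_ofNat]
      linear_combination (2 * l - algebraMap F (AlgebraicClosure F)
        (Matrix.trace (A : Matrix (Fin 2) (Fin 2) F))) * h2 - 4 * hl
    exact (algebraMap F (AlgebraicClosure F)).injective h3

/-- Strong form of (T0): the eigenvalue character together with the coordinates. -/
theorem exists_eigen_hom_strong (A : Matrix.SpecialLinearGroup (Fin 2) F)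
    (hA : (Matrix.trace (A : Matrix (Fin 2) (Fin 2) F)) ^ 2 ≠ 4) :
    ∃ (φ : Subgroup.centralizer ({A} : Set (Matrix.SpecialLinearGroup (Fin 2) F)) →*
        (AlgebraicClosure F)ˣ) (l : AlgebraicClosure F),
      l ^ 2 - algebraMap F (AlgebraicClosure F)
        (Matrix.trace (A : Matrix (Fin 2) (Fin 2) F)) * l + 1 = 0 ∧
      Function.Injective φ ∧
      ∀ B : Subgroup.centralizer ({A} : Set (Matrix.SpecialLinearGroup (Fin 2) F)),
        ∃ x y : F, ((B : Matrix.SpecialLinearGroup (Fin 2) F) : Matrix (Fin 2) (Fin 2) F) =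
            x • (1 : Matrix (Fin 2) (Fin 2) F) + y • (A : Matrix (Fin 2) (Fin 2) F) ∧
          ((φ B : (AlgebraicClosure F)ˣ) : AlgebraicClosure F) =
            algebraMap F (AlgebraicClosure F) x + algebraMap F (AlgebraicClosure F) y * l ∧
          (((φ B)⁻¹ : (AlgebraicClosure F)ˣ) : AlgebraicClosure F) =
            algebraMap F (AlgebraicClosure F) x + algebraMap F (AlgebraicClosure F) y *
              (algebraMap F (AlgebraicClosure F)
                (Matrix.trace (A : Matrix (Fin 2) (Fin 2) F)) - l) := by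
  obtain ⟨l, hl⟩ := exists_root_quadratic (AlgebraicClosure F)
    (algebraMap F (AlgebraicClosure F) (Matrix.trace (A : Matrix (Fin 2) (Fin 2) F)))
  have key : ∀ B : Subgroup.centralizer ({A} : Set (Matrix.SpecialLinearGroup (Fin 2) F)),
      ∃ x y : F, ((B : Matrix.SpecialLinearGroup (Fin 2) F) : Matrix (Fin 2) (Fin 2) F) =
          x • (1 : Matrix (Fin 2) (Fin 2) F) + y • (A : Matrix (Fin 2) (Fin 2) F) ∧
        (((eigenHom A hA l hl).toHomUnits B : (AlgebraicClosure F)ˣ) : AlgebraicClosure F) =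
          algebraMap F (AlgebraicClosure F) x + algebraMap F (AlgebraicClosure F) y * l ∧
        ((((eigenHom A hA l hl).toHomUnits B)⁻¹ : (AlgebraicClosure F)ˣ) : AlgebraicClosure F) =
          algebraMap F (AlgebraicClosure F) x + algebraMap F (AlgebraicClosure F) y *
            (algebraMap F (AlgebraicClosure F)
              (Matrix.trace (A : Matrix (Fin 2) (Fin 2) F)) - l) := by
    intro B
    obtain ⟨x, y, h, hdet⟩ := exists_lin A hA B.1 B.2
    have hval : (((eigenHom A hA l hl).toHomUnits B : (AlgebraicClosure F)ˣ) :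
        AlgebraicClosure F) =
        algebraMap F (AlgebraicClosure F) x + algebraMap F (AlgebraicClosure F) y * l := by
      rw [MonoidHom.coe_toHomUnits]
      exact eigenFun_lin A hA l B.1 x y h
    refine ⟨x, y, h, hval, ?_⟩
    rw [Units.val_inv_eq_inv_val, hval]
    apply inv_eq_of_mul_eq_one_right
    have hdetK := congrArg (algebraMap F (AlgebraicClosure F)) hdet
    simp only [map_add, map_mul, map_pow, map_one] at hdetK
    linear_combination hdetK - (algebraMap F (AlgebraicClosure F) y) ^ 2 * hl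
  refine ⟨(eigenHom A hA l hl).toHomUnits, l, hl, ?_, key⟩
  rw [injective_iff_map_eq_one]
  intro B hB
  obtain ⟨x, y, h, hv, hi⟩ := key B
  rw [hB] at hv hi
  simp only [inv_one, Units.val_one] at hv hi
  have hy : y = 0 := y_eq_zero_of A hA l hl x y (hv.symm.trans hi)
  subst hy
  simp only [map_zero, zero_mul, add_zero] at hv
  have hx : x = 1 := by
    apply (algebraMap F (AlgebraicClosure F)).injective
    rw [← hv, map_one]
  subst hx
  apply Subtype.ext
  apply Subtype.ext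
  rw [h]; simp

/-- (T0) -/
theorem exists_eigen_hom (A : Matrix.SpecialLinearGroup (Fin 2) F)
    (hA : (Matrix.trace (A : Matrix (Fin 2) (Fin 2) F)) ^ 2 ≠ 4) :
    ∃ φ : Subgroup.centralizer ({A} : Set (Matrix.SpecialLinearGroup (Fin 2) F)) →*
        (AlgebraicClosure F)ˣ,
      Function.Injective φ ∧
      ∀ B, algebraMap F (AlgebraicClosure F)
          (Matrix.trace (B.1 : Matrix (Fin 2) (Fin 2) F)) =
        ((φ B : (AlgebraicClosure F)ˣ) : AlgebraicClosure F) +
          (((φ B)⁻¹ : (AlgebraicClosure F)ˣ) : AlgebraicClosure F) := by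
  obtain ⟨φ, l, hl, hinj, key⟩ := exists_eigen_hom_strong A hA
  refine ⟨φ, hinj, ?_⟩
  intro B
  obtain ⟨x, y, h, hv, hi⟩ := key B
  rw [hv, hi]
  have h' : (B.1 : Matrix (Fin 2) (Fin 2) F) =
      x • (1 : Matrix (Fin 2) (Fin 2) F) + y • (A : Matrix (Fin 2) (Fin 2) F) := h
  rw [h', trace_lin]
  simp only [map_add, map_mul, map_ofNat]
  ring

/-- (T1) -/
theorem isCyclic_centralizer [Finite F] (A : Matrix.SpecialLinearGroup (Fin 2) F)
    (hA : (Matrix.trace (A : Matrix (Fin 2) (Fin 2) F)) ^ 2 ≠ 4) :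
    IsCyclic (Subgroup.centralizer ({A} : Set (Matrix.SpecialLinearGroup (Fin 2) F))) := by
  obtain ⟨φ, hinj, -⟩ := exists_eigen_hom A hA
  exact isCyclic_of_injective_ringHom ((Units.coeHom (AlgebraicClosure F)).comp φ)
    (Units.val_injective.comp hinj)

/-- (T2) -/
theorem coprime_card_centralizer [Finite F] (p : ℕ) [Fact p.Prime] [CharP F p]
    (A : Matrix.SpecialLinearGroup (Fin 2) F)
    (hA : (Matrix.trace (A : Matrix (Fin 2) (Fin 2) F)) ^ 2 ≠ 4) :
    (Nat.card (Subgroup.centralizer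
      ({A} : Set (Matrix.SpecialLinearGroup (Fin 2) F)))).Coprime p := by
  obtain ⟨φ, hinj, -⟩ := exists_eigen_hom A hA
  have hp : p.Prime := Fact.out
  apply Nat.Coprime.symm
  rw [Nat.Prime.coprime_iff_not_dvd hp]
  intro hdvd
  obtain ⟨x, hx⟩ := exists_prime_orderOf_dvd_card' p hdvd
  have hxp : x ^ p = 1 := by rw [← hx]; exact pow_orderOf_eq_one x
  have h1 : ((φ x : (AlgebraicClosure F)ˣ) : AlgebraicClosure F) ^ p = 1 := by
    rw [← Units.val_pow_eq_pow_val, ← map_pow, hxp, map_one, Units.val_one]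
  have h2 : ((φ x : (AlgebraicClosure F)ˣ) : AlgebraicClosure F) = 1 := by
    apply frobenius_inj (AlgebraicClosure F) p
    simp [frobenius_def, h1]
  have h3 : φ x = 1 := Units.ext h2
  have h4 : x = 1 := by
    apply hinj; rw [h3, map_one]
  rw [h4, orderOf_one] at hx
  exact hp.one_lt.ne hx

/-- (T3) -/
theorem eq_or_eq_inv_of_trace_eq (A : Matrix.SpecialLinearGroup (Fin 2) F)
    (hA : (Matrix.trace (A : Matrix (Fin 2) (Fin 2) F)) ^ 2 ≠ 4) :
    ∀ B ∈ Subgroup.centralizer ({A} : Set (Matrix.SpecialLinearGroup (Fin 2) F)),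
    ∀ B' ∈ Subgroup.centralizer ({A} : Set (Matrix.SpecialLinearGroup (Fin 2) F)),
      Matrix.trace (B : Matrix (Fin 2) (Fin 2) F) = Matrix.trace (B' : Matrix (Fin 2) (Fin 2) F) →
      B' = B ∨ B' = B⁻¹ := by
  obtain ⟨φ, hinj, htr⟩ := exists_eigen_hom A hA
  intro B hB B' hB' h
  have e1 := htr ⟨B, hB⟩
  have e2 := htr ⟨B', hB'⟩
  simp only at e1 e2
  rw [h] at e1
  have e3 := e1.symm.trans e2
  obtain ⟨u, hu⟩ : ∃ u, u = φ ⟨B, hB⟩ := ⟨_, rfl⟩
  obtain ⟨v, hv⟩ : ∃ v, v = φ ⟨B', hB'⟩ := ⟨_, rfl⟩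
  rw [← hu, ← hv] at e3
  have hu1 : (u : AlgebraicClosure F) * ((u⁻¹ : (AlgebraicClosure F)ˣ) : AlgebraicClosure F) = 1 :=
    Units.mul_inv u
  have hv1 : (v : AlgebraicClosure F) * ((v⁻¹ : (AlgebraicClosure F)ˣ) : AlgebraicClosure F) = 1 :=
    Units.mul_inv v
  have hprod : ((u : AlgebraicClosure F) - v) * ((u : AlgebraicClosure F) * v - 1) = 0 := by
    linear_combination (u : AlgebraicClosure F) * v * e3 - (v : AlgebraicClosure F) * hu1 +
      (u : AlgebraicClosure F) * hv1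
  rcases mul_eq_zero.1 hprod with h1 | h1
  · left
    have : u = v := Units.ext (sub_eq_zero.1 h1)
    rw [hu, hv] at this
    have := hinj this
    exact (congrArg Subtype.val this).symm
  · right
    have h2 : u * v = 1 := by
      apply Units.ext
      rw [Units.val_mul, Units.val_one]
      exact sub_eq_zero.1 h1
    rw [hu, hv, ← map_mul] at h2
    have h3 : (⟨B, hB⟩ * ⟨B', hB'⟩ : Subgroup.centralizer
        ({A} : Set (Matrix.SpecialLinearGroup (Fin 2) F))) = 1 := by
      apply hinj; rw [h2, map_one]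
    have h4 : B * B' = 1 := congrArg Subtype.val h3
    exact (eq_inv_of_mul_eq_one_right h4)

/-- (T4) -/
theorem mem_center_of_sq_eq_one (A : Matrix.SpecialLinearGroup (Fin 2) F)
    (hA : (Matrix.trace (A : Matrix (Fin 2) (Fin 2) F)) ^ 2 ≠ 4) :
    ∀ B ∈ Subgroup.centralizer ({A} : Set (Matrix.SpecialLinearGroup (Fin 2) F)),
      B ^ 2 = 1 → B ∈ Subgroup.center (Matrix.SpecialLinearGroup (Fin 2) F) := by
  obtain ⟨φ, l, hl, hinj, key⟩ := exists_eigen_hom_strong A hA
  intro B hB hsq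
  obtain ⟨x, y, h, hv, hi⟩ := key ⟨B, hB⟩
  have h1 : (⟨B, hB⟩ : Subgroup.centralizer
      ({A} : Set (Matrix.SpecialLinearGroup (Fin 2) F))) ^ 2 = 1 := by
    apply Subtype.ext
    simpa using hsq
  have h2 : φ ⟨B, hB⟩ = (φ ⟨B, hB⟩)⁻¹ := by
    rw [eq_inv_iff_mul_eq_one, ← sq, ← map_pow, h1, map_one]
  rw [← h2, hv] at hi
  have hy : y = 0 := y_eq_zero_of A hA l hl x y hi
  subst hy
  rw [Subgroup.mem_center_iff]
  intro g
  apply Subtype.ext
  rw [Matrix.SpecialLinearGroup.coe_mul, Matrix.SpecialLinearGroup.coe_mul]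
  have h' : (B : Matrix (Fin 2) (Fin 2) F) =
      x • (1 : Matrix (Fin 2) (Fin 2) F) + (0 : F) • (A : Matrix (Fin 2) (Fin 2) F) := h
  rw [h']
  simp

theorem adjugate_two {R : Type*} [CommRing R] (M : Matrix (Fin 2) (Fin 2) R) :
    M.adjugate = M.trace • (1 : Matrix (Fin 2) (Fin 2) R) - M := by
  rw [Matrix.adjugate_fin_two]
  ext i j
  fin_cases i <;> fin_cases j <;> simp [Matrix.trace_fin_two]

theorem trace_conj (Y B : Matrix.SpecialLinearGroup (Fin 2) F) :
    Matrix.trace ((Y * B * Y⁻¹ : Matrix.SpecialLinearGroup (Fin 2) F) :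
      Matrix (Fin 2) (Fin 2) F) = Matrix.trace (B : Matrix (Fin 2) (Fin 2) F) := by
  rw [Matrix.SpecialLinearGroup.coe_mul, Matrix.SpecialLinearGroup.coe_mul,
    Matrix.trace_mul_cycle, ← Matrix.SpecialLinearGroup.coe_mul, inv_mul_cancel,
    Matrix.SpecialLinearGroup.coe_one, Matrix.one_mul]

/-- an element normalizing into the torus without centralizing `A` inverts `A`. -/
theorem conj_eq_inv (A : Matrix.SpecialLinearGroup (Fin 2) F)
    (hA : (Matrix.trace (A : Matrix (Fin 2) (Fin 2) F)) ^ 2 ≠ 4)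
    (Y : Matrix.SpecialLinearGroup (Fin 2) F)
    (hY : Y * A * Y⁻¹ ∈ Subgroup.centralizer ({A} : Set (Matrix.SpecialLinearGroup (Fin 2) F)))
    (hYC : Y ∉ Subgroup.centralizer ({A} : Set (Matrix.SpecialLinearGroup (Fin 2) F))) :
    Y * A * Y⁻¹ = A⁻¹ := by
  have hAC : A ∈ Subgroup.centralizer ({A} : Set (Matrix.SpecialLinearGroup (Fin 2) F)) := by
    rw [mem_centralizer_iff]
  rcases eq_or_eq_inv_of_trace_eq A hA A hAC _ hY (trace_conj Y A).symm with h | h
  · exfalso
    apply hYC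
    rw [Subgroup.mem_centralizer_iff]
    intro g hg
    rw [Set.mem_singleton_iff] at hg
    subst hg
    calc g * Y = (Y * g * Y⁻¹) * Y := by rw [h]
      _ = Y * g := by group
  · exact h

/-- if `Y` inverts `A` then it inverts the whole torus. -/
theorem conj_eq_inv_all (A : Matrix.SpecialLinearGroup (Fin 2) F)
    (hA : (Matrix.trace (A : Matrix (Fin 2) (Fin 2) F)) ^ 2 ≠ 4)
    (Y : Matrix.SpecialLinearGroup (Fin 2) F) (hY : Y * A * Y⁻¹ = A⁻¹) :
    ∀ B ∈ Subgroup.centralizer ({A} : Set (Matrix.SpecialLinearGroup (Fin 2) F)),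
      Y * B * Y⁻¹ = B⁻¹ := by
  intro B hB
  obtain ⟨x, y, h, -⟩ := exists_lin A hA B hB
  apply Subtype.ext
  have hYm : (Y : Matrix (Fin 2) (Fin 2) F) * (A : Matrix (Fin 2) (Fin 2) F) *
      ((Y⁻¹ : Matrix.SpecialLinearGroup (Fin 2) F) : Matrix (Fin 2) (Fin 2) F) =
      (Matrix.trace (A : Matrix (Fin 2) (Fin 2) F)) • (1 : Matrix (Fin 2) (Fin 2) F) -
        (A : Matrix (Fin 2) (Fin 2) F) := by
    have := congrArg Subtype.val hY
    rw [Matrix.SpecialLinearGroup.coe_inv, adjugate_two] at this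
    rw [← this]; simp
  have hYY : (Y : Matrix (Fin 2) (Fin 2) F) *
      ((Y⁻¹ : Matrix.SpecialLinearGroup (Fin 2) F) : Matrix (Fin 2) (Fin 2) F) = 1 := by
    rw [← Matrix.SpecialLinearGroup.coe_mul, mul_inv_cancel, Matrix.SpecialLinearGroup.coe_one]
  show ((Y * B * Y⁻¹ : Matrix.SpecialLinearGroup (Fin 2) F) : Matrix (Fin 2) (Fin 2) F) =
    ((B⁻¹ : Matrix.SpecialLinearGroup (Fin 2) F) : Matrix (Fin 2) (Fin 2) F)
  rw [Matrix.SpecialLinearGroup.coe_inv B, adjugate_two, Matrix.SpecialLinearGroup.coe_mul,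
    Matrix.SpecialLinearGroup.coe_mul, h, trace_lin, Matrix.mul_add, Matrix.add_mul,
    Matrix.mul_smul, Matrix.smul_mul, Matrix.mul_smul, Matrix.smul_mul, Matrix.mul_one, hYY, hYm]
  module

/-- (T5) -/
theorem normalizer_facts (A : Matrix.SpecialLinearGroup (Fin 2) F)
    (hA : (Matrix.trace (A : Matrix (Fin 2) (Fin 2) F)) ^ 2 ≠ 4) :
    ∀ Y Y' : Matrix.SpecialLinearGroup (Fin 2) F,
      Y * A * Y⁻¹ ∈ Subgroup.centralizer ({A} : Set (Matrix.SpecialLinearGroup (Fin 2) F)) →
      Y ∉ Subgroup.centralizer ({A} : Set (Matrix.SpecialLinearGroup (Fin 2) F)) →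
      Y' * A * Y'⁻¹ ∈ Subgroup.centralizer ({A} : Set (Matrix.SpecialLinearGroup (Fin 2) F)) →
      Y' ∉ Subgroup.centralizer ({A} : Set (Matrix.SpecialLinearGroup (Fin 2) F)) →
      (Y ^ 2 ∈ Subgroup.center (Matrix.SpecialLinearGroup (Fin 2) F) ∧
        (∀ B ∈ Subgroup.centralizer ({A} : Set (Matrix.SpecialLinearGroup (Fin 2) F)),
          Y * B * Y⁻¹ = B⁻¹) ∧
        Y * Y' ∈ Subgroup.centralizer ({A} : Set (Matrix.SpecialLinearGroup (Fin 2) F))) := by
  intro Y Y' hY hYC hY' hYC'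
  have h1 := conj_eq_inv A hA Y hY hYC
  have h2 := conj_eq_inv A hA Y' hY' hYC'
  have hall := conj_eq_inv_all A hA Y h1
  have hprod : ∀ Z Z' : Matrix.SpecialLinearGroup (Fin 2) F, Z * A * Z⁻¹ = A⁻¹ →
      Z' * A * Z'⁻¹ = A⁻¹ →
      Z * Z' ∈ Subgroup.centralizer ({A} : Set (Matrix.SpecialLinearGroup (Fin 2) F)) := by
    intro Z Z' hZ hZ'
    rw [Subgroup.mem_centralizer_iff]
    intro g hg
    rw [Set.mem_singleton_iff] at hg
    subst hg
    have e : (Z * Z') * g * (Z * Z')⁻¹ = g := by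
      calc (Z * Z') * g * (Z * Z')⁻¹ = Z * (Z' * g * Z'⁻¹) * Z⁻¹ := by group
        _ = Z * g⁻¹ * Z⁻¹ := by rw [hZ']
        _ = (Z * g * Z⁻¹)⁻¹ := by group
        _ = g := by rw [hZ, inv_inv]
    calc g * (Z * Z') = ((Z * Z') * g * (Z * Z')⁻¹) * (Z * Z') := by rw [e]
      _ = (Z * Z') * g := by group
  refine ⟨?_, hall, hprod Y Y' h1 h2⟩
  have hsqC : Y ^ 2 ∈ Subgroup.centralizer
      ({A} : Set (Matrix.SpecialLinearGroup (Fin 2) F)) := by
    rw [sq]; exact hprod Y Y h1 h1
  apply mem_center_of_sq_eq_one A hA _ hsqC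
  have e1 : Y * Y ^ 2 * Y⁻¹ = (Y ^ 2)⁻¹ := hall _ hsqC
  have e2 : Y * Y ^ 2 * Y⁻¹ = Y ^ 2 := by group
  rw [e2] at e1
  rw [sq (Y ^ 2)]
  exact mul_eq_one_iff_eq_inv.2 e1

/-- (T7), with the trace hypothesis: the torus is commutative. -/
theorem centralizer_comm (A : Matrix.SpecialLinearGroup (Fin 2) F)
    (hA : (Matrix.trace (A : Matrix (Fin 2) (Fin 2) F)) ^ 2 ≠ 4) :
    ∀ B ∈ Subgroup.centralizer ({A} : Set (Matrix.SpecialLinearGroup (Fin 2) F)),
    ∀ B' ∈ Subgroup.centralizer ({A} : Set (Matrix.SpecialLinearGroup (Fin 2) F)),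
      B * B' = B' * B := by
  obtain ⟨φ, hinj, -⟩ := exists_eigen_hom A hA
  intro B hB B' hB'
  have : (⟨B, hB⟩ * ⟨B', hB'⟩ : Subgroup.centralizer
      ({A} : Set (Matrix.SpecialLinearGroup (Fin 2) F))) = ⟨B', hB'⟩ * ⟨B, hB⟩ := by
    apply hinj
    rw [map_mul, map_mul, mul_comm]
  exact congrArg Subtype.val this

/-- (T6), with the trace hypothesis: noncentral elements of the torus have the same centralizer. -/
theorem centralizer_eq_of_mem (A : Matrix.SpecialLinearGroup (Fin 2) F)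
    (hA : (Matrix.trace (A : Matrix (Fin 2) (Fin 2) F)) ^ 2 ≠ 4) :
    ∀ A' ∈ Subgroup.centralizer ({A} : Set (Matrix.SpecialLinearGroup (Fin 2) F)),
      A' ∉ Subgroup.center (Matrix.SpecialLinearGroup (Fin 2) F) →
      Subgroup.centralizer ({A'} : Set (Matrix.SpecialLinearGroup (Fin 2) F)) =
        Subgroup.centralizer ({A} : Set (Matrix.SpecialLinearGroup (Fin 2) F)) := by
  intro A' hA' hcen
  obtain ⟨x, y, h, -⟩ := exists_lin A hA A' hA'
  have hy : y ≠ 0 := by
    rintro rfl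
    apply hcen
    rw [Subgroup.mem_center_iff]
    intro g
    apply Subtype.ext
    rw [Matrix.SpecialLinearGroup.coe_mul, Matrix.SpecialLinearGroup.coe_mul, h]
    simp
  ext g
  rw [mem_centralizer_iff, mem_centralizer_iff, h]
  simp only [Matrix.add_mul, Matrix.mul_add, Matrix.smul_mul, Matrix.mul_smul, Matrix.one_mul,
    Matrix.mul_one, add_right_inj]
  constructor
  · intro e
    have := congrArg (fun M => y⁻¹ • M) e
    simpa [smul_smul, inv_mul_cancel₀ hy] using this
  · intro e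
    rw [e]

end group

end Cfsg.Agent.Lib.Helper42.SL2Torus
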