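import Mathlib
import Cfsg.Agent.Lib.Helper07.PermEmbed

/-!
# Recognition of `A₅` (lemma R3 for the Dickson keystone)

A group of order 60 without elements of order 4, in which the centralizer of every involution
has order 4, is isomorphic to `alternatingGroup (Fin 5)`.
-/

set_option autoImplicit false
set_option linter.style.haveILetI false

namespace Cfsg.Agent.Lib.Helper42

namespace A5Recog

set_option linter.unusedSectionVars false

variable {G : Type*} [Group G] [Finite G]

theorem factorization_sixty_two : (Nat.factorization 60) 2 = 2 := by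
  have h : (60:ℕ) = 2^2 * 15 := by norm_num
  rw [h, Nat.factorization_mul (by norm_num) (by norm_num),
    Nat.Prime.factorization_pow Nat.prime_two]
  simp [Nat.factorization_eq_zero_of_not_dvd]

theorem card_sylow_two (h : Nat.card G = 60) (P : Sylow 2 G) : Nat.card P = 4 := by
  haveI : Fact (Nat.Prime 2) := ⟨Nat.prime_two⟩
  rw [P.card_eq_multiplicity, h, factorization_sixty_two]
  norm_num

theorem sq_eq_one_of_mem (h : Nat.card G = 60) (h4 : ∀ g : G, g ^ 4 = 1 → g ^ 2 = 1)
    (P : Sylow 2 G) {x : G} (hx : x ∈ P) : x ^ 2 = 1 := by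
  apply h4
  have h1 : (⟨x, hx⟩ : P) ^ Nat.card P = 1 := pow_card_eq_one'
  rw [card_sylow_two h P] at h1
  have h2 := congrArg (Subtype.val) h1
  simpa using h2

theorem comm_of_sq {x z : G} (hx : x ^ 2 = 1) (hz : z ^ 2 = 1) (hxz : (z * x) ^ 2 = 1) :
    z * x = x * z := by
  have h1 : (z * x)⁻¹ = z * x := by
    rw [inv_eq_iff_mul_eq_one]; simpa [sq] using hxz
  have hx' : x⁻¹ = x := by
    rw [inv_eq_iff_mul_eq_one]; simpa [sq] using hx
  have hz' : z⁻¹ = z := by
    rw [inv_eq_iff_mul_eq_one]; simpa [sq] using hz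
  calc z * x = (z * x)⁻¹ := h1.symm
    _ = x⁻¹ * z⁻¹ := mul_inv_rev _ _
    _ = x * z := by rw [hx', hz']

theorem coe_eq_centralizer (h : Nat.card G = 60) (h4 : ∀ g : G, g ^ 4 = 1 → g ^ 2 = 1)
    (hC : ∀ z : G, orderOf z = 2 → Nat.card (Subgroup.centralizer {z}) = 4)
    (P : Sylow 2 G) {z : G} (hz : orderOf z = 2) (hzP : z ∈ P) :
    (P : Subgroup G) = Subgroup.centralizer {z} := by
  apply Subgroup.eq_of_le_of_card_ge
  · intro x hx
    rw [Subgroup.mem_centralizer_iff]
    intro w hw
    rw [Set.mem_singleton_iff] at hw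
    subst hw
    exact comm_of_sq (sq_eq_one_of_mem h h4 P hx) (sq_eq_one_of_mem h h4 P hzP)
      (sq_eq_one_of_mem h h4 P (mul_mem hzP hx))
  · rw [hC z hz, card_sylow_two h P]

theorem sylow_eq_of_mem (h : Nat.card G = 60) (h4 : ∀ g : G, g ^ 4 = 1 → g ^ 2 = 1)
    (hC : ∀ z : G, orderOf z = 2 → Nat.card (Subgroup.centralizer {z}) = 4)
    (P Q : Sylow 2 G) {z : G} (hz : orderOf z = 2) (hzP : z ∈ P) (hzQ : z ∈ Q) : P = Q := by
  apply Sylow.ext
  rw [coe_eq_centralizer h h4 hC P hz hzP, coe_eq_centralizer h h4 hC Q hz hzQ]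

theorem exists_sylow_mem {z : G} (hz : orderOf z = 2) : ∃ P : Sylow 2 G, z ∈ P := by
  have hp : IsPGroup 2 (Subgroup.zpowers z) :=
    IsPGroup.of_card (n := 1) (by rw [Nat.card_zpowers, hz]; rfl)
  obtain ⟨P, hP⟩ := hp.exists_le_sylow
  exact ⟨P, hP (Subgroup.mem_zpowers z)⟩

theorem exists_involution (h : Nat.card G = 60) : ∃ z : G, orderOf z = 2 := by
  haveI : Fact (Nat.Prime 2) := ⟨Nat.prime_two⟩
  exact exists_prime_orderOf_dvd_card' 2 (by rw [h]; norm_num)

/-- the number of involutions is 15 -/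
theorem ncard_involutions (h : Nat.card G = 60)
    (hconj : ∀ z w : G, orderOf z = 2 → orderOf w = 2 → IsConj z w)
    (hC : ∀ z : G, orderOf z = 2 → Nat.card (Subgroup.centralizer {z}) = 4) :
    {w : G | orderOf w = 2}.ncard = 15 := by
  obtain ⟨z, hz⟩ := exists_involution h
  have hT : {w : G | orderOf w = 2} = MulAction.orbit (ConjAct G) z := by
    ext w
    rw [ConjAct.mem_orbit_conjAct, Set.mem_ofPred_eq]
    constructor
    · intro hw; exact hconj w z hw hz
    · intro hw
      obtain ⟨c, hc⟩ := hw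
      rw [SemiconjBy.orderOf_eq _ hc, hz]
  rw [hT, ← MulAction.index_stabilizer]
  have h1 := (MulAction.stabilizer (ConjAct G) z).index_mul_card
  have h2 : Nat.card (MulAction.stabilizer (ConjAct G) z) = 4 := by
    rw [ConjAct.stabilizer_eq_centralizer]
    exact hC z hz
  have h3 : Nat.card (ConjAct G) = 60 := h
  rw [h2, h3] at h1
  omega

/-- the involutions of a Sylow 2-subgroup: exactly three -/
theorem ncard_involutions_sylow (h : Nat.card G = 60) (h4 : ∀ g : G, g ^ 4 = 1 → g ^ 2 = 1)
    (P : Sylow 2 G) : {w : G | orderOf w = 2 ∧ w ∈ P}.ncard = 3 := by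
  haveI : Fact (Nat.Prime 2) := ⟨Nat.prime_two⟩
  have hS : {w : G | orderOf w = 2 ∧ w ∈ P} = ((P : Subgroup G) : Set G) \ {1} := by
    ext w
    simp only [Set.mem_ofPred_eq, Set.mem_sdiff, SetLike.mem_coe, Set.mem_singleton_iff]
    constructor
    · rintro ⟨hw, hwP⟩
      refine ⟨hwP, ?_⟩
      rintro rfl
      rw [orderOf_one] at hw
      omega
    · rintro ⟨hwP, hw1⟩
      exact ⟨orderOf_eq_prime (sq_eq_one_of_mem h h4 P hwP) hw1, hwP⟩
  rw [hS, Set.ncard_sdiff_singleton_of_mem (one_mem _)]
  have : ((P : Subgroup G) : Set G).ncard = 4 := by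
    rw [← Nat.card_coe_set_eq]
    exact card_sylow_two h P
  rw [this]

theorem card_sylow (h : Nat.card G = 60) (h4 : ∀ g : G, g ^ 4 = 1 → g ^ 2 = 1)
    (hconj : ∀ z w : G, orderOf z = 2 → orderOf w = 2 → IsConj z w)
    (hC : ∀ z : G, orderOf z = 2 → Nat.card (Subgroup.centralizer {z}) = 4) :
    Nat.card (Sylow 2 G) = 5 := by
  classical
  haveI : Fintype G := Fintype.ofFinite G
  haveI : Fintype (Sylow 2 G) := Fintype.ofFinite _
  let T : Finset G := Finset.univ.filter (fun w => orderOf w = 2)
  have hTcard : T.card = 15 := by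
    rw [← Set.ncard_coe_finset, ← ncard_involutions h hconj hC]
    congr 1
    ext w
    simp [T]
  let f : G → Sylow 2 G := fun w =>
    if hw : orderOf w = 2 then Classical.choose (exists_sylow_mem hw) else default
  have hf : ∀ w, orderOf w = 2 → w ∈ f w := by
    intro w hw
    simp only [f, dif_pos hw]
    exact Classical.choose_spec (exists_sylow_mem hw)
  have hsum := Finset.card_eq_sum_card_fiberwise (f := f) (s := T) (t := Finset.univ)
    (fun _ _ => Finset.mem_coe.mpr (Finset.mem_univ _))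
  have hfib : ∀ P : Sylow 2 G, (T.filter (fun w => f w = P)).card = 3 := by
    intro P
    rw [← Set.ncard_coe_finset, ← ncard_involutions_sylow h h4 P]
    congr 1
    ext w
    simp only [Finset.coe_filter, Finset.mem_filter, Finset.mem_univ, true_and, T,
      Set.mem_ofPred_eq]
    constructor
    · rintro ⟨hw, hfw⟩
      exact ⟨hw, hfw ▸ hf w hw⟩
    · rintro ⟨hw, hwP⟩
      exact ⟨hw, sylow_eq_of_mem h h4 hC _ _ hw (hf w hw) hwP⟩
  rw [hTcard, Finset.sum_congr rfl (fun P _ => hfib P), Finset.sum_const, Finset.card_univ,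
    smul_eq_mul] at hsum
  rw [Nat.card_eq_fintype_card]
  omega

/-- **R3**: recognition of `A₅`. -/
theorem a5_of_card (h : Nat.card G = 60) (h4 : ∀ g : G, g ^ 4 = 1 → g ^ 2 = 1)
    (hconj : ∀ z w : G, orderOf z = 2 → orderOf w = 2 → IsConj z w)
    (hC : ∀ z : G, orderOf z = 2 → Nat.card (Subgroup.centralizer {z}) = 4) :
    Nonempty (G ≃* alternatingGroup (Fin 5)) := by
  haveI : Fact (Nat.Prime 2) := ⟨Nat.prime_two⟩
  have hn := card_sylow h h4 hconj hC
  -- no involution normalizes every Sylow 2-subgroup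
  have hnoinv : ∀ k : G, (∀ P : Sylow 2 G, k ∈ Subgroup.normalizer (P : Set G)) →
      orderOf k ≠ 2 := by
    intro k hk hk2
    have hmem : ∀ P : Sylow 2 G, k ∈ P := by
      intro P
      have hp : IsPGroup 2 (Subgroup.zpowers k) :=
        IsPGroup.of_card (n := 1) (by rw [Nat.card_zpowers, hk2]; rfl)
      have h1 : Subgroup.zpowers k ⊓ Subgroup.normalizer (P : Set G)
          = Subgroup.zpowers k ⊓ P := hp.inf_normalizer_sylow P
      have h2 : k ∈ Subgroup.zpowers k ⊓ Subgroup.normalizer (P : Set G) :=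
        ⟨Subgroup.mem_zpowers k, hk P⟩
      rw [h1] at h2
      exact h2.2
    have hsub : Subsingleton (Sylow 2 G) :=
      ⟨fun P Q => sylow_eq_of_mem h h4 hC P Q hk2 (hmem P) (hmem Q)⟩
    have : Nat.card (Sylow 2 G) ≤ 1 := Finite.card_le_one_iff_subsingleton.mpr hsub
    omega
  have hinj : Function.Injective (MulAction.toPermHom G (Sylow 2 G)) := by
    rw [injective_iff_map_eq_one]
    intro k hk
    have hkN : ∀ P : Sylow 2 G, k ∈ Subgroup.normalizer (P : Set G) := by
      intro P
      rw [← Sylow.smul_eq_iff_mem_normalizer]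
      have := DFunLike.congr_fun hk P
      simpa using this
    -- every power/conjugate of k also normalizes every Sylow; commutators with P lie in P
    obtain ⟨z, hz⟩ := exists_involution h
    obtain ⟨P, hzP⟩ := exists_sylow_mem hz
    -- elements of P normalizing all Sylows are trivial
    have htriv : ∀ c : G, c ∈ P →
        (∀ Q : Sylow 2 G, c ∈ Subgroup.normalizer (Q : Set G)) → c = 1 := by
      intro c hcP hcN
      by_contra hc1
      exact hnoinv c hcN (orderOf_eq_prime (sq_eq_one_of_mem h h4 P hcP) hc1)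
    -- k commutes with z
    have hcomm : z * k = k * z := by
      have hc : k * z * k⁻¹ * z⁻¹ = 1 := by
        apply htriv
        · have h1 : k * z * k⁻¹ ∈ (P : Subgroup G) :=
            (Subgroup.mem_normalizer_iff.mp (hkN P) z).mp hzP
          exact mul_mem h1 (inv_mem hzP)
        · intro Q
          have h1 : z * k⁻¹ * z⁻¹ ∈ Subgroup.normalizer (Q : Set G) := by
            have h2 : z⁻¹ • Q = z⁻¹ • Q := rfl
            have h3 : k⁻¹ ∈ Subgroup.normalizer ((z⁻¹ • Q : Sylow 2 G) : Set G) :=
              inv_mem (hkN _)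
            rw [← Sylow.smul_eq_iff_mem_normalizer] at h3 ⊢
            rw [mul_smul, mul_smul, h3, smul_inv_smul]
          have h2 : k * (z * k⁻¹ * z⁻¹) ∈ Subgroup.normalizer (Q : Set G) :=
            mul_mem (hkN Q) h1
          convert h2 using 1
          group
      have : k * z = z * k := by
        have := mul_inv_eq_one.mp hc
        rw [mul_inv_eq_iff_eq_mul] at this
        exact this
      exact this.symm
    have hkP : k ∈ (P : Subgroup G) := by
      rw [coe_eq_centralizer h h4 hC P hz hzP, Subgroup.mem_centralizer_iff]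
      intro w hw
      rw [Set.mem_singleton_iff] at hw
      subst hw
      exact hcomm
    exact htriv k hkP hkN
  exact Helper07.nonempty_mulEquiv_alternatingGroup (MulAction.toPermHom G (Sylow 2 G)) hinj 5 hn
    (by rw [h]; rfl)

end A5Recog

end Cfsg.Agent.Lib.Helper42
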