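import Mathlib
import Cfsg.Agent.Lib.Helper17.PG7920Defs
import Cfsg.Agent.Lib.Helper04.BurnsidePQ
import Cfsg.Agent.Lib.Helper62.PG7920_GEN

/-!
# S2490 pack, leaf 249007 K-PG-B1 (helper42)

A group of order 7920 with a nonsolvable normal subgroup of order prime to 11 has a
connected prime graph (star at 11).
-/

namespace Cfsg.Agent.Lib.Helper42.PG7920

open Cfsg.Agent.Lib.Helper17.PG7920

theorem b1_div45 : ∀ n ∈ Nat.divisors 45, ∃ a ∈ Finset.range 3, ∃ b ∈ Finset.range 2,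
    n = 3 ^ a * 5 ^ b := by decide

theorem b1_div80 : ∀ n ∈ Nat.divisors 80, ∃ a ∈ Finset.range 5, ∃ b ∈ Finset.range 2,
    n = 2 ^ a * 5 ^ b := by decide

theorem b1_div144 : ∀ n ∈ Nat.divisors 144, ∃ a ∈ Finset.range 5, ∃ b ∈ Finset.range 3,
    n = 2 ^ a * 3 ^ b := by decide

theorem b1_dvd_of_not_dvd {n p k m : ℕ} (hp : p.Prime) (h : n ∣ p ^ k * m) (hn : ¬ p ∣ n) :
    n ∣ m := by
  have hc : Nat.Coprime n (p ^ k) :=
    Nat.Coprime.pow_right k ((Nat.Prime.coprime_iff_not_dvd hp).2 hn).symm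
  exact hc.dvd_of_dvd_mul_left h

theorem b1_edge {G : Type*} [Group G] [Finite G]
    (hord : Nat.card G = 7920) (N : Subgroup G) [N.Normal] (h11 : ¬ 11 ∣ Nat.card N)
    (h720 : Nat.card N ∣ 720) (s B : ℕ) (hs : s.Prime) (hsN : s ∣ Nat.card N)
    (hB : ¬ s ^ (B + 1) ∣ 720) (hchk : ∀ a, a ≤ B → 0 < a → ¬ 11 ∣ s ^ a - 1) :
    Edge G 11 s := by
  have hn0 : Nat.card N ≠ 0 := Nat.card_pos.ne'
  set a := (Nat.card N).factorization s with ha
  have ha0 : 0 < a := hs.factorization_pos_of_dvd hn0 hsN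
  have hsa : s ^ a ∣ Nat.card N := Nat.ordProj_dvd _ _
  have hsa' : ¬ s ^ (a + 1) ∣ Nat.card N := Nat.pow_succ_factorization_not_dvd hn0 hs
  have haB : a ≤ B := by
    by_contra hlt
    rw [not_le] at hlt
    exact hB ((pow_dvd_pow s (by omega)).trans (hsa.trans h720))
  have h11G : 11 ^ 1 ∣ Nat.card G := by rw [hord]; norm_num
  have hnd : ¬ 11 ^ 1 ∣ s ^ a - 1 := by
    rw [pow_one]; exact hchk a haB ha0
  exact Cfsg.Agent.Lib.Helper62.PG7920.exists_orderOf_eq_mul_of_normal N 11 s 1 a (by norm_num) hs h11 h11G ha0 hsa hsa' hnd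

/-- 249007 K-PG-B1. -/
theorem pgConn_of_normal_not_solvable {G : Type*} [Group G] [Finite G]
    (hord : Nat.card G = 7920) (N : Subgroup G) [N.Normal] (h11 : ¬ 11 ∣ Nat.card N)
    (hns : ¬ Group.IsSolvable N) : PGConn G := by
  have hdvd : Nat.card N ∣ 7920 := hord ▸ Subgroup.card_subgroup_dvd_card N
  have h720 : Nat.card N ∣ 720 := by
    have h : Nat.card N ∣ 11 ^ 1 * 720 := by norm_num; exact hdvd
    exact b1_dvd_of_not_dvd (by norm_num) h h11
  have h2 : 2 ∣ Nat.card N := by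
    by_contra h
    apply hns
    have h45 : Nat.card N ∣ 45 := by
      have h' : Nat.card N ∣ 2 ^ 4 * 45 := by norm_num; exact h720
      exact b1_dvd_of_not_dvd (by norm_num) h' h
    obtain ⟨a, -, b, -, hab⟩ := b1_div45 _ (Nat.mem_divisors.2 ⟨h45, by norm_num⟩)
    exact Cfsg.Agent.Lib.Helper04.burnside_paqb 3 5 a b (by norm_num) (by norm_num) hab
  have h3 : 3 ∣ Nat.card N := by
    by_contra h
    apply hns
    have h80 : Nat.card N ∣ 80 := by
      have h' : Nat.card N ∣ 3 ^ 2 * 80 := by norm_num; exact h720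
      exact b1_dvd_of_not_dvd (by norm_num) h' h
    obtain ⟨a, -, b, -, hab⟩ := b1_div80 _ (Nat.mem_divisors.2 ⟨h80, by norm_num⟩)
    exact Cfsg.Agent.Lib.Helper04.burnside_paqb 2 5 a b (by norm_num) (by norm_num) hab
  have h5 : 5 ∣ Nat.card N := by
    by_contra h
    apply hns
    have h144 : Nat.card N ∣ 144 := by
      have h' : Nat.card N ∣ 5 ^ 1 * 144 := by norm_num; exact h720
      exact b1_dvd_of_not_dvd (by norm_num) h' h
    obtain ⟨a, -, b, -, hab⟩ := b1_div144 _ (Nat.mem_divisors.2 ⟨h144, by norm_num⟩)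
    exact Cfsg.Agent.Lib.Helper04.burnside_paqb 2 3 a b (by norm_num) (by norm_num) hab
  have e2 : Edge G 11 2 := by
    refine b1_edge hord N h11 h720 2 4 (by norm_num) h2 (by norm_num) ?_
    intro a ha ha0
    (interval_cases a) <;> norm_num
  have e3 : Edge G 11 3 := by
    refine b1_edge hord N h11 h720 3 2 (by norm_num) h3 (by norm_num) ?_
    intro a ha ha0
    (interval_cases a) <;> norm_num
  have e5 : Edge G 11 5 := by
    refine b1_edge hord N h11 h720 5 1 (by norm_num) h5 (by norm_num) ?_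
    intro a ha ha0
    (interval_cases a) <;> norm_num
  intro c hc
  have c2 := hc 11 2 (by decide) (by decide) e2
  have c3 := hc 11 3 (by decide) (by decide) e3
  have c5 := hc 11 5 (by decide) (by decide) e5
  tauto

end Cfsg.Agent.Lib.Helper42.PG7920
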