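import Cfsg.Agent.Lib.Helper42.StronglyEmbedded

set_option autoImplicit false
set_option linter.style.haveILetI false
set_option linter.unusedSectionVars false

open Cfsg

namespace Cfsg.Agent.Lib.Helper42

variable {G : Type*} [Group G]

/-- A `p`-subgroup `B ≤ N` lies in a "Sylow `p`-subgroup of `N`" (seen inside `G`). -/
theorem exists_sylow_of_le [Finite G] (p : ℕ) [Fact p.Prime] (N B : Subgroup G) (hB : IsPGroup p B)
    (hBN : B ≤ N) : ∃ U : Subgroup G, B ≤ U ∧ U ≤ N ∧ IsPGroup p U ∧ ¬ p ∣ U.relIndex N := by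
  obtain ⟨S, hS⟩ := (hB.comap_subtype (K := N)).exists_le_sylow
  refine ⟨(S : Subgroup N).map N.subtype, ?_, Subgroup.map_subtype_le _, S.2.map _, ?_⟩
  · intro b hb
    exact ⟨⟨b, hBN hb⟩, hS (show (⟨b, hBN hb⟩ : N) ∈ Subgroup.comap N.subtype B from hb), rfl⟩
  · rw [Subgroup.relIndex, Subgroup.subgroupOf, Subgroup.comap_map_eq_self_of_injective
      (Subgroup.subtype_injective _)]
    exact S.not_dvd_index

/-- Sylow conjugation inside a subgroup `E`, relative index version. -/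
theorem exists_conj_mem_of_le' [Finite G] (p : ℕ) [Fact p.Prime]
    (E S B : Subgroup G) (hS : IsPGroup p S) (hSi : ¬ p ∣ S.relIndex E) (hB : IsPGroup p B)
    (hBE : B ≤ E) : ∃ e ∈ E, ∀ b ∈ B, e * b * e⁻¹ ∈ S := by
  obtain ⟨e, he⟩ := exists_conj_mem_of_isPGroup p (S.subgroupOf E) (B.subgroupOf E)
    hS.comap_subtype hSi hB.comap_subtype
  refine ⟨e, e.2, fun b hb => ?_⟩
  have := he ⟨b, hBE hb⟩ (by rw [Subgroup.mem_subgroupOf]; exact hb)
  rw [Subgroup.mem_subgroupOf] at this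
  simpa using this

/-- right conjugate of a subgroup: `g⁻¹ H g` -/
def cjs (g : G) (H : Subgroup G) : Subgroup G := H.map (MulAut.conj g⁻¹).toMonoidHom

theorem mem_cjs {g : G} {H : Subgroup G} {b : G} : b ∈ cjs g H ↔ g * b * g⁻¹ ∈ H := by
  unfold cjs
  constructor
  · rintro ⟨a, ha, rfl⟩
    simpa [mul_assoc] using ha
  · intro h
    exact ⟨g * b * g⁻¹, h, by simp [mul_assoc]⟩

theorem cjs_one (H : Subgroup G) : cjs 1 H = H := by
  ext b; simp [mem_cjs]

theorem cjs_mul (g h : G) (H : Subgroup G) : cjs (g * h) H = cjs h (cjs g H) := by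
  ext b; simp [mem_cjs, mul_assoc]

theorem cjs_mono {g : G} {H K : Subgroup G} (h : H ≤ K) : cjs g H ≤ cjs g K := Subgroup.map_mono h

theorem cjs_inf (g : G) (H K : Subgroup G) : cjs g (H ⊓ K) = cjs g H ⊓ cjs g K :=
  Subgroup.map_inf _ _ _ (MulAut.conj g⁻¹).injective

theorem card_cjs (g : G) (H : Subgroup G) : Nat.card (cjs g H) = Nat.card H :=
  Subgroup.card_map_of_injective (MulAut.conj g⁻¹).injective

theorem cjs_normalizer (g : G) (H : Subgroup G) :
    cjs g (Subgroup.normalizer (H : Set G)) = Subgroup.normalizer ((cjs g H : Subgroup G) : Set G) :=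
  Subgroup.map_equiv_normalizer_eq H (MulAut.conj g⁻¹)

theorem relIndex_cjs (g : G) (H K : Subgroup G) : (cjs g H).relIndex (cjs g K) = H.relIndex K :=
  Subgroup.relIndex_map_map_of_injective _ _ (MulAut.conj g⁻¹).injective

theorem cjs_eq_self {g : G} {H : Subgroup G} (hg : g ∈ Subgroup.normalizer (H : Set G)) :
    cjs g H = H := by
  ext b
  rw [mem_cjs]
  exact ((Subgroup.mem_normalizer_iff.mp hg) b).symm

theorem isPGroup_cjs {p : ℕ} (g : G) {H : Subgroup G} (h : IsPGroup p H) : IsPGroup p (cjs g H) :=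
  h.map _

theorem sylow_inv_smul_coe {p : ℕ} [Fact p.Prime] (g : G) (Q : Sylow p G) :
    ((g⁻¹ • Q : Sylow p G) : Subgroup G) = cjs g (Q : Subgroup G) := by
  rw [Sylow.coe_subgroup_smul]; rfl

end Cfsg.Agent.Lib.Helper42
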