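import Cfsg.Agent.S2012

set_option autoImplicit false
set_option linter.style.haveILetI false
set_option linter.unusedSectionVars false
open Cfsg

namespace Cfsg.Agent.Lib.Helper42
open Cfsg.Agent.S2012

variable {G : Type*} [Group G] [Finite G] {p : ℕ} [Fact p.Prime]

/-- Alperin's theorem in `Good` form. -/
theorem good_of_subset (P : Sylow p G) (A : Set G) (g : G) (hA : A ⊆ (P : Set G))
    (hAg : cj g A ⊆ (P : Set G)) : Good P A g := by
  have hAQ : A ⊆ (((P : Subgroup G) ⊓ ((g • P : Sylow p G) : Subgroup G) : Subgroup G) : Set G) := by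
    intro a ha
    refine ⟨hA ha, ?_⟩
    rw [Sylow.coe_subgroup_smul]
    refine ⟨g⁻¹ * a * g, hAg ⟨a, ha, rfl⟩, ?_⟩
    simp [MulAut.conj_apply, mul_assoc]
  obtain ⟨x, hx, hgx⟩ := claim P _ (g • P) _ le_rfl le_rfl
  have hgxA : Good P A x := good_mono P hAQ hgx
  have hnorm : x⁻¹ * g ∈ Subgroup.normalizer ((P : Subgroup G) : Set G) := by
    apply Sylow.smul_eq_iff_mem_normalizer.mp
    rw [mul_smul, hx]
  have hPP : (P : Subgroup G) ⊓ (P : Subgroup G) = (P : Subgroup G) := inf_idem _
  have hrel : ¬ p ∣ ((P : Subgroup G) ⊓ Subgroup.normalizer ((P : Subgroup G) : Set G)).relIndex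
      (Subgroup.normalizer ((P : Subgroup G) : Set G)) := by
    rw [inf_eq_left.mpr Subgroup.le_normalizer]
    exact fun h => P.not_dvd_index (h.trans (Subgroup.relIndex_dvd_index_of_le Subgroup.le_normalizer))
  have hstep : StepOK P P (x⁻¹ * g) := by
    refine ⟨?_, ?_, ?_, Or.inl rfl⟩
    · rw [hPP]; exact hnorm
    · rw [hPP]; exact hrel
    · rw [hPP]; exact hrel
  have hsub : cj x A ⊆ (P : Set G) := by
    obtain ⟨_, _, _, h3⟩ := hgxA
    exact h3
  have hlast : Good P (cj x A) (x⁻¹ * g) := good_step P P _ hstep (by rw [hPP]; exact hsub)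
  have := good_mul P hgxA hlast
  rw [mul_inv_cancel_left] at this
  exact this

theorem valid_cons (P T : Sylow p G) (x : G) (A : Set G) (l : List (Sylow p G × G))
    (h : Valid P A ((T, x) :: l)) :
    StepOK P T x ∧ A ⊆ (((P : Subgroup G) ⊓ (T : Subgroup G) : Subgroup G) : Set G) ∧
      Valid P (cj x A) l := by
  have h0 := h 0 (by simp)
  refine ⟨h0.1, by simpa [cj_one] using h0.2, ?_⟩
  intro i hi
  have h1 := h (i + 1) (by simpa using hi)
  refine ⟨by simpa using h1.1, ?_⟩
  have := h1.2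
  simp only [List.take_succ_cons, List.map_cons, List.prod_cons, List.getElem_cons_succ] at this
  rw [cj_mul] at this
  exact this

end Cfsg.Agent.Lib.Helper42
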