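import Mathlib
import Cfsg.Agent.Lib.Helper23.SylowEmbed
import Cfsg.Agent.Lib.Helper23.SylowCount
import Cfsg.Agent.Lib.Helper23.SylowInter
import Cfsg.Agent.Lib.Helper23.Focal

/-!
# K-S0496-720C, part 1: the normalizer of a Sylow 3-subgroup when `|G| = 720`, `n_3 = 40`
-/

set_option autoImplicit false

namespace Cfsg.Agent.Lib.Helper42.Small1092

open Subgroup MulAction
open scoped commutatorElement

variable {G : Type*} [Group G] [Finite G]

theorem commutator_eq_top_of_simple [IsSimpleGroup G] (hG : ¬ IsMulCommutative G) :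
    commutator G = ⊤ := by
  rcases (inferInstance : (commutator G).Normal).eq_bot_or_eq_top with h | h
  · exfalso
    apply hG
    constructor
    constructor
    intro a b
    have h1 : ⁅a, b⁆ ∈ commutator G := Subgroup.commutator_mem_commutator (Subgroup.mem_top a) (Subgroup.mem_top b)
    rw [h, Subgroup.mem_bot] at h1
    exact commutatorElement_eq_one_iff_mul_comm.1 h1
  · exact h

section

variable (h : Nat.card G = 720)
include h

theorem card_sylow3_720 (P : Sylow 3 G) : Nat.card (P : Subgroup G) = 9 := by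
  haveI : Fact (Nat.Prime 3) := ⟨by norm_num⟩
  have := Cfsg.Agent.Lib.Helper23.sylow_card_of_card_eq 3 2 80 (by rw [h]; norm_num) (by norm_num) P
  simpa using this

theorem comm_sylow3_720 (P : Sylow 3 G) :
    ∀ a ∈ (P : Subgroup G), ∀ b ∈ (P : Subgroup G), a * b = b * a := by
  haveI : Fact (Nat.Prime 3) := ⟨by norm_num⟩
  have hc : Nat.card (P : Subgroup G) = 3 ^ 2 := by rw [card_sylow3_720 h P]; norm_num
  have hQ : IsMulCommutative (P : Subgroup G) := IsPGroup.isMulCommutative_of_card_eq_prime_sq hc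
  intro a ha b hb
  have := hQ.is_comm.comm ⟨a, ha⟩ ⟨b, hb⟩
  exact congrArg Subtype.val this

theorem card_normalizer_sylow3_720 (h3 : Nat.card (Sylow 3 G) = 40) (P : Sylow 3 G) :
    Nat.card (normalizer ((P : Subgroup G) : Set G)) = 18 := by
  haveI : Fact (Nat.Prime 3) := ⟨by norm_num⟩
  have h1 := Cfsg.Agent.Lib.Helper23.card_normalizer_mul_card_sylow 3 P
  rw [h3, h] at h1
  omega

/-- the structure of `N(P)`: an involution `s` inverting `P`, with `N(P) = P ∪ sP`. -/
theorem exists_inverting_720 [IsSimpleGroup G] (hG : ¬ IsMulCommutative G)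
    (h3 : Nat.card (Sylow 3 G) = 40) (P : Sylow 3 G) :
    ∃ s ∈ normalizer ((P : Subgroup G) : Set G), s * s = 1 ∧ (∀ x ∈ (P : Subgroup G), s * x * s⁻¹ = x⁻¹) ∧
      ∀ n ∈ normalizer ((P : Subgroup G) : Set G), n ∈ (P : Subgroup G) ∨ s⁻¹ * n ∈ (P : Subgroup G) := by
  haveI : Fact (Nat.Prime 3) := ⟨by norm_num⟩
  set N := normalizer ((P : Subgroup G) : Set G) with hN
  have hPN : (P : Subgroup G) ≤ N := Subgroup.le_normalizer
  set P' : Subgroup N := (P : Subgroup G).subgroupOf N with hP'
  have hcardP' : Nat.card P' = 9 := by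
    rw [hP', Nat.card_congr (Subgroup.subgroupOfEquivOfLe hPN).toEquiv, card_sylow3_720 h P]
  have hidx : P'.index = 2 := by
    have h1 := Subgroup.card_mul_index P'
    rw [hcardP', card_normalizer_sylow3_720 h h3 P] at h1
    omega
  obtain ⟨s, hs⟩ : ∃ s : N, s ∉ P' := by
    by_contra hcon
    push_neg at hcon
    have : P' = ⊤ := eq_top_iff.2 (fun x _ => hcon x)
    rw [this, Subgroup.index_top] at hidx
    omega
  have hab := comm_sylow3_720 h P
  have hperf : (P : Subgroup G) ≤ commutator G := by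
    rw [commutator_eq_top_of_simple hG]; exact le_top
  have hsN : (s : G) ∈ N := s.2
  have hsP : (s : G) ∉ (P : Subgroup G) := fun hc => hs (Subgroup.mem_subgroupOf.2 hc)
  have hcover : ∀ n ∈ N, n ∈ (P : Subgroup G) ∨ (s : G)⁻¹ * n ∈ (P : Subgroup G) := by
    intro n hn
    by_cases hnP : n ∈ (P : Subgroup G)
    · exact Or.inl hnP
    · right
      have hn' : (⟨n, hn⟩ : N) ∉ P' := fun hc => hnP (Subgroup.mem_subgroupOf.1 hc)
      have hs' : s⁻¹ ∉ P' := fun hc => hs (by simpa using inv_mem hc)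
      have := (Subgroup.mul_mem_iff_of_index_two hidx (a := s⁻¹) (b := ⟨n, hn⟩)).2
        ⟨fun hc => absurd hc hs', fun hc => absurd hc hn'⟩
      exact Subgroup.mem_subgroupOf.1 this
  have hfocal : ∀ x ∈ (P : Subgroup G), (s : G) * x = x * s → x = 1 :=
    fun x hx hc => Cfsg.Agent.Lib.Helper23.eq_one_of_commute_of_focal P hab hperf (s : G) hsN hcover x hx hc
  -- s * s ∈ P
  have hssP : (s : G) * s ∈ (P : Subgroup G) := by
    have := (Subgroup.mul_mem_iff_of_index_two hidx (a := s) (b := s)).2 Iff.rfl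
    exact Subgroup.mem_subgroupOf.1 this
  have hss : (s : G) * s = 1 := hfocal _ hssP (by rw [mul_assoc])
  have hsinv : (s : G)⁻¹ = s := inv_eq_of_mul_eq_one_left hss
  have hconjP : ∀ x ∈ (P : Subgroup G), (s : G) * x * (s : G)⁻¹ ∈ (P : Subgroup G) := by
    intro x hx
    exact (Subgroup.mem_normalizer_iff.1 hsN x).1 hx
  refine ⟨s, hsN, hss, ?_, hcover⟩
  intro x hx
  set c : G := (s : G) * x * (s : G)⁻¹ with hc
  have hcP : c ∈ (P : Subgroup G) := hconjP x hx
  have hu : x * c ∈ (P : Subgroup G) := mul_mem hx hcP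
  have hc2 : (s : G) * c * (s : G)⁻¹ = x := by
    calc (s : G) * c * (s : G)⁻¹ = ((s : G) * s) * x * ((s : G) * s)⁻¹ := by rw [hc]; group
      _ = x := by rw [hss]; simp
  have hconj : (s : G) * (x * c) * (s : G)⁻¹ = x * c := by
    calc (s : G) * (x * c) * (s : G)⁻¹ = ((s : G) * x * (s : G)⁻¹) * ((s : G) * c * (s : G)⁻¹) := by group
      _ = c * x := by rw [hc2]
      _ = x * c := hab c hcP x hx
  have hcomm : (s : G) * (x * c) = x * c * s := by
    rw [← mul_inv_eq_iff_eq_mul]
    exact hconj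
  have hone := hfocal _ hu hcomm
  exact (eq_inv_of_mul_eq_one_right hone)

/-- `N(P)` normalizes every subgroup of `P`. -/
theorem normalizer_le_normalizer_720 [IsSimpleGroup G] (hG : ¬ IsMulCommutative G)
    (h3 : Nat.card (Sylow 3 G) = 40) (P : Sylow 3 G) (D : Subgroup G) (hDP : D ≤ (P : Subgroup G)) :
    normalizer ((P : Subgroup G) : Set G) ≤ normalizer (D : Set G) := by
  obtain ⟨s, hsN, hss, hinv, hcover⟩ := exists_inverting_720 h hG h3 P
  have hab := comm_sylow3_720 h P
  have hsinv : s⁻¹ = s := inv_eq_of_mul_eq_one_left hss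
  intro n hn
  haveI : Finite (D : Set G) := Subtype.finite
  apply Subgroup.mem_normalizer_fintype
  intro d hd
  have hdD : d ∈ D := hd
  have hdP : d ∈ (P : Subgroup G) := hDP hdD
  show n * d * n⁻¹ ∈ D
  rcases hcover n hn with hnP | hnP
  · rw [hab n hnP d hdP, mul_inv_cancel_right]
    exact hdD
  · -- n = s * q
    set q := s⁻¹ * n with hq
    have hn' : n = s * q := by rw [hq, ← mul_assoc, mul_inv_cancel, one_mul]
    have : n * d * n⁻¹ = s * d * s⁻¹ := by
      rw [hn', mul_inv_rev]
      have : s * q * d * (q⁻¹ * s⁻¹) = s * (q * d * q⁻¹) * s⁻¹ := by group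
      rw [this, hab q hnP d hdP, mul_inv_cancel_right]
    rw [this, hinv d hdP]
    exact inv_mem hdD

end

end Cfsg.Agent.Lib.Helper42.Small1092
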