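import Mathlib
import Cfsg.Agent.S0985
import Cfsg.Agent.Lib.Helper42.Small1092N720C1

/-!
# K-S0496-720C, part 2: the bad pair `P ≠ R`, `D = P ⊓ R`, `L = N(D)` of order `72`, an involution of `C(D)`
-/

set_option autoImplicit false

namespace Cfsg.Agent.Lib.Helper42.Small1092

open Subgroup MulAction

variable {G : Type*} [Group G] [Finite G]

section

variable (h : Nat.card G = 720)
include h

theorem exists_bad_pair_720 (h3 : Nat.card (Sylow 3 G) = 40) :
    ∃ P R : Sylow 3 G, P ≠ R ∧ (P : Subgroup G) ⊓ (R : Subgroup G) ≠ ⊥ := by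
  haveI : Fact (Nat.Prime 3) := ⟨by norm_num⟩
  have hmod : ¬ Nat.card (Sylow 3 G) ≡ 1 [MOD 3 ^ 2] := by
    rw [h3]
    decide
  obtain ⟨P, R, hne, hidx⟩ := Cfsg.Agent.S0985.result 3 2 hmod
  refine ⟨P, R, hne, ?_⟩
  intro hbot
  have h1 := Cfsg.Agent.Lib.Helper23.card_inf_mul_index_subgroupOf (P : Subgroup G) (R : Subgroup G)
  rw [hbot, Subgroup.card_bot, card_sylow3_720 h P, one_mul] at h1
  rw [h1] at hidx
  norm_num at hidx

theorem card_normalizer_inf_720 [IsSimpleGroup G] (hG : ¬ IsMulCommutative G)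
    (h3 : Nat.card (Sylow 3 G) = 40) (P : Sylow 3 G) (D : Subgroup G) (hDP : D ≤ (P : Subgroup G))
    (hL : Nat.card (normalizer (D : Set G)) = 36 ∨ Nat.card (normalizer (D : Set G)) = 72) :
    Nat.card (normalizer (D : Set G)) = 72 := by
  haveI : Fact (Nat.Prime 3) := ⟨by norm_num⟩
  rcases hL with hL | hL
  · exfalso
    set L := normalizer (D : Set G) with hLdef
    have hNL : normalizer ((P : Subgroup G) : Set G) ≤ L := normalizer_le_normalizer_720 h hG h3 P D hDP
    have hPL : (P : Subgroup G) ≤ L := le_trans Subgroup.le_normalizer hNL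
    have h1 := Cfsg.Agent.Lib.Helper23.card_normalizer_mul_card_sylow 3 (P.subtype hPL)
    have h2 : Nat.card (normalizer (((P.subtype hPL : Sylow 3 L) : Subgroup L) : Set L)) = 18 := by
      rw [Sylow.coe_subtype, ← Subgroup.subgroupOf_normalizer_eq hPL,
        Nat.card_congr (Subgroup.subgroupOfEquivOfLe hNL).toEquiv]
      exact card_normalizer_sylow3_720 h h3 P
    rw [h2, hL] at h1
    have h4 := card_sylow_modEq_one 3 L
    have h5 : Nat.card (Sylow 3 L) = 2 := by omega
    rw [h5] at h4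
    exact absurd h4 (by decide)
  · exact hL

theorem exists_involution_centralizer_720 (P R : Sylow 3 G) (hne : P ≠ R) (D : Subgroup G)
    (hDP : D ≤ (P : Subgroup G)) (hDR : D ≤ (R : Subgroup G)) :
    ∃ w ∈ centralizer (D : Set G), orderOf w = 2 := by
  haveI : Fact (Nat.Prime 3) := ⟨by norm_num⟩
  haveI : Fact (Nat.Prime 2) := ⟨by norm_num⟩
  have hPC : (P : Subgroup G) ≤ centralizer (D : Set G) := by
    intro a ha
    rw [Subgroup.mem_centralizer_iff]
    intro d hd
    exact comm_sylow3_720 h P d (hDP hd) a ha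
  have hRC : (R : Subgroup G) ≤ centralizer (D : Set G) := by
    intro a ha
    rw [Subgroup.mem_centralizer_iff]
    intro d hd
    exact comm_sylow3_720 h R d (hDR hd) a ha
  obtain ⟨d, hd1, hd2, hd3⟩ :=
    Cfsg.Agent.Lib.Helper23.exists_card_sylow_of_two_le 3 P R hne (centralizer (D : Set G)) hPC hRC
  rw [card_sylow3_720 h P] at hd3
  have hC720 : Nat.card (centralizer (D : Set G)) ∣ 720 := by
    rw [← h]; exact Subgroup.card_subgroup_dvd_card _
  have h9d : 9 * d ∣ 720 := dvd_trans hd3 hC720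
  have hd80 : d ∣ 80 := by
    have : 9 * d ∣ 9 * 80 := by simpa using h9d
    exact Nat.dvd_of_mul_dvd_mul_left (by norm_num) this
  have hdle : d ≤ 80 := Nat.le_of_dvd (by norm_num) hd80
  have hd1' : d % 3 = 1 := hd1
  have h2d : 2 ∣ d := by
    interval_cases d <;> omega
  have h2C : 2 ∣ Nat.card (centralizer (D : Set G)) := dvd_trans (dvd_trans h2d (Dvd.intro_left 9 rfl)) hd3
  obtain ⟨w, hw⟩ := exists_prime_orderOf_dvd_card' 2 h2C
  refine ⟨w, w.2, ?_⟩
  rw [← hw]
  exact (Subgroup.orderOf_coe w)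

end

end Cfsg.Agent.Lib.Helper42.Small1092
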