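import Mathlib
import Cfsg.Agent.Lib.Helper23.SylowPerm
import Cfsg.Agent.Lib.Helper42.Small1092N720C2

/-!
# K-S0496-720C, part 3: a generator of `D` fixes exactly one coset of `L = N(D)`
-/

set_option autoImplicit false

namespace Cfsg.Agent.Lib.Helper42.Small1092

open Subgroup MulAction

variable {G : Type*} [Group G] [Finite G]

section

variable (h : Nat.card G = 720)
include h

theorem mem_of_conj_mem_720 [IsSimpleGroup G] (hG : ¬ IsMulCommutative G)
    (h3 : Nat.card (Sylow 3 G) = 40) (D : Subgroup G) (hD3 : Nat.card D = 3)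
    (x : G) (hxD : x ∈ D) (hx1 : x ≠ 1) (g : G) (hg : g⁻¹ * x * g ∈ normalizer (D : Set G)) :
    g ∈ normalizer (D : Set G) := by
  haveI : Fact (Nat.Prime 3) := ⟨by norm_num⟩
  -- D = zpowers x
  have hx3 : x ^ 3 = 1 := by
    have := pow_card_eq_one' (G := D) (x := ⟨x, hxD⟩)
    rw [hD3] at this
    exact congrArg Subtype.val this
  have hox : orderOf x = 3 := orderOf_eq_prime hx3 hx1
  have hDz : Subgroup.zpowers x = D := by
    apply Subgroup.eq_of_le_of_card_ge
    · rw [Subgroup.zpowers_le]; exact hxD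
    · rw [Nat.card_zpowers, hox, hD3]
  set y : G := g⁻¹ * x * g with hy
  have hy3 : y ^ 3 = 1 := by
    have : y ^ 3 = g⁻¹ * x ^ 3 * g := by
      rw [hy]
      have := conj_pow (a := g⁻¹) (b := x) (i := 3)
      rw [inv_inv] at this
      exact this
    rw [this, hx3]; group
  have hy1 : y ≠ 1 := by
    intro hc
    apply hx1
    have : x = g * y * g⁻¹ := by rw [hy]; group
    rw [this, hc]; group
  have hoy : orderOf y = 3 := orderOf_eq_prime hy3 hy1
  have hPy : IsPGroup 3 (Subgroup.zpowers y) :=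
    IsPGroup.of_card (n := 1) (by rw [Nat.card_zpowers, hoy, pow_one])
  have hPD : IsPGroup 3 D := IsPGroup.of_card (n := 1) (by rw [hD3, pow_one])
  have hyle : Subgroup.zpowers y ≤ normalizer (D : Set G) := by
    rw [Subgroup.zpowers_le]; exact hg
  have hsup : IsPGroup 3 (Subgroup.zpowers y ⊔ D : Subgroup G) :=
    IsPGroup.to_sup_of_normal_right' hPy hPD hyle
  obtain ⟨Q, hQ⟩ := hsup.exists_le_sylow
  have hDQ : D ≤ (Q : Subgroup G) := le_trans le_sup_right hQ
  have hyQ : y ∈ (Q : Subgroup G) := hQ (Subgroup.mem_sup_left (Subgroup.mem_zpowers y))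
  -- the conjugate Sylow subgroup
  have hxQ' : x ∈ ((g • Q : Sylow 3 G) : Subgroup G) := by
    rw [Cfsg.Agent.Lib.Helper23.SylowPerm.mem_smul_iff]
    exact hyQ
  have hDQ' : D ≤ ((g • Q : Sylow 3 G) : Subgroup G) := by
    rw [← hDz, Subgroup.zpowers_le]; exact hxQ'
  set L := normalizer (D : Set G) with hL
  have hQL : (Q : Subgroup G) ≤ L :=
    Cfsg.Agent.Lib.Helper23.le_normalizer_of_comm _ D hDQ (comm_sylow3_720 h Q)
  have hQ'L : ((g • Q : Sylow 3 G) : Subgroup G) ≤ L :=
    Cfsg.Agent.Lib.Helper23.le_normalizer_of_comm _ D hDQ' (comm_sylow3_720 h (g • Q))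
  obtain ⟨l, hl⟩ := MulAction.exists_smul_eq L ((g • Q : Sylow 3 G).subtype hQ'L) (Q.subtype hQL)
  rw [Sylow.smul_subtype] at hl
  have hl2 : l • (g • Q : Sylow 3 G) = Q := Sylow.subtype_injective hl
  have hl3 : ((l : G) * g) • Q = Q := by
    rw [mul_smul]
    exact hl2
  have hl4 : (l : G) * g ∈ normalizer ((Q : Subgroup G) : Set G) := Sylow.smul_eq_iff_mem_normalizer.1 hl3
  have hl5 : (l : G) * g ∈ L := normalizer_le_normalizer_720 h hG h3 Q D hDQ hl4
  have : g = (l : G)⁻¹ * ((l : G) * g) := by group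
  rw [this]
  exact mul_mem (inv_mem l.2) hl5

end

end Cfsg.Agent.Lib.Helper42.Small1092
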