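import Mathlib
import Cfsg.Agent.Lib.Helper23.N21.Parity
import Cfsg.Agent.Lib.Helper42.Small1092N720C3

/-!
# K-S0496-720C, part 4: fixed points on `G ⧸ L` and the contradiction
-/

set_option autoImplicit false

namespace Cfsg.Agent.Lib.Helper42.Small1092

open Subgroup MulAction

/-- elements of a simple group of order `> 2` act as even permutations on any finite `G`-set -/
theorem sign_toPerm_eq_one_of_simple {G : Type*} [Group G] [Finite G] [IsSimpleGroup G] {X : Type*}
    [MulAction G X] [Fintype X] [DecidableEq X] (hcard : 2 < Nat.card G) (g : G) :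
    Equiv.Perm.sign (MulAction.toPerm g : Equiv.Perm X) = 1 := by
  set f : G →* ℤˣ := (Equiv.Perm.sign).comp (MulAction.toPermHom G X) with hf
  have hn : f.ker.Normal := MonoidHom.normal_ker _
  rcases hn.eq_bot_or_eq_top with h | h
  · exfalso
    have hinj : Function.Injective f := (MonoidHom.ker_eq_bot_iff f).mp h
    have h1 : Nat.card G ≤ Nat.card ℤˣ := Nat.card_le_card_of_injective f hinj
    have h2 : Nat.card ℤˣ = 2 := by
      rw [Nat.card_eq_fintype_card]; rfl
    omega
  · have : g ∈ f.ker := by rw [h]; trivial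
    exact this

/-- `x` of order dividing `3` commuting with `w`, with exactly one common fixed point: the number of fixed points of
`w` is `≡ 1 mod 3`. -/
theorem card_fixedBy_mod_three {G : Type*} [Group G] {X : Type*} [MulAction G X] [Fintype X] [DecidableEq X]
    (w x : G) (hcomm : x * w = w * x) (hx3 : x ^ 3 = 1) (a₀ : X) (ha₀w : w • a₀ = a₀) (ha₀x : x • a₀ = a₀)
    (huniq : ∀ a : X, w • a = a → x • a = a → a = a₀) : Nat.card (fixedBy X w) % 3 = 1 := by
  haveI : Fact (Nat.Prime 3) := ⟨by norm_num⟩
  have hinv : ∀ a : X, (MulAction.toPerm x : Equiv.Perm X) a ∈ fixedBy X w ↔ a ∈ fixedBy X w := by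
    intro a
    simp only [MulAction.toPerm_apply, MulAction.mem_fixedBy]
    rw [smul_smul, ← hcomm, ← smul_smul]
    constructor
    · intro hh
      exact smul_left_cancel x hh
    · intro hh
      rw [hh]
  set σ : Equiv.Perm {a : X // a ∈ fixedBy X w} := (MulAction.toPerm x : Equiv.Perm X).subtypePerm hinv with hσ
  have hp3 : (MulAction.toPerm x : Equiv.Perm X) ^ 3 = 1 := by
    have : (MulAction.toPerm x : Equiv.Perm X) = MulAction.toPermHom G X x := rfl
    rw [this, ← map_pow, hx3, map_one]
  have hσ3 : σ ^ 3 ^ 1 = 1 := by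
    rw [pow_one, hσ, Equiv.Perm.subtypePerm_pow]
    ext a
    simp only [Equiv.Perm.subtypePerm_apply, Equiv.Perm.coe_one, id_eq]
    rw [hp3]
    rfl
  have h1 := Equiv.Perm.card_compl_support_modEq hσ3
  have h2 : σ.supportᶜ = {⟨a₀, ha₀w⟩} := by
    ext a
    rw [Finset.mem_compl, Equiv.Perm.mem_support, not_not, Finset.mem_singleton]
    constructor
    · intro ha
      apply Subtype.ext
      have : x • (a : X) = a := congrArg Subtype.val ha
      exact huniq a a.2 this
    · rintro rfl
      apply Subtype.ext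
      exact ha₀x
  rw [h2, Finset.card_singleton] at h1
  have h3 : Nat.card (fixedBy X w) = Fintype.card {a : X // a ∈ fixedBy X w} := Nat.card_eq_fintype_card
  rw [h3]
  exact h1.symm

variable {G : Type*} [Group G] [Finite G]

theorem false_of_n3_forty_core [IsSimpleGroup G] (hG : ¬ IsMulCommutative G) (h : Nat.card G = 720)
    (h3 : Nat.card (Sylow 3 G) = 40)
    (hA : ∀ P R : Sylow 3 G, P ≠ R → (P : Subgroup G) ⊓ (R : Subgroup G) ≠ ⊥ →
      Nat.card ↥((P : Subgroup G) ⊓ (R : Subgroup G)) = 3 ∧
      (Nat.card ↥(normalizer (((P : Subgroup G) ⊓ (R : Subgroup G) : Subgroup G) : Set G)) = 36 ∨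
        Nat.card ↥(normalizer (((P : Subgroup G) ⊓ (R : Subgroup G) : Subgroup G) : Set G)) = 72)) :
    False := by
  classical
  obtain ⟨P, R, hne, hDne⟩ := exists_bad_pair_720 h h3
  obtain ⟨hD3, hL⟩ := hA P R hne hDne
  set D : Subgroup G := (P : Subgroup G) ⊓ (R : Subgroup G) with hD
  have hL72 := card_normalizer_inf_720 h hG h3 P D inf_le_left hL
  obtain ⟨w, hwC, how⟩ := exists_involution_centralizer_720 h P R hne D inf_le_left inf_le_right
  set L : Subgroup G := normalizer (D : Set G) with hLdef
  obtain ⟨x, hx1⟩ := (Subgroup.ne_bot_iff_exists_ne_one).1 hDne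
  have hxD' : (x : G) ∈ D := x.2
  have hx1' : (x : G) ≠ 1 := fun hc => hx1 (Subtype.ext hc)
  have hx3 : (x : G) ^ 3 = 1 := by
    have := pow_card_eq_one' (G := D) (x := x)
    rw [hD3] at this
    exact congrArg Subtype.val this
  have hDL : D ≤ L := Subgroup.le_normalizer
  have hwL : w ∈ L := Subgroup.centralizer_le_normalizer (D : Set G) hwC
  have hcomm : (x : G) * w = w * x := by
    rw [Subgroup.mem_centralizer_iff] at hwC
    exact hwC x hxD'
  have hw2 : w ^ 2 = 1 := by rw [← how]; exact pow_orderOf_eq_one w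
  have hw1 : w ≠ 1 := by
    intro hc
    rw [hc, orderOf_one] at how
    omega
  -- the action on the cosets of L
  haveI : Fintype (G ⧸ L) := Fintype.ofFinite _
  have hX10 : Fintype.card (G ⧸ L) = 10 := by
    have h1 := Subgroup.card_mul_index L
    rw [hL72, h] at h1
    have h2 : L.index = 10 := by omega
    rw [← Nat.card_eq_fintype_card]
    exact h2
  have hsign : Equiv.Perm.sign (MulAction.toPerm w : Equiv.Perm (G ⧸ L)) = 1 :=
    sign_toPerm_eq_one_of_simple (by rw [h]; norm_num) w
  obtain ⟨t, ht⟩ := Cfsg.Agent.Lib.Helper23.N21.card_fixedBy_add (X := G ⧸ L) w hw2 hsign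
  rw [hX10] at ht
  -- coset fixed ↔ conjugate in L
  have hfix : ∀ (u g : G), u • (QuotientGroup.mk g : G ⧸ L) = QuotientGroup.mk g ↔ g⁻¹ * u * g ∈ L := by
    intro u g
    rw [MulAction.Quotient.smul_mk, QuotientGroup.eq]
    constructor
    · intro hh
      have := inv_mem hh
      simpa [mul_assoc] using this
    · intro hh
      have := inv_mem hh
      simpa [mul_assoc] using this
  have hmod : Nat.card (fixedBy (G ⧸ L) w) % 3 = 1 := by
    apply card_fixedBy_mod_three w (x : G) hcomm hx3 (QuotientGroup.mk 1 : G ⧸ L)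
    · rw [hfix]; simpa using hwL
    · rw [hfix]; simpa using hDL hxD'
    · intro a haw hax
      induction a using QuotientGroup.induction_on with
      | H g =>
        rw [hfix] at hax
        have hgL : g ∈ L := mem_of_conj_mem_720 h hG h3 D hD3 x hxD' hx1' g hax
        rw [QuotientGroup.eq]
        simpa using hgL
  have hf10 : Nat.card (fixedBy (G ⧸ L) w) = 10 := by omega
  -- every coset is fixed
  have hall : ∀ a : G ⧸ L, w • a = a := by
    intro a
    by_contra ha
    have hlt := Fintype.card_subtype_lt (p := fun b : G ⧸ L => b ∈ fixedBy (G ⧸ L) w) (x := a) ha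
    rw [hX10] at hlt
    have h3' : Nat.card (fixedBy (G ⧸ L) w) = Fintype.card {b : G ⧸ L // b ∈ fixedBy (G ⧸ L) w} :=
      Nat.card_eq_fintype_card
    omega
  -- w lies in the normal core of L
  have hcore : w ∈ L.normalCore := by
    intro b
    have := (hfix w b⁻¹).1 (hall _)
    simpa using this
  rcases (inferInstance : L.normalCore.Normal).eq_bot_or_eq_top with hb | ht'
  · rw [hb, Subgroup.mem_bot] at hcore
    exact hw1 hcore
  · have hLtop : L = ⊤ := by
      rw [eq_top_iff, ← ht']
      exact Subgroup.normalCore_le L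
    have : Nat.card L = 720 := by
      rw [hLtop, Subgroup.card_top, h]
    omega

end Cfsg.Agent.Lib.Helper42.Small1092
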