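import Mathlib
import Cfsg.Agent.Lib.Helper45.Small1092N720A
import Cfsg.Agent.Lib.Helper42.Small1092N720C4

/-!
# K-S0496-720C: a simple group of order `720` does not have `40` Sylow `3`-subgroups
-/

set_option autoImplicit false

namespace Cfsg.Agent.Lib.Helper42.Small1092

open Subgroup MulAction

theorem false_of_card_sylow_three_eq_forty {G : Type*} [Group G] [Finite G] [IsSimpleGroup G] (hG : ¬ IsMulCommutative G)
    (h : Nat.card G = 720) (hidx : ∀ H : Subgroup G, H ≠ ⊤ → 7 ≤ H.index) (h15 : ∀ g : G, orderOf g ≠ 15)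
    (h3 : Nat.card (Sylow 3 G) = 40) : False := by
  refine false_of_n3_forty_core hG h h3 ?_
  intro P R hPR hne
  have := Cfsg.Agent.Lib.Helper45.Small1092.inter_sylow_three_720 hG h hidx h15 P R hPR hne
  exact ⟨this.1, this.2.1⟩

end Cfsg.Agent.Lib.Helper42.Small1092
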