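import Mathlib
import Cfsg.Agent.S0989
import Cfsg.Agent.S0990
import Cfsg.Agent.Lib.Helper23.SylowEmbed
import Cfsg.Agent.Lib.Helper23.SylowCount
import Cfsg.Agent.Lib.Helper23.SylowPerm

/-!
# K-S0496-T2: `n_p = p + 1` forces `|N_G(P)| ∣ p (p - 1) / 2` in a simple group
-/

set_option autoImplicit false

namespace Cfsg.Agent.Lib.Helper42.Small1092

open Subgroup MulAction

theorem factorization_factorial_self' (p : ℕ) (hp : p.Prime) : (p.factorial).factorization p = 1 := by
  obtain ⟨q, rfl⟩ : ∃ q, p = q + 1 := ⟨p - 1, (Nat.succ_pred_eq_of_pos hp.pos).symm⟩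
  rw [Nat.factorial_succ, Nat.factorization_mul (Nat.succ_ne_zero q) (Nat.factorial_ne_zero q)]
  simp only [Finsupp.coe_add, Pi.add_apply]
  rw [hp.factorization_self, Nat.factorization_eq_zero_of_not_dvd]
  rw [hp.dvd_factorial]
  omega

theorem factorization_factorial_succ_self' (p : ℕ) (hp : p.Prime) :
    ((p + 1).factorial).factorization p = 1 := by
  rw [Nat.factorial_succ, Nat.factorization_mul (Nat.succ_ne_zero p) (Nat.factorial_ne_zero p)]
  simp only [Finsupp.coe_add, Pi.add_apply]
  rw [factorization_factorial_self' p hp, Nat.factorization_eq_zero_of_not_dvd]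
  intro h
  have : p ∣ 1 := (Nat.dvd_add_right (dvd_refl p)).mp h
  exact hp.one_lt.ne' (Nat.dvd_one.mp this)

theorem dvd_of_card_sylow_eq_succ {G : Type*} [Group G] [Finite G] [IsSimpleGroup G] (hG : ¬ IsMulCommutative G)
    (p m : ℕ) [Fact p.Prime] (hp2 : p ≠ 2) (h : Nat.card G = p * m) (hm : ¬ p ∣ m)
    (hd : Nat.card (Sylow p G) = p + 1) : m / (p + 1) ∣ (p - 1) / 2 := by
  classical
  have hp : p.Prime := Fact.out
  have h' : Nat.card G = p ^ 1 * m := by rw [pow_one]; exact h
  haveI : Fintype (Sylow p G) := Fintype.ofFinite _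
  have hΩ : Fintype.card (Sylow p G) = p + 1 := by rw [← Nat.card_eq_fintype_card, hd]
  -- (p + 1) ∣ m
  have hdm : p + 1 ∣ m := by
    have := Cfsg.Agent.Lib.Helper23.card_sylow_dvd_of_card_eq p 1 m h' hm
    rwa [hd] at this
  obtain ⟨e, he⟩ := hdm
  have hme : m / (p + 1) = e := by rw [he, Nat.mul_div_cancel_left _ (Nat.succ_pos p)]
  have hcard2 : 2 < Nat.card G := by
    rw [h, he]
    have h2 : 2 ≤ p := hp.two_le
    have he0 : e ≠ 0 := by
      rintro rfl
      apply hm
      rw [he, mul_zero]
      exact dvd_zero p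
    have : 1 ≤ e := Nat.one_le_iff_ne_zero.2 he0
    nlinarith
  obtain ⟨P⟩ : Nonempty (Sylow p G) := inferInstance
  have hPcard : Nat.card (P : Subgroup G) = p := by
    have := Cfsg.Agent.Lib.Helper23.sylow_card_of_card_eq p 1 m h' hm P
    rwa [pow_one] at this
  -- card of the normalizer
  have hNcard : Nat.card (normalizer ((P : Subgroup G) : Set G)) = p * e := by
    have h1 := Cfsg.Agent.Lib.Helper23.card_normalizer_mul_card_sylow p P
    rw [hd, h, he] at h1
    have h2 : p * ((p + 1) * e) = (p * e) * (p + 1) := by ring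
    rw [h2] at h1
    exact Nat.eq_of_mul_eq_mul_right (Nat.succ_pos p) h1
  -- the action
  set φ : G →* Equiv.Perm (Sylow p G) := MulAction.toPermHom G (Sylow p G) with hφ
  have hφinj : Function.Injective φ := by
    rw [← MonoidHom.ker_eq_bot_iff, Subgroup.eq_bot_iff_forall]
    intro g hg
    rw [MonoidHom.mem_ker] at hg
    apply Cfsg.Agent.Lib.Helper23.SylowPerm.eq_one_of_forall_smul p (by rw [hd]; have := hp.two_le; omega) g
    intro Q
    have := congrArg (fun σ : Equiv.Perm (Sylow p G) => σ Q) hg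
    simpa [hφ] using this
  have hφalt : ∀ g : G, φ g ∈ alternatingGroup (Sylow p G) := by
    intro g
    rw [Equiv.Perm.mem_alternatingGroup]
    exact Cfsg.Agent.Lib.Helper23.SylowPerm.sign_toPerm_eq_one p hcard2 g
  -- the image of P is a Sylow subgroup of the symmetric group
  have hP'card : Nat.card ((P : Subgroup G).map φ) = p := by
    rw [Subgroup.card_map_of_injective hφinj, hPcard]
  have hfac : (Nat.card (Equiv.Perm (Sylow p G))).factorization p = 1 := by
    rw [Nat.card_perm, hd]
    exact factorization_factorial_succ_self' p hp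
  let P' : Sylow p (Equiv.Perm (Sylow p G)) :=
    Sylow.ofCard ((P : Subgroup G).map φ) (by rw [hP'card, hfac, pow_one])
  have hP'coe : (P' : Subgroup (Equiv.Perm (Sylow p G))) = (P : Subgroup G).map φ := rfl
  have h989 := Cfsg.Agent.S0989.result (α := Sylow p G) p (Or.inr hΩ) P'
  have h990 := Cfsg.Agent.S0990.result (α := Sylow p G) (by rw [hΩ]; have := hp.two_le; omega) p hp2 P'
  obtain ⟨-, h990⟩ := h990
  rw [h989] at h990
  -- the image of the normalizer in the alternating group
  let ψ : G →* alternatingGroup (Sylow p G) := φ.codRestrict (alternatingGroup (Sylow p G)) hφalt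
  have hψinj : Function.Injective ψ := by
    intro a b hab
    apply hφinj
    exact congrArg Subtype.val hab
  have hle : (normalizer ((P : Subgroup G) : Set G)).map ψ ≤
      normalizer ((((P' : Subgroup (Equiv.Perm (Sylow p G))).subgroupOf (alternatingGroup (Sylow p G)) :
        Subgroup ↥(alternatingGroup (Sylow p G))) : Set ↥(alternatingGroup (Sylow p G)))) := by
    rintro _ ⟨g, hg, rfl⟩
    rw [SetLike.mem_coe] at hg
    rw [Subgroup.mem_normalizer_iff]
    intro a
    rw [Subgroup.mem_subgroupOf, Subgroup.mem_subgroupOf, hP'coe]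
    have hg' := Subgroup.mem_normalizer_iff.1 hg
    have hginv := Subgroup.mem_normalizer_iff.1 (inv_mem hg)
    constructor
    · rintro ⟨x, hx, hxa⟩
      refine ⟨g * x * g⁻¹, (hg' x).1 hx, ?_⟩
      rw [map_mul, map_mul, map_inv, hxa]
      rfl
    · rintro ⟨y, hy, hya⟩
      refine ⟨g⁻¹ * y * g, ?_, ?_⟩
      · have := (hginv y).1 hy
        rwa [inv_inv] at this
      · rw [map_mul, map_mul, map_inv, hya]
        show (φ g)⁻¹ * (φ g * (a : Equiv.Perm (Sylow p G)) * (φ g)⁻¹) * φ g = a
        group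
  have hdvd : p * e ∣ Nat.card (normalizer ((((P' : Subgroup (Equiv.Perm (Sylow p G))).subgroupOf
      (alternatingGroup (Sylow p G)) : Subgroup ↥(alternatingGroup (Sylow p G))) :
        Set ↥(alternatingGroup (Sylow p G))))) := by
    rw [← hNcard, ← Subgroup.card_map_of_injective hψinj]
    exact Subgroup.card_dvd_of_le hle
  -- arithmetic
  obtain ⟨k, hk⟩ : ∃ k, p - 1 = 2 * k := by
    have hodd : Odd p := hp.odd_of_ne_two hp2
    obtain ⟨j, hj⟩ := hodd
    exact ⟨j, by omega⟩
  have hk2 : (p - 1) / 2 = k := by rw [hk, Nat.mul_div_cancel_left _ (by norm_num : 0 < 2)]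
  rw [hk] at h990
  have hNA : Nat.card (normalizer ((((P' : Subgroup (Equiv.Perm (Sylow p G))).subgroupOf
      (alternatingGroup (Sylow p G)) : Subgroup ↥(alternatingGroup (Sylow p G))) :
        Set ↥(alternatingGroup (Sylow p G))))) = p * k := by
    have : 2 * Nat.card (normalizer ((((P' : Subgroup (Equiv.Perm (Sylow p G))).subgroupOf
      (alternatingGroup (Sylow p G)) : Subgroup ↥(alternatingGroup (Sylow p G))) :
        Set ↥(alternatingGroup (Sylow p G))))) = 2 * (p * k) := by rw [h990]; ring
    exact Nat.eq_of_mul_eq_mul_left (by norm_num) this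
  rw [hNA] at hdvd
  rw [hme, hk2]
  exact Nat.dvd_of_mul_dvd_mul_left hp.pos hdvd

end Cfsg.Agent.Lib.Helper42.Small1092
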