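import Mathlib
import Cfsg.Agent.Lib.Helper21.KRDefs
import Cfsg.Agent.Lib.Helper93.KRF1

/-!
# Keystone K-S4651-F2a (Knörr–Robinson, S4651; architect helper21)

The flipped chain `flip x s` is again a normal chain, and is normalized by `x`.
-/

set_option autoImplicit false
set_option linter.style.haveILetI false
set_option linter.unusedSectionVars false
set_option linter.unusedVariables false
open Cfsg

namespace Cfsg.Agent.Lib.Helper42.KR

open Cfsg.Agent.Lib.Helper21.KR Cfsg.Agent.Lib.Helper93.KR

universe u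

section Chain

variable {G : Type u} [Group G] [Finite G] {p : ℕ} [Fact p.Prime] {x : G}
  {s : Finset (Subgroup G)}

/-- A nonempty finite family of pairwise comparable subgroups has a largest member. -/
theorem exists_max_of_chain {t : Finset (Subgroup G)} (hne : t.Nonempty)
    (hch : ∀ Q ∈ t, ∀ R ∈ t, Q ≤ R ∨ R ≤ Q) : ∃ T ∈ t, ∀ Q ∈ t, Q ≤ T := by
  obtain ⟨T, hT, hmax⟩ := t.exists_maximal hne
  refine ⟨T, hT, fun Q hQ => ?_⟩
  rcases hch Q hQ T hT with h | h
  · exact h
  · exact hmax hQ h

theorem isNChain_flip (hs : IsNChain p s) (hx : x ∈ chainStab s) (hx1 : x ≠ 1)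
    (hxp : ∃ k : ℕ, orderOf x = p ^ k) (hne : s ≠ {Subgroup.zpowers x}) :
    IsNChain p (Cfsg.Agent.Lib.Helper21.KR.flip x s) := by
  classical
  obtain ⟨hsne, hch, hmem, T₀, hT₀, hT₀top⟩ := hs
  have hs' : IsNChain p s := ⟨hsne, hch, hmem, T₀, hT₀, hT₀top⟩
  have hxN : ∀ Q ∈ s, x ∈ Subgroup.normalizer ((Q : Subgroup G) : Set G) :=
    mem_chainStab_iff.mp hx
  unfold Cfsg.Agent.Lib.Helper21.KR.flip
  by_cases hP : piv x s ∈ s
  · rw [if_pos hP]
    -- erase case
    have hne' : (s.erase (piv x s)).Nonempty := by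
      rw [Finset.nonempty_iff_ne_empty]
      intro hempty
      have hsub : s ⊆ {piv x s} := by
        intro Q hQ
        by_contra hQP
        have : Q ∈ s.erase (piv x s) := Finset.mem_erase.mpr ⟨by simpa using hQP, hQ⟩
        rw [hempty] at this
        simp at this
      have hseq : s = {piv x s} := by
        apply Finset.Subset.antisymm hsub
        intro Q hQ
        rw [Finset.mem_singleton] at hQ
        rw [hQ]; exact hP
      have htop : topOf s = piv x s := by
        apply le_antisymm _ (le_topOf hP)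
        unfold topOf
        apply Finset.sup_le
        intro Q hQ
        have := hsub hQ
        rw [Finset.mem_singleton] at this
        rw [this]
        exact le_rfl
      have hlow : lowOf x s = ⊥ := by
        apply le_antisymm _ bot_le
        apply lowOf_le
        intro Q hQ hxQ
        have hQ' := hsub hQ
        rw [Finset.mem_singleton] at hQ'
        exact absurd (hQ' ▸ mem_piv x s) hxQ
      have hPp : IsPGroup p (topOf s) := by rw [htop]; exact (hmem _ hP).2
      have h1 := sup_zpowers_eq_of_pivot_eq (p := p) (T := topOf s) (L := lowOf x s) (x := x) hPp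
        (lowOf_le_topOf) (by rw [htop]; exact mem_piv x s) (by
          show piv x s = topOf s
          exact htop.symm)
      rw [hlow, bot_sup_eq] at h1
      apply hne
      rw [h1, htop]
      exact hseq
    refine ⟨hne', ?_, ?_, ?_⟩
    · intro Q hQ R hR
      exact hch Q (Finset.mem_of_mem_erase hQ) R (Finset.mem_of_mem_erase hR)
    · intro Q hQ
      exact hmem Q (Finset.mem_of_mem_erase hQ)
    · obtain ⟨T', hT', hmax⟩ := exists_max_of_chain hne' (fun Q hQ R hR =>
        hch Q (Finset.mem_of_mem_erase hQ) R (Finset.mem_of_mem_erase hR))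
      refine ⟨T', hT', fun Q hQ => ⟨hmax Q hQ, ?_⟩⟩
      have hT's : T' ∈ s := Finset.mem_of_mem_erase hT'
      exact (le_topOf hT's).trans (topOf_le_normalizer hs' (Finset.mem_of_mem_erase hQ))
  · rw [if_neg hP]
    -- insert case
    have hcmp : ∀ Q ∈ s, Q ≤ piv x s ∨ piv x s ≤ Q := by
      intro Q hQ
      by_cases hxQ : x ∈ Q
      · exact Or.inr (piv_le_of_mem hs' hQ hxQ)
      · exact Or.inl ((le_lowOf hQ hxQ).trans (lowOf_le_piv x s))
    refine ⟨Finset.insert_nonempty _ _, ?_, ?_, ?_⟩
    · intro Q hQ R hR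
      rw [Finset.mem_insert] at hQ hR
      rcases hQ with rfl | hQ <;> rcases hR with rfl | hR
      · exact Or.inl le_rfl
      · exact (hcmp R hR).symm
      · exact hcmp Q hQ
      · exact hch Q hQ R hR
    · intro Q hQ
      rw [Finset.mem_insert] at hQ
      rcases hQ with rfl | hQ
      · exact ⟨piv_ne_bot hx1, isPGroup_piv hs' hx hxp⟩
      · exact hmem Q hQ
    · by_cases hxT : x ∈ topOf s
      · refine ⟨topOf s, Finset.mem_insert_of_mem (topOf_mem hs'), fun Q hQ => ?_⟩
        rw [Finset.mem_insert] at hQ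
        rcases hQ with rfl | hQ
        · exact ⟨piv_le_of_mem hs' (topOf_mem hs') hxT, topOf_le_normalizer_piv x s⟩
        · exact ⟨le_topOf hQ, topOf_le_normalizer hs' hQ⟩
      · refine ⟨piv x s, Finset.mem_insert_self _ _, fun Q hQ => ?_⟩
        rw [Finset.mem_insert] at hQ
        rcases hQ with rfl | hQ
        · exact ⟨le_rfl, Subgroup.le_normalizer⟩
        · have hpe : piv x s = topOf s ⊔ Subgroup.zpowers x := piv_eq_sup_of_not_mem hxT
          refine ⟨(le_topOf hQ).trans (hpe ▸ le_sup_left), ?_⟩
          rw [hpe]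
          refine sup_le (topOf_le_normalizer hs' hQ) ?_
          rw [Subgroup.zpowers_le]
          exact hxN Q hQ

theorem mem_chainStab_flip (hx : x ∈ chainStab s) : x ∈ chainStab (Cfsg.Agent.Lib.Helper21.KR.flip x s) := by
  classical
  have hxN : ∀ Q ∈ s, x ∈ Subgroup.normalizer ((Q : Subgroup G) : Set G) :=
    mem_chainStab_iff.mp hx
  rw [mem_chainStab_iff]
  intro Q hQ
  unfold Cfsg.Agent.Lib.Helper21.KR.flip at hQ
  by_cases hP : piv x s ∈ s
  · rw [if_pos hP] at hQ
    exact hxN Q (Finset.mem_of_mem_erase hQ)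
  · rw [if_neg hP, Finset.mem_insert] at hQ
    rcases hQ with rfl | hQ
    · exact Subgroup.le_normalizer (mem_piv x s)
    · exact hxN Q hQ

end Chain

end Cfsg.Agent.Lib.Helper42.KR
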