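import Mathlib
import Cfsg.Prelude.Def_Transfer

set_option autoImplicit false
set_option linter.style.haveILetI false

namespace Cfsg.Agent.Lib.Helper42

theorem orderOf_conj_eq {X : Type*} [Group X] (g x : X) : orderOf (g * x * g⁻¹) = orderOf x :=
  (MulAut.conj g).orderOf_eq x

theorem pResidual_normal (p : ℕ) (X : Type*) [Group X] : (Cfsg.pResidual p X).Normal := by
  unfold Cfsg.pResidual
  rw [← Subgroup.normalizer_eq_top_iff, eq_top_iff]
  refine le_trans ?_ (Subgroup.normalizer_le_normalizer_closure _)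
  intro g _
  rw [Subgroup.mem_normalizer_iff_conj_image_eq]
  ext x
  simp only [Set.mem_image, Set.mem_ofPred_eq]
  constructor
  · rintro ⟨y, hy, rfl⟩
    rwa [MulAut.conj_apply, orderOf_conj_eq]
  · intro hx
    refine ⟨g⁻¹ * x * g, ?_, by simp [mul_assoc]⟩
    have := orderOf_conj_eq g⁻¹ x
    rw [inv_inv] at this
    rwa [this]

/-- The quotient by `O^p` is a `p`-group. -/
theorem isPGroup_quotient_pResidual (p : ℕ) [Fact p.Prime] (X : Type*) [Group X] [Finite X] :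
    haveI := pResidual_normal p X
    IsPGroup p (X ⧸ Cfsg.pResidual p X) := by
  haveI := pResidual_normal p X
  intro y
  obtain ⟨x, rfl⟩ := QuotientGroup.mk_surjective y
  have hpos : orderOf x ≠ 0 := (orderOf_pos x).ne'
  obtain ⟨a, m, hm, hxm⟩ := Nat.exists_eq_pow_mul_and_not_dvd hpos p (Fact.out : p.Prime).ne_one
  refine ⟨a, ?_⟩
  rw [← QuotientGroup.mk_pow, QuotientGroup.eq_one_iff]
  apply Subgroup.subset_closure
  show Nat.Coprime (orderOf (x ^ p ^ a)) p
  rw [orderOf_pow, hxm, Nat.gcd_eq_right (Dvd.intro _ rfl)]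
  rw [Nat.mul_div_cancel_left _ (pow_pos (Fact.out : p.Prime).pos a)]
  exact ((Nat.Prime.coprime_iff_not_dvd Fact.out).mpr hm).symm

theorem pResidual_sup_eq_top (p : ℕ) [Fact p.Prime] (X : Type*) [Group X] [Finite X]
    (S : Subgroup X) (hS : ¬ p ∣ S.index) : Cfsg.pResidual p X ⊔ S = ⊤ := by
  haveI := pResidual_normal p X
  rw [← Subgroup.index_eq_one]
  have h1 : (Cfsg.pResidual p X ⊔ S).index ∣ S.index := Subgroup.index_dvd_of_le le_sup_right
  have h2 : (Cfsg.pResidual p X ⊔ S).index ∣ (Cfsg.pResidual p X).index :=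
    Subgroup.index_dvd_of_le le_sup_left
  obtain ⟨n, hn⟩ := (IsPGroup.iff_card.mp (isPGroup_quotient_pResidual p X))
  rw [← Subgroup.index_eq_card] at hn
  rw [hn] at h2
  obtain ⟨k, hk, hk'⟩ := (Nat.dvd_prime_pow Fact.out).mp h2
  rcases Nat.eq_zero_or_pos k with rfl | hkpos
  · simpa using hk'
  · exfalso
    apply hS
    refine dvd_trans ?_ h1
    rw [hk']
    exact dvd_pow_self p hkpos.ne'

theorem exists_conj_mem_of_isPGroup {X : Type*} [Group X] [Finite X] (p : ℕ) [Fact p.Prime]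
    (S B : Subgroup X) (hS : IsPGroup p S) (hSi : ¬ p ∣ S.index) (hB : IsPGroup p B) :
    ∃ n : X, ∀ b ∈ B, n * b * n⁻¹ ∈ S := by
  obtain ⟨Q, hQ⟩ := hB.exists_le_sylow
  obtain ⟨n, hn⟩ := MulAction.exists_smul_eq X Q (hS.toSylow hSi)
  refine ⟨n, fun b hb => ?_⟩
  have h1 : n * b * n⁻¹ ∈ ((n • Q : Sylow p X) : Subgroup X) := by
    rw [Sylow.coe_subgroup_smul]
    exact ⟨b, hQ hb, rfl⟩
  rw [hn] at h1
  exact h1

theorem exists_conj_mem_pResidual {X : Type*} [Group X] [Finite X] (p : ℕ) [Fact p.Prime]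
    (S B : Subgroup X) (hS : IsPGroup p S) (hSi : ¬ p ∣ S.index) (hB : IsPGroup p B) :
    ∃ m ∈ Cfsg.pResidual p X, ∀ b ∈ B, m * b * m⁻¹ ∈ S := by
  obtain ⟨n, hn⟩ := exists_conj_mem_of_isPGroup p S B hS hSi hB
  haveI := pResidual_normal p X
  have htop : n ∈ S ⊔ Cfsg.pResidual p X := by
    rw [sup_comm, pResidual_sup_eq_top p X S hSi]; trivial
  rw [← SetLike.mem_coe, Subgroup.mul_normal, Set.mem_mul] at htop
  obtain ⟨s, hs, m, hm, rfl⟩ := htop
  refine ⟨m, hm, fun b hb => ?_⟩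
  have := hn b hb
  have h2 : m * b * m⁻¹ = s⁻¹ * (s * m * b * (s * m)⁻¹) * s := by group
  rw [h2]
  exact S.mul_mem (S.mul_mem (S.inv_mem hs) this) hs

end Cfsg.Agent.Lib.Helper42
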