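import Mathlib
import Cfsg.Prelude.Def_EvenType
import Cfsg.Prelude.Def_ClassificationK
import Cfsg.Agent.Lib.Helper42.PResidual

set_option autoImplicit false
set_option linter.style.haveILetI false
open Cfsg

namespace Cfsg.Agent.Lib.Helper42

/-- A nontrivial finite `p`-subgroup has `p`-rank at least one. -/
theorem not_pRankLE_zero_of_ne_bot {X : Type*} [Group X] [Finite X] (p : ℕ) [Fact p.Prime]
    (D : Subgroup X) (hD : IsPGroup p D) (hne : D ≠ ⊥) : ¬ Cfsg.PRankLE p 0 D := by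
  intro h
  have hcard : p ∣ Nat.card D := by
    obtain ⟨n, hn⟩ := IsPGroup.iff_card.mp hD
    rcases Nat.eq_zero_or_pos n with rfl | hpos
    · exfalso
      rw [pow_zero] at hn
      exact hne (Subgroup.card_eq_one.mp hn)
    · rw [hn]; exact dvd_pow_self p hpos.ne'
  obtain ⟨x, hx⟩ := exists_prime_orderOf_dvd_card' p hcard
  have h1 := h (Subgroup.zpowers x) inferInstance (by
    intro a ha
    obtain ⟨k, rfl⟩ := Subgroup.mem_zpowers_iff.mp ha
    rw [← zpow_natCast, ← zpow_mul, mul_comm, zpow_mul, zpow_natCast, ← hx, pow_orderOf_eq_one, one_zpow])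
  rw [Nat.card_zpowers, hx, pow_zero] at h1
  exact absurd h1 (by have := (Fact.out : p.Prime).two_le; omega)

/-- The normalizer of a nontrivial subgroup of `S` lies in `Γ_{S,1}`. -/
theorem normalizer_le_kGeneratedCore_one {X : Type*} [Group X] [Finite X] (p : ℕ) [Fact p.Prime]
    (S D : Subgroup X) (hS : IsPGroup p S) (hDS : D ≤ S) (hne : D ≠ ⊥) :
    Subgroup.normalizer (D : Set X) ≤ Cfsg.kGeneratedCore p 1 S := by
  unfold Cfsg.kGeneratedCore
  have : ¬ Cfsg.PRankLE p (1 - 1) D := not_pRankLE_zero_of_ne_bot p D (hS.to_le hDS) hne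
  exact le_iSup (fun Q : {Q : Subgroup X // Q ≤ S ∧ ¬ Cfsg.PRankLE p (1 - 1) Q} =>
    Subgroup.normalizer ((Q : Subgroup X) : Set X)) ⟨D, hDS, this⟩

/-- Normalizers grow in finite `p`-groups. -/
theorem exists_lt_le_normalizer {X : Type*} [Group X] [Finite X] (p : ℕ) [Fact p.Prime]
    (S D : Subgroup X) (hS : IsPGroup p S) (hlt : D < S) :
    ∃ B : Subgroup X, D < B ∧ B ≤ S ∧ B ≤ Subgroup.normalizer (D : Set X) := by
  refine ⟨S ⊓ Subgroup.normalizer (D : Set X), ?_, inf_le_left, inf_le_right⟩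
  refine lt_of_le_of_ne (le_inf hlt.le Subgroup.le_normalizer) ?_
  intro heq
  haveI : Group.IsNilpotent S := hS.isNilpotent
  have hnc : NormalizerCondition S := Group.normalizerCondition_of_isNilpotent
  have hlt' : D.subgroupOf S < ⊤ := by
    rw [lt_top_iff_ne_top, Ne, Subgroup.subgroupOf_eq_top]
    exact not_le_of_gt hlt
  have h2 := hnc _ hlt'
  rw [← Subgroup.subgroupOf_normalizer_eq hlt.le] at h2
  have h3 : (Subgroup.normalizer (D : Set X)).subgroupOf S ≤ D.subgroupOf S := by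
    intro x hx
    rw [Subgroup.mem_subgroupOf] at hx ⊢
    have : (x : X) ∈ S ⊓ Subgroup.normalizer (D : Set X) := ⟨x.2, hx⟩
    rw [← heq] at this
    exact this
  exact absurd h2 (not_lt_of_ge h3)

/-- Sylow conjugation inside a subgroup `E`: a `p`-subgroup `B ≤ E` is conjugate under `E` into `S ≤ E`
when `p ∤ [X : S]`. -/
theorem exists_conj_mem_of_le {X : Type*} [Group X] [Finite X] (p : ℕ) [Fact p.Prime]
    (E S B : Subgroup X) (hS : IsPGroup p S) (hSi : ¬ p ∣ S.index) (hSE : S ≤ E) (hB : IsPGroup p B)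
    (hBE : B ≤ E) : ∃ e ∈ E, ∀ b ∈ B, e * b * e⁻¹ ∈ S := by
  have hSi' : ¬ p ∣ (S.subgroupOf E).index := fun h =>
    hSi (h.trans (Subgroup.relIndex_dvd_index_of_le hSE))
  obtain ⟨e, he⟩ := exists_conj_mem_of_isPGroup p (S.subgroupOf E) (B.subgroupOf E)
    hS.comap_subtype hSi' hB.comap_subtype
  refine ⟨e, e.2, fun b hb => ?_⟩
  have := he ⟨b, hBE hb⟩ (by rw [Subgroup.mem_subgroupOf]; exact hb)
  rw [Subgroup.mem_subgroupOf] at this
  simpa using this

/-- Core of the argument, with conjugates written as maps. -/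
theorem exists_conj_inf_eq_bot {X : Type*} [Group X] [Finite X] (p : ℕ) [Fact p.Prime]
    (E : Subgroup X) (hne : E ≠ ⊤) (S : Subgroup X) (hSp : IsPGroup p S) (hSi : ¬ p ∣ S.index)
    (hSne : S ≠ ⊥)
    (hcl : ∀ D : Subgroup X, D ≤ S → D ≠ ⊥ → Subgroup.normalizer (D : Set X) ≤ E) :
    ∃ n : X, S ⊓ S.map (MulAut.conj n).toMonoidHom = ⊥ := by
  have hSE : S ≤ E := Subgroup.le_normalizer.trans (hcl S le_rfl hSne)
  have hsne : ({n : X | n ∉ E} : Set X).Nonempty := by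
    by_contra h
    rw [Set.not_nonempty_iff_eq_empty] at h
    apply hne
    rw [eq_top_iff]
    intro x _
    by_contra hx
    have : x ∈ ({n : X | n ∉ E} : Set X) := hx
    rw [h] at this
    exact this
  obtain ⟨n, hn, hmax⟩ := Set.exists_max_image {n : X | n ∉ E}
    (fun n => Nat.card (S ⊓ S.map (MulAut.conj n).toMonoidHom : Subgroup X)) (Set.toFinite _) hsne
  refine ⟨n, ?_⟩
  by_contra hD
  have hS'p : IsPGroup p (S.map (MulAut.conj n).toMonoidHom) := hSp.map _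
  have hDlt : S ⊓ S.map (MulAut.conj n).toMonoidHom < S.map (MulAut.conj n).toMonoidHom := by
    refine lt_of_le_of_ne inf_le_right ?_
    intro heq
    have h1 : S.map (MulAut.conj n).toMonoidHom ≤ S := heq ▸ inf_le_left
    have h2 : S.map (MulAut.conj n).toMonoidHom = S := by
      apply Subgroup.eq_of_le_of_card_ge h1
      rw [Subgroup.card_map_of_injective (MulAut.conj n).injective]
    have h3 : n ∈ Subgroup.normalizer (S : Set X) := by
      rw [Subgroup.mem_normalizer_iff_map_conj_eq]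
      exact h2
    exact hn (hcl S le_rfl hSne h3)
  obtain ⟨B, hDB, hBS', hBN⟩ := exists_lt_le_normalizer p _ _ hS'p hDlt
  have hBE : B ≤ E := hBN.trans (hcl _ inf_le_left hD)
  have hBp : IsPGroup p B := hS'p.to_le hBS'
  obtain ⟨e, heE, heB⟩ := exists_conj_mem_of_le p E S B hSp hSi hSE hBp hBE
  have hen : e * n ∉ E := fun h => hn (by
    have := E.mul_mem (E.inv_mem heE) h
    simpa using this)
  have h4 : B.map (MulAut.conj e).toMonoidHom ≤ S ⊓ S.map (MulAut.conj (e * n)).toMonoidHom := by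
    rintro _ ⟨b, hb, rfl⟩
    refine ⟨heB b hb, ?_⟩
    obtain ⟨s, hs, rfl⟩ := hBS' hb
    refine ⟨s, hs, ?_⟩
    simp [MulAut.conj_apply, mul_assoc]
  have h5 : Nat.card (B.map (MulAut.conj e).toMonoidHom) = Nat.card B :=
    Subgroup.card_map_of_injective (MulAut.conj e).injective
  have h6 : Nat.card (S ⊓ S.map (MulAut.conj n).toMonoidHom : Subgroup X) < Nat.card B := by
    refine lt_of_le_of_ne (Subgroup.card_le_of_le hDB.le) ?_
    intro h
    exact hDB.ne (Subgroup.eq_of_le_of_card_ge hDB.le h.ge)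
  have h7 := hmax (e * n) hen
  have h8 : Nat.card B ≤ Nat.card (S ⊓ S.map (MulAut.conj (e * n)).toMonoidHom : Subgroup X) :=
    h5 ▸ Subgroup.card_le_of_le h4
  have h7' : Nat.card (S ⊓ S.map (MulAut.conj (e * n)).toMonoidHom : Subgroup X) ≤ Nat.card (S ⊓ S.map (MulAut.conj n).toMonoidHom : Subgroup X) := h7
  omega

/-- A strongly `p`-embedded subgroup gives a Sylow `p`-subgroup and a conjugate meeting it trivially. -/
theorem exists_sylow_conj_inf_eq_bot {X : Type*} [Group X] [Finite X] (p : ℕ) [Fact p.Prime]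
    (E : Subgroup X) (hE : Cfsg.IsStronglyPEmbedded p E) :
    ∃ (S : Sylow p X) (n : X), (S : Subgroup X) ⊓ (S : Subgroup X).map (MulAut.conj n).toMonoidHom = ⊥ := by
  obtain ⟨hdvd, hne, S, hS⟩ := hE
  have hSne : (S : Subgroup X) ≠ ⊥ := S.ne_bot_of_dvd_card hdvd
  have hcl : ∀ D : Subgroup X, D ≤ (S : Subgroup X) → D ≠ ⊥ → Subgroup.normalizer (D : Set X) ≤ E := by
    intro D hD hDne 
    exact (normalizer_le_kGeneratedCore_one p (S : Subgroup X) D S.2 hD hDne).trans hS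
  have hSi : ¬ p ∣ (S : Subgroup X).index := S.not_dvd_index
  obtain ⟨n, hn⟩ := exists_conj_inf_eq_bot p E hne (S : Subgroup X) S.2 hSi hSne hcl
  exact ⟨S, n, hn⟩

/-- A `p`-subgroup `A ≤ N` with `p ∤ [N : A]` is the full intersection `P ⊓ N` for any `p`-group `P ≥ A`. -/
theorem inf_eq_of_relIndex_not_dvd {G : Type*} [Group G] [Finite G] (p : ℕ) [Fact p.Prime]
    (A N P : Subgroup G) (hAN : A ≤ N) (hi : ¬ p ∣ A.relIndex N) (hP : IsPGroup p P) (hAP : A ≤ P) :
    P ⊓ N = A := by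
  refine le_antisymm ?_ (le_inf hAP hAN)
  rw [← Subgroup.relIndex_eq_one]
  have h1 : A.relIndex (P ⊓ N) * (P ⊓ N).relIndex N = A.relIndex N :=
    Subgroup.relIndex_mul_relIndex _ _ _ (le_inf hAP hAN) inf_le_right
  have h2 : A.relIndex (P ⊓ N) ∣ Nat.card (P ⊓ N : Subgroup G) := Subgroup.relIndex_dvd_card _ _
  obtain ⟨k, hk⟩ := IsPGroup.iff_card.mp (hP.to_le (inf_le_left : P ⊓ N ≤ P))
  rw [hk] at h2
  obtain ⟨j, -, hj⟩ := (Nat.dvd_prime_pow Fact.out).mp h2
  rcases Nat.eq_zero_or_pos j with rfl | hjpos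
  · simpa using hj
  · exfalso
    apply hi
    rw [← h1, hj]
    exact Dvd.dvd.mul_right (dvd_pow_self p hjpos.ne') _

/-- Two Sylow subgroups `A₁, A₂` of `N_G(Q)` with `A₁ ⊓ A₂ = Q` extend to Sylow subgroups of `G`
meeting in `Q`. -/
theorem exists_sylow_inf_eq {G : Type*} [Group G] [Finite G] (p : ℕ) [Fact p.Prime]
    (Q A₁ A₂ : Subgroup G) (hA₁ : IsPGroup p A₁) (hA₂ : IsPGroup p A₂)
    (hA₁N : A₁ ≤ Subgroup.normalizer (Q : Set G)) (hA₂N : A₂ ≤ Subgroup.normalizer (Q : Set G))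
    (h1 : ¬ p ∣ A₁.relIndex (Subgroup.normalizer (Q : Set G)))
    (h2 : ¬ p ∣ A₂.relIndex (Subgroup.normalizer (Q : Set G))) (hinf : A₁ ⊓ A₂ = Q) :
    ∃ P₁ T₁ : Sylow p G, (P₁ : Subgroup G) ⊓ (T₁ : Subgroup G) = Q ∧
      (P₁ : Subgroup G) ⊓ Subgroup.normalizer (Q : Set G) = A₁ ∧
      (T₁ : Subgroup G) ⊓ Subgroup.normalizer (Q : Set G) = A₂ := by
  obtain ⟨P₁, hP₁⟩ := hA₁.exists_le_sylow
  obtain ⟨T₁, hT₁⟩ := hA₂.exists_le_sylow
  have e1 := inf_eq_of_relIndex_not_dvd p A₁ _ (P₁ : Subgroup G) hA₁N h1 P₁.2 hP₁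
  have e2 := inf_eq_of_relIndex_not_dvd p A₂ _ (T₁ : Subgroup G) hA₂N h2 T₁.2 hT₁
  refine ⟨P₁, T₁, ?_, e1, e2⟩
  have hQD : Q ≤ (P₁ : Subgroup G) ⊓ (T₁ : Subgroup G) := by
    rw [← hinf]; exact inf_le_inf hP₁ hT₁
  by_contra hne
  have hlt : Q < (P₁ : Subgroup G) ⊓ (T₁ : Subgroup G) := lt_of_le_of_ne hQD (Ne.symm hne)
  obtain ⟨B, hQB, hBD, hBN⟩ := exists_lt_le_normalizer p _ Q (P₁.2.to_le inf_le_left) hlt
  have hBQ : B ≤ Q := by
    rw [← hinf, ← e1, ← e2]
    exact le_inf (le_inf (hBD.trans inf_le_left) hBN) (le_inf (hBD.trans inf_le_right) hBN)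
  exact absurd hQB (not_lt_of_ge hBQ)

theorem relIndex_inf_normalizer_map_conj {G : Type*} [Group G] (g : G) (P Q : Subgroup G) :
    (P.map (MulAut.conj g).toMonoidHom ⊓
      Subgroup.normalizer ((Q.map (MulAut.conj g).toMonoidHom : Subgroup G) : Set G)).relIndex
      (Subgroup.normalizer ((Q.map (MulAut.conj g).toMonoidHom : Subgroup G) : Set G)) =
    (P ⊓ Subgroup.normalizer (Q : Set G)).relIndex (Subgroup.normalizer (Q : Set G)) := by
  rw [← Subgroup.map_equiv_normalizer_eq Q (MulAut.conj g),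
    ← Subgroup.map_inf _ _ _ (MulAut.conj g).injective,
    Subgroup.relIndex_map_map_of_injective _ _ (MulAut.conj g).injective]

theorem tame_intersection_conj {G : Type*} [Group G] [Finite G] (p : ℕ) [Fact p.Prime]
    (P P₁ T₁ : Sylow p G) (Q : Subgroup G) (hinf : (P₁ : Subgroup G) ⊓ (T₁ : Subgroup G) = Q)
    (h1 : ¬ p ∣ ((P₁ : Subgroup G) ⊓ Subgroup.normalizer (Q : Set G)).relIndex
      (Subgroup.normalizer (Q : Set G)))
    (h2 : ¬ p ∣ ((T₁ : Subgroup G) ⊓ Subgroup.normalizer (Q : Set G)).relIndex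
      (Subgroup.normalizer (Q : Set G))) :
    ∃ (g : G) (T : Sylow p G) (R : Subgroup G), R = Q.map (MulAut.conj g).toMonoidHom ∧ R ≤ P ∧
      (P : Subgroup G) ⊓ (T : Subgroup G) = R ∧
      ¬ p ∣ ((P : Subgroup G) ⊓ Subgroup.normalizer ((R : Subgroup G) : Set G)).relIndex
        (Subgroup.normalizer ((R : Subgroup G) : Set G)) ∧
      ¬ p ∣ ((T : Subgroup G) ⊓ Subgroup.normalizer ((R : Subgroup G) : Set G)).relIndex
        (Subgroup.normalizer ((R : Subgroup G) : Set G)) := by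
  obtain ⟨g, hg⟩ := MulAction.exists_smul_eq G P₁ P
  have hP : (P : Subgroup G) = (P₁ : Subgroup G).map (MulAut.conj g).toMonoidHom := by
    rw [← hg, Sylow.coe_subgroup_smul]; rfl
  have hT : ((g • T₁ : Sylow p G) : Subgroup G) = (T₁ : Subgroup G).map (MulAut.conj g).toMonoidHom := by
    rw [Sylow.coe_subgroup_smul]; rfl
  refine ⟨g, g • T₁, Q.map (MulAut.conj g).toMonoidHom, rfl, ?_, ?_, ?_, ?_⟩
  · rw [hP]
    exact Subgroup.map_mono (hinf ▸ inf_le_left)
  · rw [hP, hT, ← Subgroup.map_inf _ _ _ (MulAut.conj g).injective, hinf]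
  · rw [hP, relIndex_inf_normalizer_map_conj]
    exact h1
  · rw [hT, relIndex_inf_normalizer_map_conj]
    exact h2

end Cfsg.Agent.Lib.Helper42
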