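import Cfsg.Agent.Lib.Helper42.OPb5a
import Cfsg.Agent.Lib.Helper05.OsElB
import Cfsg.Prelude.Def_GeometricClasses
import Cfsg.Prelude.Def_Classical

/-!
# K-OMb-2 (keystone 599102, S5991, architect helper32)

`q ≡ 7 (mod 8)`, `d` odd: an element `x ∈ Ω⁻_{2d}(q)` with `x² = -1`.  Model: the dot product on
`Fin d ⊕ Fin d → F`, the rotation by 45 degrees `y` on each pair of coordinates (`2 s² = 1`),
`y ∘ y = J`, `J ∘ J = -1`; K-OPb LEAF 5a for `J` shows that the model is not of plus type, and the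
transport of squares to `Ω⁻` (helper32's `transport_minus_sq`, here a HYPOTHESIS `htr` of
`exists_sq_neg_one_minus_of`) gives `x`.
-/

set_option autoImplicit false
set_option linter.unusedSimpArgs false
set_option linter.unusedVariables false
set_option linter.unusedSectionVars false

namespace Cfsg.Agent.Lib.Helper42.OMb

open Module Cfsg.Agent.Lib.Helper98.Elus Cfsg.Agent.Lib.Helper98.Sy Cfsg.Agent.Lib.Helper98.Oh
  Cfsg.Agent.Lib.Helper69.OPb
open scoped MatrixGroups

universe u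
variable {F : Type u} [Field F]

/-- the dot product on `Fin d ⊕ Fin d → F` as a bilinear form -/
noncomputable def omb2Dot (d : ℕ) : LinearMap.BilinForm F (Fin d ⊕ Fin d → F) :=
  LinearMap.mk₂ F (fun v w => v ⬝ᵥ w)
    (fun v v' w => add_dotProduct v v' w)
    (fun c v w => smul_dotProduct c v w)
    (fun v w w' => dotProduct_add v w w')
    (fun c v w => dotProduct_smul c v w)

theorem omb2Dot_apply (d : ℕ) (v w : Fin d ⊕ Fin d → F) :
    omb2Dot d v w = ∑ i : Fin d, v (Sum.inl i) * w (Sum.inl i) +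
      ∑ i : Fin d, v (Sum.inr i) * w (Sum.inr i) := by
  unfold omb2Dot
  rw [LinearMap.mk₂_apply]
  unfold dotProduct
  rw [Fintype.sum_sum_type]

theorem omb2Dot_symm (d : ℕ) (v w : Fin d ⊕ Fin d → F) : omb2Dot d v w = omb2Dot d w v := by
  rw [omb2Dot_apply, omb2Dot_apply]
  congr 1 <;> exact Finset.sum_congr rfl (fun i _ => mul_comm _ _)

theorem omb2Dot_nonDeg (d : ℕ) : NonDeg (omb2Dot (F := F) d) ⊤ := by
  intro u _ hu
  funext j
  have h := hu (Pi.single j 1) Submodule.mem_top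
  unfold omb2Dot at h
  rw [LinearMap.mk₂_apply, dotProduct_single, mul_one] at h
  exact h

/-- rotation by 45 degrees (up to the factor `s`) on each pair of coordinates -/
noncomputable def omb2Rot (d : ℕ) (s : F) : (Fin d ⊕ Fin d → F) →ₗ[F] (Fin d ⊕ Fin d → F) where
  toFun v := Sum.elim (fun i => s * (v (Sum.inl i) - v (Sum.inr i)))
    (fun i => s * (v (Sum.inl i) + v (Sum.inr i)))
  map_add' v w := by
    funext j
    rcases j with i | i
    · simp only [Sum.elim_inl, Pi.add_apply]; ring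
    · simp only [Sum.elim_inr, Pi.add_apply]; ring
  map_smul' c v := by
    funext j
    rcases j with i | i
    · simp only [Sum.elim_inl, Pi.smul_apply, smul_eq_mul, RingHom.id_apply]; ring
    · simp only [Sum.elim_inr, Pi.smul_apply, smul_eq_mul, RingHom.id_apply]; ring

theorem omb2Rot_inl (d : ℕ) (s : F) (v : Fin d ⊕ Fin d → F) (i : Fin d) :
    omb2Rot d s v (Sum.inl i) = s * (v (Sum.inl i) - v (Sum.inr i)) := rfl

theorem omb2Rot_inr (d : ℕ) (s : F) (v : Fin d ⊕ Fin d → F) (i : Fin d) :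
    omb2Rot d s v (Sum.inr i) = s * (v (Sum.inl i) + v (Sum.inr i)) := rfl

theorem omb2Rot_iso (d : ℕ) (s : F) (hs : 2 * (s * s) = 1) : Iso (omb2Dot d) (omb2Rot d s) := by
  intro u v
  rw [omb2Dot_apply, omb2Dot_apply, ← Finset.sum_add_distrib, ← Finset.sum_add_distrib]
  apply Finset.sum_congr rfl
  intro i _
  rw [omb2Rot_inl, omb2Rot_inl, omb2Rot_inr, omb2Rot_inr]
  linear_combination (u (Sum.inl i) * v (Sum.inl i) + u (Sum.inr i) * v (Sum.inr i)) * hs

theorem omb2Rot_sq_inl (d : ℕ) (s : F) (hs : 2 * (s * s) = 1) (v : Fin d ⊕ Fin d → F) (i : Fin d) :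
    omb2Rot d s (omb2Rot d s v) (Sum.inl i) = - v (Sum.inr i) := by
  rw [omb2Rot_inl, omb2Rot_inl, omb2Rot_inr]
  linear_combination (- v (Sum.inr i)) * hs

theorem omb2Rot_sq_inr (d : ℕ) (s : F) (hs : 2 * (s * s) = 1) (v : Fin d ⊕ Fin d → F) (i : Fin d) :
    omb2Rot d s (omb2Rot d s v) (Sum.inr i) = v (Sum.inl i) := by
  rw [omb2Rot_inr, omb2Rot_inl, omb2Rot_inr]
  linear_combination (v (Sum.inl i)) * hs

theorem omb2Rot_four (d : ℕ) (s : F) (hs : 2 * (s * s) = 1) (v : Fin d ⊕ Fin d → F) :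
    omb2Rot d s (omb2Rot d s (omb2Rot d s (omb2Rot d s v))) = - v := by
  funext j
  rcases j with i | i
  · rw [omb2Rot_sq_inl d s hs, omb2Rot_sq_inr d s hs, Pi.neg_apply]
  · rw [omb2Rot_sq_inr d s hs, omb2Rot_sq_inl d s hs, Pi.neg_apply]

/-- a totally isotropic subspace of a nondegenerate symmetric space of dimension `2d` which is not of plus
type has dimension `< d` (own copy of LEAF 1 `lt_of_not_plus`, to keep this leaf independent) -/
theorem omb2_lt_of_not_plus {V : Type u} [AddCommGroup V] [Module F V] (h2 : (2 : F) ≠ 0)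
    [FiniteDimensional F V] (B : LinearMap.BilinForm F V)
    (hS : ∀ a b, B a b = B b a) (hV : NonDeg B ⊤) (d : ℕ) (hd : finrank F V = 2 * d)
    (hnp : ¬ Plus B ⊤) (X : Submodule F V) (hX : ∀ x ∈ X, B x x = 0) : finrank F X < d := by
  have hR := Cfsg.Agent.Lib.Helper98.Os.isRefl_of_symm hS
  have hOrt : Ort B X X := by
    intro u hu v hv
    have h1 := hX (u + v) (X.add_mem hu hv)
    simp only [map_add, LinearMap.add_apply] at h1
    have h5 := hX u hu
    have h6 := hX v hv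
    have h7 := hS v u
    have h3 : (2 : F) * B u v = 0 := by linear_combination h1 - h5 - h6 - h7
    rcases mul_eq_zero.mp h3 with h4 | h4
    · exact absurd h4 h2
    · exact h4
  have h1 := Cfsg.Agent.Lib.Helper05.OsEl.two_mul_finrank_le hR hV ⊤ X hV le_top hOrt
  rw [finrank_top, hd] at h1
  by_contra hlt
  have heq : finrank F X = d := by omega
  apply hnp
  exact ⟨X, le_top, hX, by rw [finrank_top, hd, heq]⟩

/-- K-OMb-2 modulo the transport of squares to `Ω⁻` (`htr` = the statement of helper32's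
`transport_minus_sq` for the parameters `d a b`). -/
theorem exists_sq_neg_one_minus_of [Fintype F] (hq : Fintype.card F % 8 = 7) (d : ℕ) (hd : Odd d)
    (a b : F)
    (htr : ∀ {V : Type u} [AddCommGroup V] [Module F V] [FiniteDimensional F V]
      (B : LinearMap.BilinForm F V), (∀ x y, B x y = B y x) → NonDeg B ⊤ →
      finrank F V = 2 * d →
      (∀ X : Submodule F V, (∀ x ∈ X, B x x = 0) → finrank F X < d) →
      ∀ (y : V →ₗ[F] V), Iso B y →
      ∃ x : GL ((Fin (d - 1) ⊕ Fin (d - 1)) ⊕ Fin 2) F,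
        x ∈ Cfsg.Geo.omegaGL (Cfsg.quadFormMinus (d - 1) F a b) ∧
        ∃ E : (((Fin (d - 1) ⊕ Fin (d - 1)) ⊕ Fin 2) → F) ≃ₗ[F] V,
          (∀ w, E (Matrix.toLin' (x : Matrix ((Fin (d - 1) ⊕ Fin (d - 1)) ⊕ Fin 2)
            ((Fin (d - 1) ⊕ Fin (d - 1)) ⊕ Fin 2) F) w) = y (y (E w))) ∧
          ∀ v w, B (E v) (E w) = QuadraticMap.polar (Cfsg.quadFormMinus (d - 1) F a b) v w) :
    ∃ x : GL ((Fin (d - 1) ⊕ Fin (d - 1)) ⊕ Fin 2) F,
      x ∈ Cfsg.Geo.omegaGL (Cfsg.quadFormMinus (d - 1) F a b) ∧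
      (x : Matrix ((Fin (d - 1) ⊕ Fin (d - 1)) ⊕ Fin 2) ((Fin (d - 1) ⊕ Fin (d - 1)) ⊕ Fin 2) F) *
        (x : Matrix ((Fin (d - 1) ⊕ Fin (d - 1)) ⊕ Fin 2) ((Fin (d - 1) ⊕ Fin (d - 1)) ⊕ Fin 2) F) =
        -1 := by
  classical
  have hchar : ringChar F ≠ 2 := by
    intro h
    have := FiniteField.even_card_of_char_two h
    omega
  have h2 : (2 : F) ≠ 0 := Ring.two_ne_zero hchar
  have hm1 : ¬ IsSquare (-1 : F) := by
    rw [FiniteField.isSquare_neg_one_iff]
    omega
  obtain ⟨t, ht⟩ : IsSquare (2 : F) := FiniteField.isSquare_two_iff.mpr ⟨by omega, by omega⟩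
  have ht0 : t ≠ 0 := by
    rintro rfl
    rw [mul_zero] at ht
    exact h2 ht
  have hs : 2 * (t / 2 * (t / 2)) = 1 := by
    field_simp
    linear_combination (-1 : F) * ht
  set s : F := t / 2 with hsdef
  -- the model
  have hS := omb2Dot_symm (F := F) d
  have hV := omb2Dot_nonDeg (F := F) d
  have hfin : finrank F (Fin d ⊕ Fin d → F) = 2 * d := by
    rw [Module.finrank_fintype_fun_eq_card, Fintype.card_sum, Fintype.card_fin, two_mul]
  have hiso : Iso (omb2Dot d) (omb2Rot d s) := omb2Rot_iso d s hs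
  have hJJ : (omb2Rot d s * omb2Rot d s) * (omb2Rot d s * omb2Rot d s) = -1 := by
    apply LinearMap.ext
    intro v
    simp only [Module.End.mul_apply, LinearMap.neg_apply, Module.End.one_apply]
    exact omb2Rot_four d s hs v
  have hisoJ : Iso (omb2Dot d) (omb2Rot d s * omb2Rot d s) := by
    intro u v
    simp only [Module.End.mul_apply]
    rw [hiso, hiso]
  have hnp : ¬ Plus (omb2Dot (F := F) d) ⊤ := by
    rw [Cfsg.Agent.Lib.Helper42.OPb.plus_iff_even_of_sq_neg_one h2 hm1 (omb2Dot d) hS hV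
      (omb2Rot d s * omb2Rot d s) hJJ hisoJ d hfin]
    exact Nat.not_even_iff_odd.mpr hd
  have hminus : ∀ X : Submodule F (Fin d ⊕ Fin d → F), (∀ x ∈ X, omb2Dot d x x = 0) →
      finrank F X < d :=
    fun X hX => omb2_lt_of_not_plus h2 (omb2Dot d) hS hV d hfin hnp X hX
  obtain ⟨x, hxΩ, E, hE, -⟩ := htr (omb2Dot d) hS hV hfin hminus (omb2Rot d s) hiso
  refine ⟨x, hxΩ, ?_⟩
  apply Matrix.toLin'.injective
  apply LinearMap.ext
  intro w
  apply E.injective
  rw [Matrix.toLin'_mul, LinearMap.comp_apply, hE, hE, omb2Rot_four d s hs, map_neg,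
    LinearMap.neg_apply, Matrix.toLin'_one, LinearMap.id_apply, map_neg]

end Cfsg.Agent.Lib.Helper42.OMb
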