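import Mathlib

/-!
# K-UC-K5 (keystone 264606, S2646, architect helper73): trace-one and skew elements of a field with `q²` elements
-/

set_option autoImplicit false
set_option linter.unusedVariables false
set_option linter.unusedSectionVars false

namespace Cfsg.Agent.Lib.Helper42.UC

variable {K : Type*} [Field K]

/-- `x ↦ x ^ q` is not the identity on a field with `q²` elements -/
theorem uc_exists_pow_ne [Fintype K] {q : ℕ} (hK : Fintype.card K = q ^ 2) : ∃ x : K, x ^ q ≠ x := by
  classical
  by_contra hcon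
  push Not at hcon
  have hq2 : 2 ≤ q := by
    have h1 : 1 < Fintype.card K := Fintype.one_lt_card
    rw [hK] at h1
    by_contra h
    have h01 : q = 0 ∨ q = 1 := by omega
    rcases h01 with rfl | rfl <;> simp at h1
  obtain ⟨g, hg⟩ := IsCyclic.exists_generator (α := Kˣ)
  have hord : orderOf g = q ^ 2 - 1 := by
    rw [orderOf_eq_card_of_forall_mem_zpowers hg, Nat.card_eq_fintype_card, Fintype.card_units, hK]
  have h1 : g ^ (q - 1) = 1 := by
    have h2 : (g : K) ^ q = g := hcon g
    have h3 : g ^ q = g := Units.ext (by rw [Units.val_pow_eq_pow_val]; exact h2)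
    have h4 : g ^ (q - 1) * g = 1 * g := by
      rw [← pow_succ, Nat.sub_add_cancel (by omega), h3, one_mul]
    exact mul_right_cancel h4
  have h5 : q ^ 2 - 1 ∣ q - 1 := hord ▸ orderOf_dvd_of_pow_eq_one h1
  have h6 : q ^ 2 - 1 ≤ q - 1 := Nat.le_of_dvd (by omega) h5
  have h7 : 2 * q ≤ q * q := Nat.mul_le_mul_right q hq2
  rw [pow_two] at h6
  omega

/-- **K-UC-K5 (264606).** -/
theorem exists_trace_one_skew [Fintype K] {q : ℕ} (hK : Fintype.card K = q ^ 2)
    (φ : K →+* K) (hφ : ∀ x, φ x = x ^ q) :
    (∃ α : K, α + φ α = 1) ∧ ∃ ε : K, ε ≠ 0 ∧ φ ε = -ε := by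
  have hφφ : ∀ x, φ (φ x) = x := by
    intro x
    rw [hφ, hφ, ← pow_mul, ← pow_two, ← hK, FiniteField.pow_card]
  obtain ⟨x, hx⟩ := uc_exists_pow_ne hK
  constructor
  · have key : ∀ z : K, z + φ z ≠ 0 → ∃ α : K, α + φ α = 1 := by
      intro z hz
      refine ⟨z / (z + φ z), ?_⟩
      have hfix : φ (z + φ z) = z + φ z := by rw [map_add, hφφ, add_comm]
      rw [map_div₀, hfix, ← add_div, div_self hz]
    by_cases h2 : (2 : K) = 0
    · apply key x
      intro h
      apply hx
      rw [← hφ]
      have h3 : φ x = -x := by linear_combination h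
      rw [h3]
      linear_combination (-x) * h2
    · apply key 1
      rw [map_one]
      intro h
      apply h2
      linear_combination h
  · refine ⟨x - φ x, ?_, ?_⟩
    · intro h
      apply hx
      rw [← hφ]
      exact (sub_eq_zero.mp h).symm
    · rw [map_sub, hφφ]
      ring

end Cfsg.Agent.Lib.Helper42.UC
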