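import Cfsg.Agent.Lib.Helper69.OPbDefs
import Cfsg.Agent.Lib.Helper63.OhA

/-!
# K-OPb-5a (keystone 598905, S5989 / S5991, architect helper69)

`-1` a nonsquare, `x` an isometry of a nondegenerate symmetric space of dimension `2d` with `x² = -1`:
the space is of plus type iff `d` is even.  (Induction on invariant nondegenerate subspaces, splitting off
the anisotropic invariant planes `⟨u, x u⟩`, `B u u ≠ 0`.)
-/

set_option autoImplicit false
set_option linter.unusedSimpArgs false
set_option linter.unusedVariables false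
set_option linter.unusedSectionVars false

namespace Cfsg.Agent.Lib.Helper42.OPb

open Module Cfsg.Agent.Lib.Helper98.Elus Cfsg.Agent.Lib.Helper98.Sy Cfsg.Agent.Lib.Helper98.Oh
  Cfsg.Agent.Lib.Helper69.OPb

universe u
variable {F : Type u} [Field F] {V : Type u} [AddCommGroup V] [Module F V]

/-- a sum of two squares vanishes only trivially when `-1` is a nonsquare -/
theorem opb5a_sq_add_sq (hm1 : ¬ IsSquare (-1 : F)) (a b : F) (h : a ^ 2 + b ^ 2 = 0) :
    a = 0 ∧ b = 0 := by
  by_cases hb : b = 0
  · subst hb
    have ha : a ^ 2 = 0 := by linear_combination h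
    exact ⟨pow_eq_zero_iff (two_ne_zero) |>.mp ha, rfl⟩
  · exfalso
    apply hm1
    refine ⟨a / b, ?_⟩
    have hb2 : b ^ 2 ≠ 0 := pow_ne_zero 2 hb
    have ha2 : a ^ 2 = - b ^ 2 := by linear_combination h
    calc (-1 : F) = - b ^ 2 / b ^ 2 := by rw [neg_div, div_self hb2]
      _ = a ^ 2 / b ^ 2 := by rw [ha2]
      _ = a / b * (a / b) := by rw [div_mul_div_comm, ← sq, ← sq]

/-- the inductive statement: invariant nondegenerate subspaces of dimension `2e` are `Plus` iff `e` even -/
theorem opb5a_aux [Fintype F] (h2 : (2 : F) ≠ 0) (hm1 : ¬ IsSquare (-1 : F))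
    [FiniteDimensional F V] (B : LinearMap.BilinForm F V) (hS : ∀ a b, B a b = B b a)
    (x : V →ₗ[F] V) (hx : x * x = -1) (hiso : Iso B x) :
    ∀ (e : ℕ) (U : Submodule F V), Inv x U → NonDeg B U → finrank F U = 2 * e →
      (Plus B U ↔ Even e) := by
  have hR := Cfsg.Agent.Lib.Helper98.Os.isRefl_of_symm hS
  have hxx : ∀ v, x (x v) = -v := by
    intro v
    have h1 := congrArg (fun g : V →ₗ[F] V => g v) hx
    simpa using h1
  intro e
  induction e with
  | zero =>
    intro U _ _ hdim
    have hU : U = ⊥ := by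
      rw [← Submodule.finrank_eq_zero]
      simpa using hdim
    rw [hU]
    exact ⟨fun _ => Even.zero, fun _ => plus_bot B⟩
  | succ e ih =>
    intro U hUinv hUnd hdim
    -- a non-isotropic vector of `U`
    obtain ⟨u, huU, hu⟩ : ∃ u ∈ U, B u u ≠ 0 := by
      by_contra hcon
      push Not at hcon
      have hpos : 0 < finrank F U := by omega
      obtain ⟨w, hw⟩ := Module.finrank_pos_iff_exists_ne_zero.mp hpos
      apply hw
      apply Subtype.ext
      apply hUnd w.1 w.2
      intro v hv
      have h1 := hcon (w.1 + v) (U.add_mem w.2 hv)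
      simp only [map_add, LinearMap.add_apply] at h1
      have h5 := hcon w.1 w.2
      have h6 := hcon v hv
      have h7 := hS v w.1
      have h3 : (2 : F) * B w.1 v = 0 := by linear_combination h1 - h5 - h6 - h7
      rcases mul_eq_zero.mp h3 with h4 | h4
      · exact absurd h4 h2
      · exact h4
    have hux : B u (x u) = 0 := by
      have h1 := hiso u (x u)
      rw [hxx, map_neg, hS (x u) u] at h1
      have h3 : (2 : F) * B u (x u) = 0 := by linear_combination (-1 : F) * h1
      rcases mul_eq_zero.mp h3 with h4 | h4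
      · exact absurd h4 h2
      · exact h4
    have hxu2 : B (x u) (x u) = B u u := hiso u u
    have hxuu : B (x u) u = 0 := by rw [hS]; exact hux
    have hform : ∀ a b : F,
        B (a • u + b • x u) (a • u + b • x u) = (a ^ 2 + b ^ 2) * B u u := by
      intro a b
      simp only [map_add, map_smul, LinearMap.add_apply, LinearMap.smul_apply, smul_eq_mul, hux,
        hxuu, hxu2]
      ring
    have hPmem : ∀ v, v ∈ Submodule.span F {u, x u} ↔ ∃ a b : F, a • u + b • x u = v :=
      fun v => Submodule.mem_span_pair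
    have haniso : ∀ v ∈ Submodule.span F {u, x u}, B v v = 0 → v = 0 := by
      intro v hv hv0
      obtain ⟨a, b, rfl⟩ := (hPmem v).mp hv
      rw [hform] at hv0
      rcases mul_eq_zero.mp hv0 with h4 | h4
      · obtain ⟨ha, hb⟩ := opb5a_sq_add_sq hm1 a b h4
        rw [ha, hb, zero_smul, zero_smul, add_zero]
      · exact absurd h4 hu
    have hPnd : NonDeg B (Submodule.span F {u, x u}) := fun v hv hv' => haniso v hv (hv' v hv)
    have hli : LinearIndependent F ![u, x u] := by
      rw [LinearIndependent.pair_iff]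
      intro s t hst
      have h1 : B (s • u + t • x u) (s • u + t • x u) = 0 := by rw [hst]; simp
      rw [hform] at h1
      rcases mul_eq_zero.mp h1 with h4 | h4
      · exact opb5a_sq_add_sq hm1 s t h4
      · exact absurd h4 hu
    have hPdim : finrank F (Submodule.span F {u, x u}) = 2 := by
      have h1 := finrank_span_eq_card hli
      rw [Fintype.card_fin, Matrix.range_cons_cons_empty] at h1
      exact h1
    have hPnotplus : ¬ Plus B (Submodule.span F {u, x u}) := by
      rintro ⟨T, hTP, hT0, hTdim⟩
      have hT1 : 0 < finrank F T := by omega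
      obtain ⟨t, ht⟩ := Module.finrank_pos_iff_exists_ne_zero.mp hT1
      apply ht
      apply Subtype.ext
      exact haniso t.1 (hTP t.2) (hT0 t.1 t.2)
    have hPU : Submodule.span F {u, x u} ≤ U := by
      rw [Submodule.span_le]
      intro v hv
      rcases hv with rfl | hv
      · exact huU
      · rw [Set.mem_singleton_iff] at hv
        rw [hv]
        exact hUinv u huU
    have hPinv : Inv x (Submodule.span F {u, x u}) := by
      intro v hv
      obtain ⟨a, b, rfl⟩ := (hPmem v).mp hv
      rw [hPmem]
      refine ⟨-b, a, ?_⟩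
      rw [map_add, map_smul, map_smul, hxx, smul_neg, neg_smul]
      abel
    obtain ⟨hsup, hinf, hU'nd, hU'dim⟩ :=
      Cfsg.Agent.Lib.Helper98.Os.compl_props hR (Submodule.span F {u, x u}) U hPnd hPU hUnd
    have hort : Ort B (Submodule.span F {u, x u})
        (B.orthogonal (Submodule.span F {u, x u}) ⊓ U) := by
      intro p hp v hv
      exact LinearMap.BilinForm.mem_orthogonal_iff.mp (Submodule.mem_inf.mp hv).1 p hp
    have hU'inv : Inv x (B.orthogonal (Submodule.span F {u, x u}) ⊓ U) := by
      intro v hv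
      obtain ⟨hv1, hv2⟩ := Submodule.mem_inf.mp hv
      refine Submodule.mem_inf.mpr ⟨?_, hUinv v hv2⟩
      rw [LinearMap.BilinForm.mem_orthogonal_iff]
      intro p hp
      show B p (x v) = 0
      have h1 : x (-(x p)) = p := by rw [map_neg, hxx, neg_neg]
      have h3 := hiso (-(x p)) v
      rw [h1] at h3
      rw [h3]
      have h4 : -(x p) ∈ Submodule.span F {u, x u} := Submodule.neg_mem _ (hPinv p hp)
      exact LinearMap.BilinForm.mem_orthogonal_iff.mp hv1 _ h4
    have hU'dim2 : finrank F ↥(B.orthogonal (Submodule.span F {u, x u}) ⊓ U) = 2 * e := by omega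
    have hIH := ih _ hU'inv hU'nd hU'dim2
    have hplus := Cfsg.Agent.Lib.Helper63.Oh.plus_sup_iff h2 B hS (Submodule.span F {u, x u})
      (B.orthogonal (Submodule.span F {u, x u}) ⊓ U) hPnd hU'nd hort
      (by rw [hPdim]; exact even_two) (by rw [hU'dim2]; exact even_two_mul e)
    rw [hsup] at hplus
    rw [hplus, hIH, Nat.even_add_one]
    constructor
    · intro h hev
      exact hPnotplus (h.mpr hev)
    · intro h
      exact ⟨fun hp => absurd hp hPnotplus, fun hev => absurd hev h⟩

/-- LEAF 5a. -/
theorem plus_iff_even_of_sq_neg_one [Fintype F] (h2 : (2 : F) ≠ 0) (hm1 : ¬ IsSquare (-1 : F))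
    [FiniteDimensional F V] (B : LinearMap.BilinForm F V) (hS : ∀ a b, B a b = B b a) (hV : NonDeg B ⊤)
    (x : V →ₗ[F] V) (hx : x * x = -1) (hiso : Iso B x) (d : ℕ) (hd : finrank F V = 2 * d) :
    Plus B ⊤ ↔ Even d :=
  opb5a_aux h2 hm1 B hS x hx hiso d ⊤ (fun v _ => Submodule.mem_top) hV
    (by rw [finrank_top]; exact hd)

end Cfsg.Agent.Lib.Helper42.OPb
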