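import Mathlib
import Cfsg.Prelude.Def_Classical
import Cfsg.Prelude.Def_GeometricClasses
import Cfsg.Agent.Lib.Helper49.SLODefs

/-!
# K-SLO pack (S5981), leaf 598107 K-SLO-7 (helper42): diagonal derangements for `r ∣ q - 1`
-/

set_option autoImplicit false

namespace Cfsg.Agent.Lib.Helper42.SLO

open Matrix Cfsg.Agent.Lib.Helper49 Cfsg.Agent.Lib.Helper49.SLO

variable {F : Type*} [Field F]

/-- generic reduction: a non-scalar diagonal matrix of determinant one whose eigenvalue
multiplicities admit no pairing `α ↔ c / α` gives an element of `SL_n` with no conjugate in the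
similarity group of `Q`. -/
theorem slo7_diag_core [DecidableEq F] (n : ℕ) (Q : (Fin n → F) → F)
    (hQ : Cfsg.Geo.IsNondegenerateQuadraticForm Q) (d : Fin n → F)
    (hdet : ∏ k, d k = 1) (hns : ∃ a b, d a ≠ d b)
    (hpair : ∀ c : F, c ≠ 0 → (∀ α : F, α ≠ 0 →
      (Finset.univ.filter fun k : Fin n => d k = c / α).card =
        (Finset.univ.filter fun k : Fin n => d k = α).card) → False) :
    ∃ x : GL (Fin n) F, (x : Matrix (Fin n) (Fin n) F) = Matrix.diagonal d ∧
      x ∈ Cfsg.Geo.specialLinear (Fin n) F ∧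
      (∀ z : F, (x : Matrix (Fin n) (Fin n) F) ≠ z • (1 : Matrix (Fin n) (Fin n) F)) ∧
      ∀ g : GL (Fin n) F, g⁻¹ * x * g ∉ Cfsg.Geo.quadSimilarityGroup Q := by
  have hdet' : (Matrix.diagonal d).det ≠ 0 := by
    rw [Matrix.det_diagonal, hdet]; exact one_ne_zero
  set x : GL (Fin n) F := Matrix.GeneralLinearGroup.mkOfDetNeZero (Matrix.diagonal d) hdet'
    with hxdef
  have hx : (x : Matrix (Fin n) (Fin n) F) = Matrix.diagonal d := rfl
  refine ⟨x, hx, ?_, ?_, ?_⟩
  · rw [Cfsg.Geo.specialLinear, MonoidHom.mem_ker]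
    apply Units.ext
    rw [Matrix.GeneralLinearGroup.val_det_apply, hx, Matrix.det_diagonal, hdet]
    rfl
  · intro z hz
    obtain ⟨a, b, hab⟩ := hns
    rw [hx] at hz
    have ea := congrFun (congrFun hz a) a
    have eb := congrFun (congrFun hz b) b
    simp at ea eb
    exact hab (ea.trans eb.symm)
  · intro g hy
    obtain ⟨c, hc0, hc⟩ := diag_pairing Q hQ x g d hx hy
    exact hpair c hc0 hc

/-- powers of an element of `GL` with diagonal matrix -/
theorem slo7_pow_diag {n : ℕ} (x : GL (Fin n) F) (d : Fin n → F)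
    (hx : (x : Matrix (Fin n) (Fin n) F) = Matrix.diagonal d) (r : ℕ) :
    ((x ^ r : GL (Fin n) F) : Matrix (Fin n) (Fin n) F) = Matrix.diagonal (fun k => d k ^ r) := by
  rw [Units.val_pow_eq_pow_val, hx, Matrix.diagonal_pow]
  rfl

theorem slo7_pow_eq_one {n : ℕ} (x : GL (Fin n) F) (d : Fin n → F)
    (hx : (x : Matrix (Fin n) (Fin n) F) = Matrix.diagonal d) (r : ℕ)
    (hr : ∀ k, d k ^ r = 1) : x ^ r = 1 := by
  apply Units.ext
  rw [slo7_pow_diag x d hx r, Units.val_one, ← Matrix.diagonal_one]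
  congr 1
  funext k
  exact hr k

section gen

variable [Fintype F]

/-- an element of `F` of prime order `r ∣ q - 1` -/
theorem slo7_exists_root (r : ℕ) [Fact r.Prime] (hrq : r ∣ Fintype.card F - 1) :
    ∃ ζ : F, ζ ≠ 0 ∧ ζ ^ r = 1 ∧ ∀ k, ζ ^ k = 1 → r ∣ k := by
  classical
  obtain ⟨u, hu⟩ : ∃ u : Fˣ, orderOf u = r :=
    exists_prime_orderOf_dvd_card r (by rw [Fintype.card_units]; exact hrq)
  have hord : orderOf (u : F) = r := by rw [← hu, orderOf_units]
  refine ⟨(u : F), u.ne_zero, ?_, ?_⟩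
  · rw [← hord]; exact pow_orderOf_eq_one _
  · intro k hk
    rw [← hord]; exact orderOf_dvd_of_pow_eq_one hk

theorem derange_split_gen (n : ℕ) (hn : 3 ≤ n) (Q : (Fin n → F) → F)
    (hQ : Cfsg.Geo.IsNondegenerateQuadraticForm Q) (r : ℕ) [Fact r.Prime] (hr5 : 5 ≤ r)
    (hrq : r ∣ Fintype.card F - 1) (hne : ¬ (n = 5 ∧ r = 5)) :
    ∃ x : GL (Fin n) F, x ∈ Cfsg.Geo.specialLinear (Fin n) F ∧ x ^ r = 1 ∧
      (∀ z : F, (x : Matrix (Fin n) (Fin n) F) ≠ z • (1 : Matrix (Fin n) (Fin n) F)) ∧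
      ∀ g : GL (Fin n) F, g⁻¹ * x * g ∉ Cfsg.Geo.quadSimilarityGroup Q := by
  classical
  have hr : r.Prime := Fact.out
  obtain ⟨ζ, hζ0, hζr, hpow⟩ := slo7_exists_root (F := F) r hrq
  have h1 : ζ ^ 1 ≠ 1 := fun h => by
    have := Nat.le_of_dvd (by norm_num) (hpow 1 h); omega
  have h2 : ζ ^ 2 ≠ 1 := fun h => by
    have := Nat.le_of_dvd (by norm_num) (hpow 2 h); omega
  have h3 : ζ ^ 3 ≠ 1 := fun h => by
    have := Nat.le_of_dvd (by norm_num) (hpow 3 h); omega
  have h4 : ζ ^ 4 ≠ 1 := fun h => by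
    have := Nat.le_of_dvd (by norm_num) (hpow 4 h); omega
  have h6 : ζ ^ 6 ≠ 1 := fun h => by
    have hd := hpow 6 h
    have hle := Nat.le_of_dvd (by norm_num) hd
    have : r = 5 ∨ r = 6 := by omega
    rcases this with h' | h'
    · rw [h'] at hd; omega
    · rw [h'] at hr; exact absurd hr (by norm_num)
  have h5 : ζ ^ 5 = 1 → r = 5 := fun h =>
    (Nat.prime_dvd_prime_iff_eq hr (by norm_num)).mp (hpow 5 h)
  rw [pow_one] at h1
  obtain ⟨w, hwdef⟩ : ∃ w : F, w = (ζ⁻¹) ^ 2 := ⟨_, rfl⟩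
  have hw : ζ * ζ * w = 1 := by rw [hwdef]; field_simp
  have hw0 : w ≠ 0 := by rw [hwdef]; exact pow_ne_zero _ (inv_ne_zero hζ0)
  have hw1 : w ≠ 1 := by
    intro h
    rw [h, mul_one, ← pow_two] at hw
    exact h2 hw
  have hwζ : w ≠ ζ := by
    intro h
    rw [h] at hw
    exact h3 (by rw [← hw]; ring)
  have hwr : w ^ r = 1 := by
    rw [hwdef, ← pow_mul, mul_comm, pow_mul, inv_pow, hζr, inv_one, one_pow]
  let d : Fin n → F := fun k => diagEntries ζ w k
  have hE : ∀ α : F, (Finset.univ.filter fun k : Fin n => d k = α).card =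
      (if ζ = α then 2 else 0) + (if w = α then 1 else 0) + (if 1 = α then n - 3 else 0) :=
    fun α => card_diagEntries hn ζ w α
  have hdet : ∏ k, d k = 1 := prod_diagEntries hn ζ w hw
  have hns : ∃ a b, d a ≠ d b := by
    refine ⟨⟨0, by omega⟩, ⟨2, by omega⟩, ?_⟩
    show diagEntries ζ w 0 ≠ diagEntries ζ w 2
    simp only [diagEntries]
    norm_num
    exact fun h => hwζ h.symm
  obtain ⟨x, hx, hxSL, hxns, hxd⟩ := slo7_diag_core n Q hQ d hdet hns (by
    intro c hc0 hpair
    have hEζ : (Finset.univ.filter fun k : Fin n => d k = ζ).card = 2 := by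
      rw [hE, if_pos rfl, if_neg hwζ, if_neg (Ne.symm h1)]
    have hEw : (Finset.univ.filter fun k : Fin n => d k = w).card = 1 := by
      rw [hE, if_neg (Ne.symm hwζ), if_pos rfl, if_neg (Ne.symm hw1)]
    have pζ := hpair ζ hζ0
    rw [hEζ, hE] at pζ
    have pw := hpair w hw0
    rw [hEw, hE] at pw
    have hcase : c = ζ * ζ ∨ (c = ζ ∧ n = 5) := by
      by_cases a : ζ = c / ζ
      · left
        rw [eq_div_iff hζ0] at a
        exact a.symm
      · rw [if_neg a] at pζ
        by_cases b : w = c / ζ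
        · have e : (1 : F) ≠ c / ζ := fun h => hw1 (b.trans h.symm)
          rw [if_pos b, if_neg e] at pζ
          omega
        · rw [if_neg b] at pζ
          by_cases e : (1 : F) = c / ζ
          · rw [if_pos e] at pζ
            right
            rw [eq_div_iff hζ0, one_mul] at e
            exact ⟨e.symm, by omega⟩
          · rw [if_neg e] at pζ
            omega
    rcases hcase with hc | ⟨hc, hn5⟩
    · have hcw : c / w = ζ ^ 4 := by
        rw [div_eq_iff hw0, hc]
        linear_combination (-(ζ ^ 2)) * hw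
      rw [hcw] at pw
      have a : ζ ≠ ζ ^ 4 := by
        intro h
        apply h3
        have : ζ * ζ ^ 3 = ζ * 1 := by rw [mul_one]; rw [← pow_succ']; exact h.symm
        exact mul_left_cancel₀ hζ0 this
      have b : w ≠ ζ ^ 4 := by
        intro h
        apply h6
        rw [h] at hw
        rw [← hw]; ring
      have e : (1 : F) ≠ ζ ^ 4 := fun h => h4 h.symm
      rw [if_neg a, if_neg b, if_neg e] at pw
      omega
    · have hcw : c / w = ζ ^ 3 := by
        rw [div_eq_iff hw0, hc]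
        linear_combination (-ζ) * hw
      rw [hcw] at pw
      have a : ζ ≠ ζ ^ 3 := by
        intro h
        apply h2
        have : ζ * ζ ^ 2 = ζ * 1 := by rw [mul_one]; rw [← pow_succ']; exact h.symm
        exact mul_left_cancel₀ hζ0 this
      have b : w ≠ ζ ^ 3 := by
        intro h
        apply hne
        refine ⟨hn5, h5 ?_⟩
        rw [h] at hw
        rw [← hw]; ring
      have e : (1 : F) ≠ ζ ^ 3 := fun h => h3 h.symm
      rw [if_neg a, if_neg b, if_neg e] at pw
      omega)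
  refine ⟨x, hxSL, ?_, hxns, hxd⟩
  apply slo7_pow_eq_one x d hx r
  intro k
  show diagEntries ζ w k ^ r = 1
  rcases diagEntries_mem ζ w k with h | h | h
  · rw [h, hζr]
  · rw [h, hwr]
  · rw [h, one_pow]

theorem derange_split_three (n : ℕ) (hn : 4 ≤ n) (hn6 : n ≠ 6) (Q : (Fin n → F) → F)
    (hQ : Cfsg.Geo.IsNondegenerateQuadraticForm Q) (hrq : 3 ∣ Fintype.card F - 1) :
    ∃ x : GL (Fin n) F, x ∈ Cfsg.Geo.specialLinear (Fin n) F ∧ x ^ 3 = 1 ∧
      (∀ z : F, (x : Matrix (Fin n) (Fin n) F) ≠ z • (1 : Matrix (Fin n) (Fin n) F)) ∧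
      ∀ g : GL (Fin n) F, g⁻¹ * x * g ∉ Cfsg.Geo.quadSimilarityGroup Q := by
  classical
  have : Fact (Nat.Prime 3) := ⟨by norm_num⟩
  obtain ⟨ζ, hζ0, hζr, hpow⟩ := slo7_exists_root (F := F) 3 hrq
  have h1 : ζ ≠ 1 := fun h => by
    have := Nat.le_of_dvd (by norm_num) (hpow 1 (by rw [pow_one, h])); omega
  have h2 : ζ * ζ ≠ 1 := fun h => by
    have := Nat.le_of_dvd (by norm_num) (hpow 2 (by rw [pow_two, h])); omega
  have hw : ζ * ζ * ζ = 1 := by rw [← hζr]; ring
  let d : Fin n → F := fun k => diagEntries ζ ζ k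
  have hE : ∀ α : F, (Finset.univ.filter fun k : Fin n => d k = α).card =
      (if ζ = α then 2 else 0) + (if ζ = α then 1 else 0) + (if 1 = α then n - 3 else 0) :=
    fun α => card_diagEntries (by omega) ζ ζ α
  have hdet : ∏ k, d k = 1 := prod_diagEntries (by omega) ζ ζ hw
  have hns : ∃ a b, d a ≠ d b := by
    refine ⟨⟨0, by omega⟩, ⟨3, by omega⟩, ?_⟩
    show diagEntries ζ ζ 0 ≠ diagEntries ζ ζ 3
    simp only [diagEntries]
    norm_num
    exact h1
  obtain ⟨x, hx, hxSL, hxns, hxd⟩ := slo7_diag_core n Q hQ d hdet hns (by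
    intro c hc0 hpair
    have pζ := hpair ζ hζ0
    rw [hE ζ, hE (c / ζ), if_pos rfl, if_pos rfl, if_neg (Ne.symm h1)] at pζ
    have p1 := hpair 1 one_ne_zero
    rw [hE 1, hE (c / 1), div_one, if_neg h1, if_neg h1, if_pos rfl] at p1
    have hc : c = ζ * ζ := by
      by_cases a : ζ = c / ζ
      · rw [eq_div_iff hζ0] at a
        exact a.symm
      · rw [if_neg a, if_neg a] at pζ
        by_cases e : (1 : F) = c / ζ
        · rw [if_pos e] at pζ
          omega
        · rw [if_neg e] at pζ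
          omega
    have a : ζ ≠ c := by
      rw [hc]
      intro h
      apply h1
      have : ζ * 1 = ζ * ζ := by rw [mul_one]; exact h
      exact (mul_left_cancel₀ hζ0 this).symm
    have e : (1 : F) ≠ c := by
      rw [hc]; exact fun h => h2 h.symm
    rw [if_neg a, if_neg a, if_neg e] at p1
    omega)
  refine ⟨x, hxSL, ?_, hxns, hxd⟩
  apply slo7_pow_eq_one x d hx 3
  intro k
  show diagEntries ζ ζ k ^ 3 = 1
  rcases diagEntries_mem ζ ζ k with h | h | h
  · rw [h, hζr]
  · rw [h, hζr]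
  · rw [h, one_pow]

end gen

section sq

/-- the diagonal entries `a, b, …, b` -/
def sqEntries (a b : F) (j : ℕ) : F := if j = 0 then a else b

omit [Field F] in
theorem card_sqEntries [DecidableEq F] {n : ℕ} (hn : 1 ≤ n) (a b α : F) :
    (Finset.univ.filter fun k : Fin n => sqEntries a b k = α).card =
      (if a = α then 1 else 0) + (if b = α then n - 1 else 0) := by
  rw [Finset.card_filter,
    Fin.sum_univ_eq_sum_range (fun j => if sqEntries a b j = α then 1 else 0) n]
  obtain ⟨m, rfl⟩ : ∃ m, n = 1 + m := ⟨n - 1, by omega⟩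
  rw [Finset.sum_range_add, Finset.sum_range_one]
  have h1 : ∀ x, sqEntries a b (1 + x) = b := by
    intro x
    unfold sqEntries
    rw [if_neg (by omega)]
  simp only [h1]
  have h2 : sqEntries a b 0 = a := by unfold sqEntries; simp
  rw [h2, Finset.sum_const, Finset.card_range, Nat.add_sub_cancel_left]
  split_ifs <;> simp

theorem prod_sqEntries {n : ℕ} (hn : 1 ≤ n) (a b : F) :
    ∏ k : Fin n, sqEntries a b k = a * b ^ (n - 1) := by
  rw [Fin.prod_univ_eq_prod_range (fun j => sqEntries a b j) n]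
  obtain ⟨m, rfl⟩ : ∃ m, n = 1 + m := ⟨n - 1, by omega⟩
  rw [Finset.prod_range_add, Finset.prod_range_one]
  have h1 : ∀ x, sqEntries a b (1 + x) = b := by
    intro x
    unfold sqEntries
    rw [if_neg (by omega)]
  simp only [h1]
  have h2 : sqEntries a b 0 = a := by unfold sqEntries; simp
  rw [h2, Finset.prod_const, Finset.card_range, Nat.add_sub_cancel_left]

omit [Field F] in
theorem sqEntries_mem (a b : F) (j : ℕ) : sqEntries a b j = a ∨ sqEntries a b j = b := by
  unfold sqEntries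
  split_ifs
  · exact Or.inl rfl
  · exact Or.inr rfl

variable [Fintype F]

/-- `μ` of order `r²` gives `lam := μ⁻¹`, `ζ := μ ^ r` with `lam ^ r = ζ⁻¹` and `ζ` of order `r` -/
theorem slo7_exists_root_sq (r : ℕ) [Fact r.Prime] (hrq : r ^ 2 ∣ Fintype.card F - 1) :
    ∃ ζ lam : F, ζ ≠ 0 ∧ lam ≠ 0 ∧ ζ ^ r = 1 ∧ lam ^ r * ζ = 1 ∧ ∀ k, ζ ^ k = 1 → r ∣ k := by
  classical
  have hr : r.Prime := Fact.out
  obtain ⟨g, hg⟩ : ∃ g : Fˣ, orderOf g = Nat.card Fˣ :=
    isCyclic_iff_exists_orderOf_eq_natCard.mp inferInstance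
  rw [Nat.card_eq_fintype_card, Fintype.card_units] at hg
  obtain ⟨m, hm⟩ := hrq
  have hm0 : m ≠ 0 := by
    rintro rfl
    rw [mul_zero] at hm
    rw [hm] at hg
    exact (orderOf_pos g).ne' hg
  have hμ : orderOf (g ^ m) = r ^ 2 := by
    rw [orderOf_pow_of_dvd hm0 (by rw [hg, hm]; exact Dvd.intro_left _ rfl), hg, hm]
    exact Nat.mul_div_cancel _ (Nat.pos_of_ne_zero hm0)
  set μ : Fˣ := g ^ m with hμdef
  have hζord : orderOf (μ ^ r) = r := by
    rw [orderOf_pow_of_dvd hr.ne_zero (by rw [hμ, pow_two]; exact Dvd.intro_left _ rfl), hμ,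
      pow_two]
    exact Nat.mul_div_cancel _ hr.pos
  have hord : orderOf (((μ ^ r : Fˣ) : F)) = r := orderOf_units.trans hζord
  refine ⟨((μ ^ r : Fˣ) : F), ((μ⁻¹ : Fˣ) : F), (μ ^ r).ne_zero, (μ⁻¹).ne_zero, ?_, ?_, ?_⟩
  · have := pow_orderOf_eq_one (((μ ^ r : Fˣ) : F))
    rwa [hord] at this
  · rw [← Units.val_pow_eq_pow_val, ← Units.val_mul, inv_pow, inv_mul_cancel, Units.val_one]
  · intro k hk
    have := orderOf_dvd_of_pow_eq_one hk
    rwa [hord] at this

theorem derange_split_sq (r : ℕ) [Fact r.Prime] (hr2 : r ≠ 2) (Q : (Fin r → F) → F)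
    (hQ : Cfsg.Geo.IsNondegenerateQuadraticForm Q) (hrq : r ^ 2 ∣ Fintype.card F - 1) :
    ∃ x : GL (Fin r) F, x ∈ Cfsg.Geo.specialLinear (Fin r) F ∧
      (∃ z : F, ((x ^ r : GL (Fin r) F) : Matrix (Fin r) (Fin r) F) =
        z • (1 : Matrix (Fin r) (Fin r) F)) ∧
      (∀ z : F, (x : Matrix (Fin r) (Fin r) F) ≠ z • (1 : Matrix (Fin r) (Fin r) F)) ∧
      ∀ g : GL (Fin r) F, g⁻¹ * x * g ∉ Cfsg.Geo.quadSimilarityGroup Q := by
  classical
  have hr : r.Prime := Fact.out
  have hr3 : 3 ≤ r := by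
    have := hr.two_le
    omega
  obtain ⟨ζ, lam, hζ0, hl0, hζr, hlr, hpow⟩ := slo7_exists_root_sq (F := F) r hrq
  have h1 : ζ ≠ 1 := fun h => by
    have := Nat.le_of_dvd (by norm_num) (hpow 1 (by rw [pow_one, h])); omega
  have h2 : ζ * ζ ≠ 1 := fun h => by
    have := Nat.le_of_dvd (by norm_num) (hpow 2 (by rw [pow_two, h])); omega
  have hab : lam * ζ ≠ lam := by
    intro h
    apply h1
    have : lam * ζ = lam * 1 := by rw [mul_one]; exact h
    exact mul_left_cancel₀ hl0 this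
  let d : Fin r → F := fun k => sqEntries (lam * ζ) lam k
  have hE : ∀ α : F, (Finset.univ.filter fun k : Fin r => d k = α).card =
      (if lam * ζ = α then 1 else 0) + (if lam = α then r - 1 else 0) :=
    fun α => card_sqEntries (by omega) (lam * ζ) lam α
  have hdet : ∏ k, d k = 1 := by
    have := prod_sqEntries (n := r) (by omega) (lam * ζ) lam
    rw [this, ← hlr]
    have e : lam ^ r = lam ^ (r - 1) * lam := by
      rw [← pow_succ]
      congr 1
      omega
    rw [e]
    ring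
  have hns : ∃ a b, d a ≠ d b := by
    refine ⟨⟨0, by omega⟩, ⟨1, by omega⟩, ?_⟩
    show sqEntries (lam * ζ) lam 0 ≠ sqEntries (lam * ζ) lam 1
    simp only [sqEntries]
    norm_num
    exact hab
  obtain ⟨x, hx, hxSL, hxns, hxd⟩ := slo7_diag_core r Q hQ d hdet hns (by
    intro c hc0 hpair
    have hlζ0 : lam * ζ ≠ 0 := mul_ne_zero hl0 hζ0
    have pl := hpair lam hl0
    rw [hE lam, hE (c / lam), if_neg hab, if_pos rfl] at pl
    have pz := hpair (lam * ζ) hlζ0
    rw [hE (lam * ζ), hE (c / (lam * ζ)), if_pos rfl, if_neg (Ne.symm hab)] at pz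
    have hc : c = lam * lam := by
      by_cases b : lam = c / lam
      · rw [eq_div_iff hl0] at b
        exact b.symm
      · rw [if_neg b] at pl
        by_cases a : lam * ζ = c / lam
        · rw [if_pos a] at pl
          omega
        · rw [if_neg a] at pl
          omega
    have hcz : c / (lam * ζ) = lam / ζ := by
      rw [hc, div_eq_div_iff hlζ0 hζ0]
      ring
    rw [hcz] at pz
    have a : lam * ζ ≠ lam / ζ := by
      intro h
      apply h2
      rw [eq_div_iff hζ0] at h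
      have : lam * (ζ * ζ) = lam * 1 := by rw [mul_one, ← mul_assoc]; exact h
      exact mul_left_cancel₀ hl0 this
    have b : lam ≠ lam / ζ := by
      intro h
      apply hab
      rw [eq_div_iff hζ0] at h
      exact h
    rw [if_neg a, if_neg b] at pz
    omega)
  refine ⟨x, hxSL, ⟨ζ⁻¹, ?_⟩, hxns, hxd⟩
  rw [slo7_pow_diag x d hx r]
  have hlr' : lam ^ r = ζ⁻¹ := eq_inv_of_mul_eq_one_left hlr
  have : (fun k => d k ^ r) = fun _ : Fin r => ζ⁻¹ := by
    funext k
    show sqEntries (lam * ζ) lam k ^ r = ζ⁻¹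
    rcases sqEntries_mem (lam * ζ) lam k with h | h
    · rw [h, mul_pow, hζr, mul_one, hlr']
    · rw [h, hlr']
  rw [this]
  ext i j
  by_cases hij : i = j
  · subst hij; simp
  · simp [hij]

end sq

end Cfsg.Agent.Lib.Helper42.SLO
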