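import Mathlib
import Cfsg.Agent.Lib.Helper05.A10Defs

/-!
# K-A10 leaf A1 (keystone 348901, pack of S3489, architect helper5)

`spec ⊆ Set.range (orderOf : alternatingGroup (Fin 10) → ℕ)`: thirteen explicit even permutations of `Fin 10`
with orders `1, …, 10, 12, 15, 21`.
-/

set_option autoImplicit false

namespace Cfsg.Agent.Lib.Helper42.A10Iso

open Matrix Cfsg.Agent.Lib.Helper05.A10Iso

/-- the cycle on a list of points of `Fin 10` -/
abbrev cy (l : List (Fin 10)) : Equiv.Perm (Fin 10) := l.formPerm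

/-- order of an explicit permutation, by brute force -/
theorem orderOf_eq_of_dec (σ : Equiv.Perm (Fin 10)) (n : ℕ) (hn : 0 < n)
    (h : σ ^ n = 1 ∧ ∀ m, m < n → 0 < m → σ ^ m ≠ 1) : orderOf σ = n :=
  (orderOf_eq_iff hn).2 h

/-- an even permutation of order `n` gives `n` in the range -/
theorem mem_range_of (σ : Equiv.Perm (Fin 10)) (n : ℕ) (hn : 0 < n)
    (hs : Equiv.Perm.sign σ = 1)
    (h : σ ^ n = 1 ∧ ∀ m, m < n → 0 < m → σ ^ m ≠ 1) :
    n ∈ Set.range (orderOf : alternatingGroup (Fin 10) → ℕ) :=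
  ⟨⟨σ, Equiv.Perm.mem_alternatingGroup.2 hs⟩, by
    rw [Subgroup.orderOf_mk]; exact orderOf_eq_of_dec σ n hn h⟩

theorem spec_subset_alt10 : spec ⊆ Set.range (orderOf : alternatingGroup (Fin 10) → ℕ) := by
  intro n hn
  simp only [spec, Set.mem_insert_iff, Set.mem_singleton_iff] at hn
  rcases hn with rfl | rfl | rfl | rfl | rfl | rfl | rfl | rfl | rfl | rfl | rfl | rfl | rfl
  · exact ⟨1, orderOf_one⟩
  · exact mem_range_of (cy [0, 1] * cy [2, 3]) 2 (by norm_num) (by decide +kernel) (by decide +kernel)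
  · exact mem_range_of (cy [0, 1, 2]) 3 (by norm_num) (by decide +kernel) (by decide +kernel)
  · exact mem_range_of (cy [0, 1, 2, 3] * cy [4, 5]) 4 (by norm_num) (by decide +kernel) (by decide +kernel)
  · exact mem_range_of (cy [0, 1, 2, 3, 4]) 5 (by norm_num) (by decide +kernel) (by decide +kernel)
  · exact mem_range_of (cy [0, 1, 2] * cy [3, 4] * cy [5, 6]) 6 (by norm_num) (by decide +kernel) (by decide +kernel)
  · exact mem_range_of (cy [0, 1, 2, 3, 4, 5, 6]) 7 (by norm_num) (by decide +kernel) (by decide +kernel)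
  · exact mem_range_of (cy [0, 1, 2, 3, 4, 5, 6, 7] * cy [8, 9]) 8 (by norm_num) (by decide +kernel) (by decide +kernel)
  · exact mem_range_of (cy [0, 1, 2, 3, 4, 5, 6, 7, 8]) 9 (by norm_num) (by decide +kernel) (by decide +kernel)
  · exact mem_range_of (cy [0, 1, 2, 3, 4] * cy [5, 6] * cy [7, 8]) 10 (by norm_num) (by decide +kernel) (by decide +kernel)
  · exact mem_range_of (cy [0, 1, 2, 3] * cy [4, 5, 6] * cy [7, 8]) 12 (by norm_num) (by decide +kernel) (by decide +kernel)
  · exact mem_range_of (cy [0, 1, 2, 3, 4] * cy [5, 6, 7]) 15 (by norm_num) (by decide +kernel) (by decide +kernel)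
  · exact mem_range_of (cy [0, 1, 2, 3, 4, 5, 6] * cy [7, 8, 9]) 21 (by norm_num) (by decide +kernel) (by decide +kernel)

end Cfsg.Agent.Lib.Helper42.A10Iso
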