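import Mathlib
import Cfsg.Agent.Lib.Helper70.AGDefs

/-!
# Keystone K-4188-A5 (S4188 pack, architect helper70): geometry of a normal four-group
-/

set_option autoImplicit false

namespace Cfsg.Agent.Lib.Helper42.AG

open Cfsg.Agent.Lib.Helper70.AG

/-- in a group of odd order, `v = v⁻¹` forces `v = 1` -/
theorem a5_eq_one_of_eq_inv_of_odd {V : Type*} [CommGroup V] [Finite V] (hodd : Odd (Nat.card V))
    {v : V} (h : v = v⁻¹) : v = 1 := by
  have h2 : v ^ 2 = 1 := by
    rw [pow_two]
    nth_rewrite 2 [h]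
    exact mul_inv_cancel v
  have hd : orderOf v ∣ 2 := orderOf_dvd_of_pow_eq_one h2
  have hd' : orderOf v ∣ Nat.card V := orderOf_dvd_natCard v
  have h12 : orderOf v = 1 ∨ orderOf v = 2 := by
    have := (Nat.dvd_prime Nat.prime_two).mp hd
    exact this
  rcases h12 with h1 | h2'
  · exact orderOf_eq_one_iff.mp h1
  · exfalso
    rw [h2'] at hd'
    exact (Nat.not_even_iff_odd.mpr hodd) (even_iff_two_dvd.mpr hd')

/-- every element of a group of odd order is a square -/
theorem a5_exists_sq_of_odd {V : Type*} [CommGroup V] [Finite V] (hodd : Odd (Nat.card V)) (v : V) :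
    ∃ w : V, w ^ 2 = v := by
  obtain ⟨k, hk⟩ := hodd
  refine ⟨v ^ (k + 1), ?_⟩
  rw [← pow_mul]
  have : (k + 1) * 2 = Nat.card V + 1 := by omega
  rw [this, pow_succ, pow_card_eq_one', one_mul]

theorem caseB_geometry {V : Type*} [CommGroup V] [Finite V] (hodd : Odd (Nat.card V))
    (Q : Subgroup (MulAut V))
    (hirr : ∀ W : Subgroup V, IsInv Q W → W = ⊥ ∨ W = ⊤)
    (z u : ↥Q) (hz1 : z ≠ 1) (hz2 : z ^ 2 = 1) (hzc : z ∈ Subgroup.center ↥Q)
    (hu1 : u ≠ 1) (hu2 : u ^ 2 = 1) (huz : u ≠ z)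
    (hconj : ∀ s : ↥Q, s * u * s⁻¹ = u ∨ s * u * s⁻¹ = u * z) :
    (Subgroup.centralizer ({u} : Set ↥Q)).index = 2 ∧
    fixedSub (u : MulAut V) ⊓ fixedSub ((u * z : ↥Q) : MulAut V) = ⊥ ∧
    fixedSub (u : MulAut V) ⊔ fixedSub ((u * z : ↥Q) : MulAut V) = ⊤ ∧
    (∀ m ∈ Subgroup.centralizer ({u} : Set ↥Q), ∀ v ∈ fixedSub (u : MulAut V),
      (m : MulAut V) v ∈ fixedSub (u : MulAut V)) ∧
    (∀ m ∈ Subgroup.centralizer ({u} : Set ↥Q), ∀ v ∈ fixedSub ((u * z : ↥Q) : MulAut V),
      (m : MulAut V) v ∈ fixedSub ((u * z : ↥Q) : MulAut V)) ∧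
    Nat.card ↥(fixedSub (u : MulAut V)) = Nat.card ↥(fixedSub ((u * z : ↥Q) : MulAut V)) ∧
    fixedSub (u : MulAut V) ≠ ⊥ := by
  -- applying equalities in `Q` to vectors
  have happ : ∀ a b : ↥Q, a = b → ∀ v : V, (a : MulAut V) v = (b : MulAut V) v := by
    intro a b hab v; rw [hab]
  have hzz : ∀ v : V, (z : MulAut V) ((z : MulAut V) v) = v := by
    intro v
    have := happ (z * z) 1 (by rw [← pow_two, hz2]) v
    simpa using this
  have huu : ∀ v : V, (u : MulAut V) ((u : MulAut V) v) = v := by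
    intro v
    have := happ (u * u) 1 (by rw [← pow_two, hu2]) v
    simpa using this
  have hzcomm : ∀ q : ↥Q, ∀ v : V,
      (z : MulAut V) ((q : MulAut V) v) = (q : MulAut V) ((z : MulAut V) v) := by
    intro q v
    have h := Subgroup.mem_center_iff.mp hzc q
    have := happ (z * q) (q * z) h.symm v
    simpa using this
  -- Step 1: `z` inverts `V`
  have hfz : fixedSub (z : MulAut V) = ⊥ := by
    have hinv : IsInv Q (fixedSub (z : MulAut V)) := by
      intro q hq w hw
      rw [mem_fixedSub] at hw ⊢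
      have := hzcomm ⟨q, hq⟩ w
      simp only at this
      rw [this, hw]
    rcases hirr _ hinv with h | h
    · exact h
    · exfalso
      apply hz1
      apply Subtype.ext
      apply MulEquiv.ext
      intro v
      have hv : v ∈ fixedSub (z : MulAut V) := by rw [h]; trivial
      have := mem_fixedSub.mp hv
      simpa using this
  have hzinv : ∀ v : V, (z : MulAut V) v = v⁻¹ := by
    intro v
    have hmem : v * (z : MulAut V) v ∈ fixedSub (z : MulAut V) := by
      rw [mem_fixedSub, map_mul, hzz, mul_comm]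
    rw [hfz, Subgroup.mem_bot] at hmem
    exact eq_inv_of_mul_eq_one_right hmem
  have huzv : ∀ v : V, ((u * z : ↥Q) : MulAut V) v = ((u : MulAut V) v)⁻¹ := by
    intro v
    rw [Subgroup.coe_mul, MulAut.mul_apply, hzinv, map_inv]
  have hmemuz : ∀ v : V, v ∈ fixedSub ((u * z : ↥Q) : MulAut V) ↔ (u : MulAut V) v = v⁻¹ := by
    intro v
    rw [mem_fixedSub, huzv, inv_eq_iff_eq_inv]
  -- (b)
  have hb : fixedSub (u : MulAut V) ⊓ fixedSub ((u * z : ↥Q) : MulAut V) = ⊥ := by
    rw [eq_bot_iff]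
    intro v hv
    rw [Subgroup.mem_inf] at hv
    rw [Subgroup.mem_bot]
    have h1 := mem_fixedSub.mp hv.1
    have h2 := (hmemuz v).mp hv.2
    exact a5_eq_one_of_eq_inv_of_odd hodd (h1.symm.trans h2)
  -- (c)
  have hc : fixedSub (u : MulAut V) ⊔ fixedSub ((u * z : ↥Q) : MulAut V) = ⊤ := by
    rw [eq_top_iff]
    intro v _
    obtain ⟨w, rfl⟩ := a5_exists_sq_of_odd hodd v
    have ha : w * (u : MulAut V) w ∈ fixedSub (u : MulAut V) := by
      rw [mem_fixedSub, map_mul, huu, mul_comm]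
    have hb' : w * ((u : MulAut V) w)⁻¹ ∈ fixedSub ((u * z : ↥Q) : MulAut V) := by
      rw [hmemuz, map_mul, map_inv, huu, mul_inv, inv_inv]
      exact mul_comm _ _
    have : w ^ 2 = (w * (u : MulAut V) w) * (w * ((u : MulAut V) w)⁻¹) := by
      rw [pow_two, mul_mul_mul_comm, mul_inv_cancel, mul_one]
    rw [this]
    exact Subgroup.mul_mem_sup ha hb'
  -- centralizer membership
  have hcent : ∀ m : ↥Q, m ∈ Subgroup.centralizer ({u} : Set ↥Q) ↔ u * m = m * u := by
    intro m
    rw [Subgroup.mem_centralizer_iff]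
    constructor
    · intro h; exact h u rfl
    · intro h x hx
      rw [Set.mem_singleton_iff] at hx
      rw [hx]; exact h
  -- (d)
  have hd : ∀ m ∈ Subgroup.centralizer ({u} : Set ↥Q), ∀ v ∈ fixedSub (u : MulAut V),
      (m : MulAut V) v ∈ fixedSub (u : MulAut V) := by
    intro m hm v hv
    rw [mem_fixedSub] at hv ⊢
    have hmu := (hcent m).mp hm
    have := happ (u * m) (m * u) hmu v
    simp only [Subgroup.coe_mul, MulAut.mul_apply] at this
    rw [this, hv]
  -- (e)
  have he : ∀ m ∈ Subgroup.centralizer ({u} : Set ↥Q),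
      ∀ v ∈ fixedSub ((u * z : ↥Q) : MulAut V),
      (m : MulAut V) v ∈ fixedSub ((u * z : ↥Q) : MulAut V) := by
    intro m hm v hv
    rw [hmemuz] at hv ⊢
    have hmu := (hcent m).mp hm
    have := happ (u * m) (m * u) hmu v
    simp only [Subgroup.coe_mul, MulAut.mul_apply] at this
    rw [this, hv, map_inv]
  -- (g)
  have hg : fixedSub (u : MulAut V) ≠ ⊥ := by
    intro h
    rw [h, bot_sup_eq] at hc
    apply huz
    apply Subtype.ext
    apply MulEquiv.ext
    intro v
    have hv : v ∈ fixedSub ((u * z : ↥Q) : MulAut V) := by rw [hc]; trivial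
    rw [hmemuz] at hv
    rw [hv, hzinv]
  -- existence of `s₀`
  have hs0 : ∃ s₀ : ↥Q, s₀ * u * s₀⁻¹ = u * z := by
    by_contra hne
    push Not at hne
    have hall : ∀ s : ↥Q, s * u * s⁻¹ = u := fun s => (hconj s).resolve_right (hne s)
    have hinv : IsInv Q (fixedSub (u : MulAut V)) := by
      intro q hq w hw
      rw [mem_fixedSub] at hw ⊢
      have h1 : u * ⟨q, hq⟩ = ⟨q, hq⟩ * u := by
        have := hall ⟨q, hq⟩
        calc u * ⟨q, hq⟩ = (⟨q, hq⟩ * u * (⟨q, hq⟩ : ↥Q)⁻¹) * ⟨q, hq⟩ := by rw [this]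
          _ = ⟨q, hq⟩ * u := by group
      have := happ _ _ h1 w
      simp only [Subgroup.coe_mul, MulAut.mul_apply] at this
      rw [this, hw]
    rcases hirr _ hinv with h | h
    · exact hg h
    · apply hu1
      apply Subtype.ext
      apply MulEquiv.ext
      intro v
      have hv : v ∈ fixedSub (u : MulAut V) := by rw [h]; trivial
      have := mem_fixedSub.mp hv
      simpa using this
  obtain ⟨s₀, hs₀⟩ := hs0
  have hz_inv : z⁻¹ = z := by
    rw [inv_eq_iff_mul_eq_one, ← pow_two, hz2]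
  have hzne : u * z ≠ u := by
    intro h
    apply hz1
    have : u * z = u * 1 := by rw [h, mul_one]
    exact mul_left_cancel this
  -- `s₀` conjugates `u z` back to `u`
  have hs₀' : s₀ * (u * z) * s₀⁻¹ = u := by
    have hzs : s₀ * z = z * s₀ := Subgroup.mem_center_iff.mp hzc s₀
    calc s₀ * (u * z) * s₀⁻¹ = (s₀ * u * s₀⁻¹) * (s₀ * z * s₀⁻¹) := by group
      _ = (u * z) * (z * s₀ * s₀⁻¹) := by rw [hs₀, hzs]
      _ = u * (z * z) := by group
      _ = u := by rw [← pow_two, hz2, mul_one]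
  -- (f)
  have hf : Nat.card ↥(fixedSub (u : MulAut V)) =
      Nat.card ↥(fixedSub ((u * z : ↥Q) : MulAut V)) := by
    have h1 : ∀ v ∈ fixedSub (u : MulAut V),
        (s₀ : MulAut V) v ∈ fixedSub ((u * z : ↥Q) : MulAut V) := by
      intro v hv
      rw [mem_fixedSub] at hv ⊢
      have h := happ ((u * z) * s₀) (s₀ * u) (by rw [← hs₀]; group) v
      simp only [Subgroup.coe_mul, MulAut.mul_apply] at h ⊢
      rw [h, hv]
    have h2 : ∀ w ∈ fixedSub ((u * z : ↥Q) : MulAut V),
        ((s₀⁻¹ : ↥Q) : MulAut V) w ∈ fixedSub (u : MulAut V) := by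
      intro w hw
      rw [mem_fixedSub] at hw ⊢
      have h := happ (u * s₀⁻¹) (s₀⁻¹ * (u * z)) (by rw [← hs₀]; group) w
      simp only [Subgroup.coe_mul, MulAut.mul_apply] at h ⊢
      rw [h]
      have hw' : (u : MulAut V) ((z : MulAut V) w) = w := by
        simpa [Subgroup.coe_mul, MulAut.mul_apply] using hw
      rw [hw']
    refine Nat.card_congr
      { toFun := fun v => ⟨(s₀ : MulAut V) v.1, h1 v.1 v.2⟩
        invFun := fun w => ⟨((s₀⁻¹ : ↥Q) : MulAut V) w.1, h2 w.1 w.2⟩
        left_inv := ?_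
        right_inv := ?_ }
    · intro v
      apply Subtype.ext
      simp
    · intro w
      apply Subtype.ext
      simp
  -- (a)
  have ha : (Subgroup.centralizer ({u} : Set ↥Q)).index = 2 := by
    rw [Subgroup.index_eq_two_iff_exists_notMem_and]
    refine ⟨s₀, ?_, ?_⟩
    · intro hmem
      have h := (hcent s₀).mp hmem
      apply hzne
      rw [← hs₀, ← h]
      group
    · intro b
      by_cases hbc : b ∈ Subgroup.centralizer ({u} : Set ↥Q)
      · exact Or.inr hbc
      · left
        rw [hcent] at hbc ⊢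
        have hb1 : b * u * b⁻¹ = u * z := by
          rcases hconj b with h | h
          · exfalso
            apply hbc
            calc u * b = (b * u * b⁻¹) * b := by rw [h]
              _ = b * u := by group
          · exact h
        have hzb : b * z = z * b := Subgroup.mem_center_iff.mp hzc b
        -- (b s₀) u (b s₀)⁻¹ = b (u z) b⁻¹ = (u z) z = u
        have hkey : (b * s₀) * u * (b * s₀)⁻¹ = u := by
          calc (b * s₀) * u * (b * s₀)⁻¹ = b * (s₀ * u * s₀⁻¹) * b⁻¹ := by group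
            _ = (b * u * b⁻¹) * (b * z * b⁻¹) := by rw [hs₀]; group
            _ = (u * z) * (z * b * b⁻¹) := by rw [hb1, hzb]
            _ = u * (z * z) := by group
            _ = u := by rw [← pow_two, hz2, mul_one]
        calc u * (b * s₀) = ((b * s₀) * u * (b * s₀)⁻¹) * (b * s₀) := by rw [hkey]
          _ = (b * s₀) * u := by group
  exact ⟨ha, hb, hc, hd, he, hf, hg⟩

end Cfsg.Agent.Lib.Helper42.AG
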