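import Mathlib

/-!
# Keystone K-4188-A9 (S4188 pack, architect helper70)

Automorphisms of a group of prime order commute.
-/

set_option autoImplicit false

namespace Cfsg.Agent.Lib.Helper42.AG

theorem mulAut_comm_of_card_prime {W : Type*} [Group W] [Finite W] (h : (Nat.card W).Prime) (f g : MulAut W) :
    f * g = g * f := by
  haveI : Fact (Nat.card W).Prime := ⟨h⟩
  haveI : IsCyclic W := isCyclic_of_prime_card rfl
  obtain ⟨w, hw⟩ := IsCyclic.exists_generator (α := W)
  obtain ⟨a, ha⟩ := Subgroup.mem_zpowers_iff.mp (hw (f w))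
  obtain ⟨b, hb⟩ := Subgroup.mem_zpowers_iff.mp (hw (g w))
  ext x
  obtain ⟨k, rfl⟩ := Subgroup.mem_zpowers_iff.mp (hw x)
  have h1 : f (g w) = w ^ (a * b) := by
    rw [← hb, map_zpow, ← ha, ← zpow_mul]
  have h2 : g (f w) = w ^ (a * b) := by
    rw [← ha, map_zpow, ← hb, ← zpow_mul, mul_comm]
  simp only [MulAut.mul_apply, map_zpow]
  rw [h1, h2]

end Cfsg.Agent.Lib.Helper42.AG
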