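import Mathlib.GroupTheory.Transfer
import Mathlib.GroupTheory.Sylow
import Mathlib.GroupTheory.Index
import Mathlib.GroupTheory.PGroup

set_option autoImplicit false
set_option linter.style.haveILetI false
set_option linter.unusedSectionVars false

namespace Cfsg.Agent.Lib.Helper42
open scoped IsMulCommutative

/-- A nontrivial homomorphism to a finite `p`-group yields a subgroup of index `p`. -/
theorem exists_index_eq_prime_of_hom_ne_one {G A : Type*} [Group G] [Group A] [Finite A]
    (p : ℕ) [Fact p.Prime] (hA : IsPGroup p A) (f : G →* A) (hf : ∃ g, f g ≠ 1) :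
    ∃ H : Subgroup G, H.index = p := by
  have hp : p.Prime := Fact.out
  have hK : IsPGroup p f.range := hA.to_subgroup _
  obtain ⟨k, hk⟩ := IsPGroup.iff_card.mp hK
  have hk0 : k ≠ 0 := by
    rintro rfl
    rw [pow_zero, Subgroup.card_eq_one] at hk
    obtain ⟨g, hg⟩ := hf
    apply hg
    have : f g ∈ f.range := ⟨g, rfl⟩
    rw [hk] at this
    exact Subgroup.mem_bot.mp this
  obtain ⟨K₀, hK₀⟩ := Sylow.exists_subgroup_card_pow_prime (G := f.range) p (n := k - 1)
    (by rw [hk]; exact pow_dvd_pow p (Nat.sub_le k 1))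
  refine ⟨K₀.comap f.rangeRestrict, ?_⟩
  rw [Subgroup.index_comap_of_surjective _ f.rangeRestrict_surjective]
  have h1 := K₀.card_mul_index
  rw [hK₀, hk] at h1
  have h2 : p ^ k = p ^ (k - 1) * p := by
    rw [← pow_succ]; congr 1; omega
  rw [h2] at h1
  exact Nat.eq_of_mul_eq_mul_left (pow_pos hp.pos _) h1

/-- If a nontrivial element of an abelian Sylow `p`-subgroup is central in its normalizer,
then `G` has a subgroup of index `p` (transfer). -/
theorem exists_index_eq_prime_of_central {G : Type*} [Group G] [Finite G] {p : ℕ} [Fact p.Prime]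
    (S : Sylow p G) [IsMulCommutative (S : Subgroup G)] (z : G) (hz : z ∈ (S : Subgroup G))
    (hz1 : z ≠ 1)
    (hzN : ∀ n ∈ Subgroup.normalizer ((S : Subgroup G) : Set G), n * z = z * n) :
    ∃ H : Subgroup G, H.index = p := by
  have hp : p.Prime := Fact.out
  have key : ∀ (k : ℕ) (g₀ : G), g₀⁻¹ * z ^ k * g₀ ∈ (S : Subgroup G) →
      g₀⁻¹ * z ^ k * g₀ = z ^ k := by
    intro k g₀ h
    obtain ⟨n, hn, hconj⟩ := S.conj_eq_normalizer_conj_of_mem (z ^ k) g₀
      (Subgroup.pow_mem _ hz k) h
    rw [hconj]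
    have hc : Commute n z := hzN n hn
    have : n * z ^ k = z ^ k * n := (hc.pow_right k).eq
    calc n⁻¹ * z ^ k * n = n⁻¹ * (z ^ k * n) := by group
      _ = n⁻¹ * (n * z ^ k) := by rw [this]
      _ = z ^ k := by group
  have htr := MonoidHom.transfer_eq_pow (H := (S : Subgroup G)) (MonoidHom.id (S : Subgroup G)) z key
  apply exists_index_eq_prime_of_hom_ne_one p (S.2 : IsPGroup p (S : Subgroup G))
    (MonoidHom.transfer (H := (S : Subgroup G)) (MonoidHom.id (S : Subgroup G)))
  refine ⟨z, ?_⟩
  rw [htr]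
  intro h1
  have h2 : z ^ (S : Subgroup G).index = 1 := by
    have := congrArg Subtype.val h1
    simpa using this
  have h3 : orderOf z ∣ (S : Subgroup G).index := orderOf_dvd_of_pow_eq_one h2
  obtain ⟨k, hk⟩ := (S.2 ⟨z, hz⟩)
  have h4 : orderOf z ∣ p ^ k := by
    apply orderOf_dvd_of_pow_eq_one
    have := congrArg Subtype.val hk
    simpa using this
  obtain ⟨m, -, hm⟩ := (Nat.dvd_prime_pow hp).mp h4
  rcases Nat.eq_zero_or_pos m with h0 | hpos
  · rw [h0, pow_zero, orderOf_eq_one_iff] at hm
    exact hz1 hm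
  · apply S.not_dvd_index
    refine dvd_trans ?_ h3
    rw [hm]
    exact dvd_pow_self p hpos.ne'

/-- Parity of a product of elements outside a subgroup of index two. -/
theorem prod_mem_iff_even {ι A : Type*} [CommGroup A] (H : Subgroup A) (hH : H.index = 2)
    (O : Finset ι) (f : ι → A) (hO : ∀ x ∈ O, f x ∉ H) : (∏ x ∈ O, f x) ∈ H ↔ Even O.card := by
  classical
  induction O using Finset.induction_on with
  | empty => simp
  | insert a s ha ih =>
    rw [Finset.prod_insert ha, Finset.card_insert_of_notMem ha,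
      Subgroup.mul_mem_iff_of_index_two hH, ih (fun x hx => hO x (Finset.mem_insert_of_mem hx)),
      Nat.even_add_one]
    have : f a ∉ H := hO a (Finset.mem_insert_self a s)
    tauto

end Cfsg.Agent.Lib.Helper42
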