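import Cfsg.Agent.Lib.Helper45.AltFreeDefs

/-!
# K-S2276-G (keystone 227604, architect helper45): the gadget `l.formPerm * y⁻¹` is a full cycle
-/

set_option autoImplicit false
set_option linter.unusedSectionVars false
set_option linter.unusedVariables false

namespace Cfsg.Agent.Lib.Helper42.AltFree

open Equiv Equiv.Perm Cfsg.Agent.Lib.Helper45.AltFree

variable {α : Type*} [Fintype α] [DecidableEq α]
variable {β : Type*} [Fintype β] [DecidableEq β]

/-- all points lie in one cycle of the gadget -/
theorem gadget_sameCycle (y : Perm β) (l : List β) (hl : l.Nodup)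
    (hcov : ∀ x, ∃ r ∈ l, y.SameCycle r x)
    (huniq : ∀ r ∈ l, ∀ r' ∈ l, y.SameCycle r r' → r = r') :
    ∀ x z, (l.formPerm * y⁻¹).SameCycle x z := by
  set c₀ := l.formPerm * y⁻¹ with hc₀
  have hc₀app : ∀ x, c₀ x = l.formPerm (y⁻¹ x) := fun x => rfl
  -- (A) c₀ runs backwards through the y-cycle of a representative
  have hA : ∀ r ∈ l, ∀ j : ℕ, c₀.SameCycle r ((y⁻¹ ^ j) r) := by
    intro r hr j
    induction j with
    | zero => exact SameCycle.refl _ _
    | succ j ih =>
      by_cases hmem : (y⁻¹ ^ (j + 1)) r ∈ l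
      · have hsc : y.SameCycle r ((y⁻¹ ^ (j + 1)) r) :=
          sameCycle_inv.mp (sameCycle_pow_right.mpr (SameCycle.refl _ _))
        have : (y⁻¹ ^ (j + 1)) r = r := (huniq r hr _ hmem hsc).symm
        rw [this]
      · have h1 : c₀ ((y⁻¹ ^ j) r) = (y⁻¹ ^ (j + 1)) r := by
          have h2 : (y⁻¹ ^ (j + 1)) r = y⁻¹ ((y⁻¹ ^ j) r) := by rw [pow_succ', Perm.mul_apply]
          rw [h2] at hmem ⊢
          show l.formPerm (y⁻¹ ((y⁻¹ ^ j) r)) = _
          exact List.formPerm_apply_of_notMem hmem
        rw [← h1]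
        exact ih.trans (sameCycle_apply_right.mpr (SameCycle.refl _ _))
  have hA' : ∀ r ∈ l, ∀ x, y.SameCycle r x → c₀.SameCycle r x := by
    intro r hr x hx
    obtain ⟨j, hj⟩ := (sameCycle_inv.mpr hx).exists_nat_pow_eq
    rw [← hj]
    exact hA r hr j
  -- (B) a representative and the next one
  have hB : ∀ r ∈ l, c₀.SameCycle r (l.formPerm r) := by
    intro r hr
    have h1 : c₀ (y r) = l.formPerm r := by
      rw [hc₀app]
      simp
    rw [← h1]
    exact sameCycle_apply_right.mpr
      (hA' r hr (y r) (sameCycle_apply_right.mpr (SameCycle.refl _ _)))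
  -- (C) powers of formPerm
  have hC : ∀ n : ℕ, ∀ r ∈ l, (l.formPerm ^ n) r ∈ l ∧ c₀.SameCycle r ((l.formPerm ^ n) r) := by
    intro n
    induction n with
    | zero =>
      intro r hr
      exact ⟨hr, SameCycle.refl _ _⟩
    | succ n ih =>
      intro r hr
      obtain ⟨h1, h2⟩ := ih r hr
      rw [pow_succ', Perm.mul_apply]
      exact ⟨List.formPerm_mem_iff_mem.mpr h1, h2.trans (hB _ h1)⟩
  -- (D) all representatives in one cycle
  have hD : ∀ r ∈ l, ∀ r' ∈ l, c₀.SameCycle r r' := by
    intro r hr r' hr'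
    obtain ⟨i, hi, rfl⟩ := List.mem_iff_getElem.mp hr
    obtain ⟨i', hi', rfl⟩ := List.mem_iff_getElem.mp hr'
    have h1 := List.formPerm_pow_apply_getElem l hl (i' + l.length - i) i hi
    have h2 : (i + (i' + l.length - i)) % l.length = i' := by
      have : i + (i' + l.length - i) = i' + l.length := by omega
      rw [this, Nat.add_mod_right, Nat.mod_eq_of_lt hi']
    have h3 := (hC (i' + l.length - i) l[i] hr).2
    rw [h1] at h3
    simp only [h2] at h3
    exact h3
  intro x z
  obtain ⟨r, hr, hrx⟩ := hcov x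
  obtain ⟨r', hr', hrz⟩ := hcov z
  exact ((hA' r hr x hrx).symm.trans (hD r hr r' hr')).trans (hA' r' hr' z hrz)

/-- K-S2276-G, part 1. -/
theorem gadget_isCycle (y : Perm β) (l : List β) (hl : l.Nodup)
    (hcov : ∀ x, ∃ r ∈ l, y.SameCycle r x)
    (huniq : ∀ r ∈ l, ∀ r' ∈ l, y.SameCycle r r' → r = r')
    (hcard : 2 ≤ Fintype.card β) :
    (l.formPerm * y⁻¹).IsCycle ∧ (l.formPerm * y⁻¹).support = Finset.univ := by
  have hsame := gadget_sameCycle y l hl hcov huniq
  have hnofix : ∀ x, (l.formPerm * y⁻¹) x ≠ x := by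
    intro x hx
    obtain ⟨z, hz⟩ := Fintype.exists_ne_of_one_lt_card (by omega : 1 < Fintype.card β) x
    exact hz ((hsame x z).eq_of_left hx).symm
  have hne : Nonempty β := by
    rw [← Fintype.card_pos_iff]
    omega
  obtain ⟨x₀⟩ := hne
  refine ⟨(isCycle_iff_sameCycle (hnofix x₀)).mpr
    (fun {z} => ⟨fun _ => hnofix z, fun _ => hsame x₀ z⟩), ?_⟩
  exact Finset.eq_univ_iff_forall.mpr (fun x => Perm.mem_support.mpr (hnofix x))

/-- K-S2276-G, part 2. -/
theorem gadget_odd_length (y : Perm β) (l : List β) (hl : l.Nodup)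
    (hcov : ∀ x, ∃ r ∈ l, y.SameCycle r x)
    (huniq : ∀ r ∈ l, ∀ r' ∈ l, y.SameCycle r r' → r = r')
    (hodd : Odd (Fintype.card β)) (hys : Perm.sign y = 1) : Odd l.length := by
  have hpos : 0 < Fintype.card β := hodd.pos
  have hne : Nonempty β := Fintype.card_pos_iff.mp hpos
  -- l is nonempty
  have hlen1 : 1 ≤ l.length := by
    obtain ⟨x₀⟩ := hne
    obtain ⟨r, hr, -⟩ := hcov x₀
    exact List.length_pos_of_mem hr
  by_cases hcard1 : Fintype.card β = 1
  · -- a single point
    have hle : l.length ≤ 1 := by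
      have := hl.length_le_card
      omega
    have : l.length = 1 := le_antisymm hle hlen1
    rw [this]
    exact odd_one
  · have hcard : 2 ≤ Fintype.card β := by omega
    obtain ⟨hcyc, hsupp⟩ := gadget_isCycle y l hl hcov huniq hcard
    have hsign : Perm.sign (l.formPerm * y⁻¹) = 1 := by
      rw [hcyc.sign, hsupp, Finset.card_univ, hodd.neg_one_pow]
      simp
    have hsignl : Perm.sign l.formPerm = 1 := by
      rw [Perm.sign_mul, Perm.sign_inv, hys, mul_one] at hsign
      exact hsign
    by_cases hlen : l.length = 1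
    · rw [hlen]
      exact odd_one
    · have h2 : 2 ≤ l.length := by omega
      have hcl := List.isCycle_formPerm hl h2
      have hsl : l.formPerm.support = l.toFinset := by
        apply List.support_formPerm_of_nodup l hl
        intro x hx
        rw [hx] at h2
        simp at h2
      rw [hcl.sign, hsl, List.toFinset_card_of_nodup hl] at hsignl
      by_contra hnot
      rw [Nat.not_odd_iff_even] at hnot
      rw [hnot.neg_one_pow] at hsignl
      exact absurd hsignl (by decide)

end Cfsg.Agent.Lib.Helper42.AltFree
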