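import Mathlib
import Cfsg.Agent.Lib.Helper55.Basic

set_option autoImplicit false

namespace Cfsg.Agent.Lib.Helper42.BG134

open Cfsg Cfsg.Agent.Lib.Helper55
open scoped Pointwise

variable {G : Type*} [Group G] [Finite G]

/-- KEYSTONE 142808  K-S1428-P1  (PURE). -/
theorem exists_conj_le_of_factor (L N D T : Subgroup G) (hNL : N ≤ L) (hDL : D ≤ L)
    (hLN : L ≤ Subgroup.normalizer (N : Set G))
    (hfac : ∀ l ∈ L, ∃ b ∈ N, ∃ d ∈ D, l = b * d) {t : ℕ} [Fact t.Prime]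
    (htN : ¬ t ∣ Nat.card N) (hTL : T ≤ L) (hT : IsPGroup t T) :
    ∃ l ∈ L, cj l T ≤ D := by
  classical
  have htp : t.Prime := Fact.out
  have hN'n : (N.subgroupOf L).Normal := Subgroup.normal_subgroupOf_of_le_normalizer hLN
  -- a Sylow subgroup of `D`
  obtain ⟨Q₀⟩ : Nonempty (Sylow t ↥D) := inferInstance
  set Q : Subgroup G := (Q₀ : Subgroup ↥D).map D.subtype with hQ
  have hQD : Q ≤ D := by
    rintro _ ⟨y, -, rfl⟩
    exact y.2
  have hQp : IsPGroup t Q := Q₀.2.map _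
  have hQ'p : IsPGroup t (Q.subgroupOf L) := hQp.comap_subtype
  have hcQ : Nat.card Q = Nat.card (Q₀ : Subgroup ↥D) :=
    Nat.card_congr ((Q₀ : Subgroup ↥D).equivMapOfInjective D.subtype
      D.subtype_injective).symm.toEquiv
  have hcQ' : Nat.card (Q.subgroupOf L) = Nat.card Q :=
    Nat.card_congr (Subgroup.subgroupOfEquivOfLe (hQD.trans hDL)).toEquiv
  have hcN' : Nat.card (N.subgroupOf L) = Nat.card N :=
    Nat.card_congr (Subgroup.subgroupOfEquivOfLe hNL).toEquiv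
  -- surjection `D → L ⧸ N'`
  let f : ↥D →* ↥L ⧸ N.subgroupOf L :=
    (QuotientGroup.mk' (N.subgroupOf L)).comp (Subgroup.inclusion hDL)
  have hf : Function.Surjective f := by
    intro y
    obtain ⟨l, rfl⟩ := QuotientGroup.mk'_surjective _ y
    obtain ⟨b, hb, d, hd, hl⟩ := hfac l l.2
    refine ⟨⟨d, hd⟩, ?_⟩
    show QuotientGroup.mk' (N.subgroupOf L) (Subgroup.inclusion hDL ⟨d, hd⟩) =
      QuotientGroup.mk' (N.subgroupOf L) l
    -- `l = b * d`, so `l * d⁻¹ = b ∈ N`; use left-coset form via normality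
    have hbL : b ∈ L := hNL hb
    have hlb : l = (⟨b, hbL⟩ : ↥L) * (⟨d, hDL hd⟩ : ↥L) := Subtype.ext hl
    have hbN' : (⟨b, hbL⟩ : ↥L) ∈ N.subgroupOf L := Subgroup.mem_subgroupOf.2 hb
    have h1 : (QuotientGroup.mk' (N.subgroupOf L)) ⟨b, hbL⟩ = 1 :=
      (QuotientGroup.eq_one_iff _).2 hbN'
    rw [hlb, map_mul, h1, one_mul]
    rfl
  have hdvd1 : Nat.card (↥L ⧸ N.subgroupOf L) ∣ Nat.card ↥D :=
    Subgroup.card_dvd_of_surjective f hf
  have hcL : Nat.card ↥L = Nat.card (↥L ⧸ N.subgroupOf L) * Nat.card (N.subgroupOf L) :=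
    Subgroup.card_eq_card_quotient_mul_card_subgroup _
  have hQ0idx : (Q₀ : Subgroup ↥D).index * Nat.card (Q₀ : Subgroup ↥D) = Nat.card ↥D :=
    Subgroup.index_mul_card _
  have hQ0nd : ¬ t ∣ (Q₀ : Subgroup ↥D).index := Q₀.not_dvd_index
  have hQ'idx : (Q.subgroupOf L).index * Nat.card (Q.subgroupOf L) = Nat.card ↥L :=
    Subgroup.index_mul_card _
  have hpos : 0 < Nat.card (Q₀ : Subgroup ↥D) := Nat.card_pos
  have hnd : ¬ t ∣ (Q.subgroupOf L).index := by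
    intro hdv
    have h1 : (Q.subgroupOf L).index * Nat.card (Q₀ : Subgroup ↥D) ∣
        ((Q₀ : Subgroup ↥D).index * Nat.card N) * Nat.card (Q₀ : Subgroup ↥D) := by
      rw [← hcQ, ← hcQ', hQ'idx, hcL, hcN']
      have : (Q₀ : Subgroup ↥D).index * Nat.card N * Nat.card (Q.subgroupOf L) =
          Nat.card ↥D * Nat.card N := by
        rw [hcQ', hcQ, ← hQ0idx]; ring
      rw [this]
      exact Nat.mul_dvd_mul_right hdvd1 _
    have h2 : (Q.subgroupOf L).index ∣ (Q₀ : Subgroup ↥D).index * Nat.card N :=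
      Nat.dvd_of_mul_dvd_mul_right hpos h1
    rcases (Nat.Prime.dvd_mul htp).1 (hdv.trans h2) with h | h
    · exact hQ0nd h
    · exact htN h
  -- Sylow in `L`
  set S : Sylow t ↥L := hQ'p.toSylow hnd with hS
  have hT'p : IsPGroup t (T.subgroupOf L) := hT.comap_subtype
  obtain ⟨R, hR⟩ := hT'p.exists_le_sylow
  obtain ⟨l, hl⟩ := MulAction.exists_smul_eq ↥L R S
  refine ⟨l, l.2, ?_⟩
  intro x hx
  have hy : (l : G)⁻¹ * x * l ∈ T := mem_cj.1 hx
  have hyL : (l : G)⁻¹ * x * l ∈ L := hTL hy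
  have hyR : (⟨(l : G)⁻¹ * x * l, hyL⟩ : ↥L) ∈ (R : Subgroup ↥L) :=
    hR (Subgroup.mem_subgroupOf.2 hy)
  have hcoe : MulAut.conj l • (R : Subgroup ↥L) = Q.subgroupOf L := by
    have := congrArg (fun P : Sylow t ↥L => (P : Subgroup ↥L)) hl
    simpa [Sylow.coe_subgroup_smul, hS] using this
  have hmem : MulAut.conj l • (⟨(l : G)⁻¹ * x * l, hyL⟩ : ↥L) ∈ Q.subgroupOf L := by
    rw [← hcoe]
    exact Subgroup.smul_mem_pointwise_smul _ _ _ hyR
  have hxQ : x ∈ Q := by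
    have h3 := Subgroup.mem_subgroupOf.1 hmem
    have h4 : ((MulAut.conj l • (⟨(l : G)⁻¹ * x * l, hyL⟩ : ↥L) : ↥L) : G) = x := by
      rw [MulAut.smul_def, MulAut.conj_apply]
      push_cast
      group
    rwa [h4] at h3
  exact hQD hxQ

end Cfsg.Agent.Lib.Helper42.BG134
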