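import Mathlib
import Cfsg.Agent.Lib.Helper11.BG144Defs
import Cfsg.Agent.Lib.Helper71.BG11a
import Cfsg.Agent.Lib.Helper97.BG1366O
import Cfsg.Agent.Lib.Helper31.FittingHall

/-!
# K-1379-V3 (keystone 137903): an element of `C_G(x0)` of order prime to `σ(N)` is `C_G(x0)`-conjugate
into `L` (`Supp L x0 N`): `C_G(x0) = (L ⊓ C_G(x0)) (N_σ ⊓ C_G(x0))`, Hall conjugacy in the solvable `C_G(x0)`.
-/

set_option autoImplicit false

namespace Cfsg.Agent.Lib.Helper42.BG1379

open Cfsg Subgroup Cfsg.Agent.Lib.Helper11.BG144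

variable {G : Type*} [Group G] [Finite G]

/-- LEAF V3 (137903) -/
theorem exists_conj_mem_of_coprime (hG : IsMinSimpleOddOrder G) {L N : Subgroup G} {x0 g : G}
    (hL : IsCoatom L) (hx0 : x0 ∈ sigmaCore L) (hx01 : x0 ≠ 1) (hS : Supp L x0 N)
    (hg : g ∈ centralizer ({x0} : Set G))
    (hcop : ∀ q : ℕ, q.Prime → q ∣ orderOf g → q ∉ sigma N) :
    ∃ c ∈ centralizer ({x0} : Set G), c * g * c⁻¹ ∈ L := by
  have hN : IsCoatom N := hS.coatom
  have hCN : centralizer ({x0} : Set G) ≤ N := hS.cent_le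
  -- `C_G(x0)` is solvable
  have hCs : Group.IsSolvable ↥(centralizer ({x0} : Set G)) := by
    haveI : Group.IsSolvable ↥N := Cfsg.Agent.Lib.Helper55.ms_solvable hG hN.1
    exact solvable_of_solvable_injective (Subgroup.inclusion_injective hCN)
  -- the complement structure
  have hcompl : IsComplIn (L ⊓ centralizer ({x0} : Set G))
      (sigmaCore N ⊓ centralizer ({x0} : Set G)) (centralizer ({x0} : Set G)) := by
    refine ⟨inf_le_right, inf_le_right, ?_, ?_⟩
    · apply le_bot_iff.mp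
      intro z hz
      have h1 : z ∈ sigmaCore N ⊓ L := ⟨hz.2.1, hz.1.1⟩
      rw [hS.inf_bot] at h1
      exact h1
    · intro m hm
      exact hS.cent_split m hm
  have hcard := Cfsg.Agent.Lib.Helper31.IsComplIn.card_mul hcompl
  -- primes of `|N_σ ⊓ C|` are in `σ(N)`
  have hRσ : ∀ p : ℕ, p.Prime → p ∣ Nat.card ↥(sigmaCore N ⊓ centralizer ({x0} : Set G)) →
      p ∈ sigma N := by
    intro p hp hpd
    exact Cfsg.Agent.Lib.Helper71.BG11.sigmaCore_pi hG hN hp
      (hpd.trans (Subgroup.card_dvd_of_le inf_le_left))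
  -- primes of `|L ⊓ C|` are not in `σ(N)`
  have hQσ : ∀ p : ℕ, p.Prime → p ∣ Nat.card ↥(L ⊓ centralizer ({x0} : Set G)) →
      p ∉ sigma N := by
    intro p hp hpd hpσ
    haveI : Fact p.Prime := ⟨hp⟩
    obtain ⟨z, hz⟩ := exists_prime_orderOf_dvd_card' p hpd
    have hzo : orderOf (z : G) = p := by rw [Subgroup.orderOf_coe]; exact hz
    have hzL : (z : G) ∈ L := z.2.1
    have hzN : (z : G) ∈ N := hCN z.2.2
    have hZ : zpowers (z : G) ≤ sigmaCore N := by
      refine Cfsg.Agent.Lib.Helper71.BG10.le_of_isPiHallOf_normal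
        (Cfsg.Agent.S1350.result hG N hN).1
        (Cfsg.Agent.Lib.Helper71.BG11.le_normalizer_sigmaCore N)
        ((Subgroup.zpowers_le).2 hzN) ?_
      intro r hr hrd
      rw [Nat.card_zpowers, hzo] at hrd
      have : r = p := (Nat.prime_dvd_prime_iff_eq hr hp).mp hrd
      rw [this]; exact hpσ
    have h1 : (z : G) ∈ sigmaCore N ⊓ L := ⟨hZ (Subgroup.mem_zpowers _), hzL⟩
    rw [hS.inf_bot] at h1
    have h2 : (z : G) = 1 := Subgroup.mem_bot.mp h1
    rw [h2, orderOf_one] at hzo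
    exact hp.one_lt.ne hzo
  -- `Q` is a Hall `σ(N)'`-subgroup of `C`
  have hHall : IsPiHallOf {q : ℕ | q ∉ sigma N} (L ⊓ centralizer ({x0} : Set G))
      (centralizer ({x0} : Set G)) := by
    refine ⟨inf_le_right, fun p hp hpd => hQσ p hp hpd, ?_⟩
    intro p hp hpπ hpd
    have h2 := Cfsg.Agent.Lib.Helper97.BG1366.card_mul_relIndex_of_le
      (inf_le_right : L ⊓ centralizer ({x0} : Set G) ≤ centralizer ({x0} : Set G))
    have h3 : (L ⊓ centralizer ({x0} : Set G)).relIndex (centralizer ({x0} : Set G)) =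
        Nat.card ↥(sigmaCore N ⊓ centralizer ({x0} : Set G)) := by
      rw [← hcard] at h2
      exact Nat.eq_of_mul_eq_mul_left Nat.card_pos h2
    rw [h3] at hpd
    exact hpπ (hRσ p hp hpd)
  obtain ⟨m, hm, hle⟩ := Cfsg.Agent.Lib.Helper97.BG1366.exists_cj_ge_of_hall hCs hHall
    ((Subgroup.zpowers_le).2 hg) (by
      intro p hp hpd
      rw [Nat.card_zpowers] at hpd
      exact hcop p hp hpd)
  refine ⟨m⁻¹, inv_mem hm, ?_⟩
  have h1 : g ∈ (L ⊓ centralizer ({x0} : Set G)).map (MulAut.conj m).toMonoidHom :=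
    hle (Subgroup.mem_zpowers g)
  obtain ⟨w, hw, hwg⟩ := Subgroup.mem_map.mp h1
  have h2 : g = m * w * m⁻¹ := by
    rw [← hwg]; simp [MulAut.conj_apply]
  rw [h2]
  have : m⁻¹ * (m * w * m⁻¹) * m⁻¹⁻¹ = w := by group
  rw [this]
  exact hw.1

end Cfsg.Agent.Lib.Helper42.BG1379
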