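import Mathlib

set_option autoImplicit false

namespace Cfsg.Agent.Lib.Helper42.BG1383

/-- Facts on a nonabelian group of order `p ^ 3`: the center has order `p`, contains all
commutators and all `p`-th powers. -/
theorem center_facts_of_card_cube {H : Type*} [Group H] [Finite H] (p : ℕ) [hp : Fact p.Prime]
    (hH : Nat.card H = p ^ 3) (hna : ¬ IsMulCommutative H) :
    Nat.card (Subgroup.center H) = p ∧
      (∀ x y : H, x * y * x⁻¹ * y⁻¹ ∈ Subgroup.center H) ∧
      ∀ x : H, x ^ p ∈ Subgroup.center H := by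
  classical
  have hpp : p.Prime := hp.out
  have hpg : IsPGroup p H := IsPGroup.of_card hH
  have : Nontrivial H := by
    rw [← Finite.one_lt_card_iff_nontrivial, hH]
    exact Nat.one_lt_pow (by norm_num) hpp.one_lt
  have hcn : Nontrivial (Subgroup.center H) := hpg.center_nontrivial
  have hdvd : Nat.card (Subgroup.center H) ∣ p ^ 3 := hH ▸ Subgroup.card_subgroup_dvd_card _
  obtain ⟨i, hi3, hi⟩ := (Nat.dvd_prime_pow hpp).1 hdvd
  have hmul : Nat.card (H ⧸ Subgroup.center H) * Nat.card (Subgroup.center H) = p ^ 3 := by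
    rw [← hH]; exact (Subgroup.card_eq_card_quotient_mul_card_subgroup _).symm
  have hi0 : i ≠ 0 := by
    rintro rfl
    have : 1 < Nat.card (Subgroup.center H) := Finite.one_lt_card
    rw [hi] at this; simp at this
  have hi3' : i ≠ 3 := by
    rintro rfl
    have htop : Subgroup.center H = ⊤ := by
      rw [← Subgroup.card_eq_iff_eq_top, hi, hH]
    apply hna
    rw [isMulCommutative_iff]
    intro a b
    have hb : b ∈ Subgroup.center H := htop ▸ Subgroup.mem_top b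
    exact (Subgroup.mem_center_iff.1 hb a)
  have hi2 : i ≠ 2 := by
    rintro rfl
    rw [hi] at hmul
    have hq : Nat.card (H ⧸ Subgroup.center H) = p := by
      have h2 : 0 < p ^ 2 := pow_pos hpp.pos 2
      apply Nat.eq_of_mul_eq_mul_right h2
      rw [hmul]; ring
    have : IsCyclic (H ⧸ Subgroup.center H) := isCyclic_of_prime_card hq
    exact hna (isMulCommutative_of_isCyclic_quotient_center_self H)
  have hi1 : i = 1 := by omega
  subst hi1
  rw [pow_one] at hi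
  rw [hi] at hmul
  have hq : Nat.card (H ⧸ Subgroup.center H) = p ^ 2 := by
    apply Nat.eq_of_mul_eq_mul_right hpp.pos
    rw [hmul]; ring
  have hQc : IsMulCommutative (H ⧸ Subgroup.center H) :=
    IsPGroup.isMulCommutative_of_card_eq_prime_sq hq
  rw [isMulCommutative_iff] at hQc
  refine ⟨hi, ?_, ?_⟩
  · intro x y
    rw [← QuotientGroup.eq_one_iff]
    simp only [QuotientGroup.mk_mul, QuotientGroup.mk_inv]
    rw [hQc (x : H ⧸ Subgroup.center H) y]
    group
  · intro x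
    rw [← QuotientGroup.eq_one_iff, QuotientGroup.mk_pow]
    set q : H ⧸ Subgroup.center H := (x : H ⧸ Subgroup.center H) with hqdef
    have hod : orderOf q ∣ p ^ 2 := hq ▸ orderOf_dvd_natCard q
    obtain ⟨k, hk2, hk⟩ := (Nat.dvd_prime_pow hpp).1 hod
    by_cases hk2' : k = 2
    · subst hk2'
      exfalso
      have : IsCyclic (H ⧸ Subgroup.center H) :=
        isCyclic_of_orderOf_eq_card q (by rw [hk, hq])
      exact hna (isMulCommutative_of_isCyclic_quotient_center_self H)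
    · have hk1 : k ≤ 1 := by omega
      rw [← orderOf_dvd_iff_pow_eq_one, hk]
      calc p ^ k ∣ p ^ 1 := pow_dvd_pow p hk1
        _ = p := pow_one p

/-- Iterating `k x k⁻¹ = x ^ l * z` with `z` in a subgroup `Z` fixed by `k` and commuting
with `x`. -/
theorem conj_pow_of_conj {G : Type*} [Group G] (Z : Subgroup G) (k x : G) (l : ℕ) (z : G)
    (hz : z ∈ Z) (hkZ : ∀ w ∈ Z, k * w * k⁻¹ = w) (hxZ : ∀ w ∈ Z, w * x = x * w)
    (h : k * x * k⁻¹ = x ^ l * z) (i : ℕ) :
    ∃ z' ∈ Z, k ^ i * x * (k ^ i)⁻¹ = x ^ (l ^ i) * z' := by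
  induction i with
  | zero => exact ⟨1, Z.one_mem, by simp⟩
  | succ i ih =>
    obtain ⟨z', hz', hi⟩ := ih
    refine ⟨z ^ (l ^ i) * z', Z.mul_mem (Z.pow_mem hz _) hz', ?_⟩
    have h1 : k ^ (i + 1) * x * (k ^ (i + 1))⁻¹ = k * (k ^ i * x * (k ^ i)⁻¹) * k⁻¹ := by
      rw [pow_succ']; group
    have hzx : Commute z x := hxZ z hz
    have hcz : Commute (x ^ l) z := hzx.symm.pow_left l
    rw [h1, hi]
    calc k * (x ^ l ^ i * z') * k⁻¹ = (k * x * k⁻¹) ^ (l ^ i) * (k * z' * k⁻¹) := by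
          rw [conj_pow]; group
      _ = (x ^ l * z) ^ (l ^ i) * z' := by rw [h, hkZ z' hz']
      _ = x ^ (l ^ (i + 1)) * (z ^ (l ^ i) * z') := by
          rw [hcz.mul_pow, ← pow_mul, pow_succ', mul_assoc]

/-- If `k x k⁻¹ = x z` with `z` fixed by `k`, commuting with `x`, and of order prime to the
order of `k`, then `k` centralizes `x`. -/
theorem conj_eq_self_of_conj_eq_mul {G : Type*} [Group G] (k x z : G) (n p : ℕ)
    (hkn : k ^ n = 1) (hzp : z ^ p = 1) (hnp : n.Coprime p)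
    (hkz : k * z * k⁻¹ = z) (h : k * x * k⁻¹ = x * z) : k * x * k⁻¹ = x := by
  have key : ∀ i : ℕ, k ^ i * x * (k ^ i)⁻¹ = x * z ^ i := by
    intro i
    induction i with
    | zero => simp
    | succ i ih =>
      have h1 : k ^ (i + 1) * x * (k ^ (i + 1))⁻¹ = k * (k ^ i * x * (k ^ i)⁻¹) * k⁻¹ := by
        rw [pow_succ']; group
      rw [h1, ih]
      calc k * (x * z ^ i) * k⁻¹ = (k * x * k⁻¹) * (k * z * k⁻¹) ^ i := by
            rw [conj_pow]; group
        _ = x * z ^ (i + 1) := by rw [h, hkz, pow_succ', mul_assoc]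
  have h2 := key n
  rw [hkn] at h2
  have hzn : z ^ n = 1 := by
    have : x * z ^ n = x * 1 := by rw [← h2]; simp
    exact mul_left_cancel this
  have hz1 : z = 1 := by
    have := (pow_gcd_eq_one (a := z)).2 ⟨hzn, hzp⟩
    rwa [Nat.Coprime.gcd_eq_one hnp, pow_one] at this
  rw [h, hz1, mul_one]

/-- Bilinearity of the commutator in class two. -/
theorem mul_eq_pow_mul_of_class_two {G : Type*} [Group G] (x y u z z' : G)
    (hu : x * y = u * y * x) (hux : Commute u x) (huy : Commute u y)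
    (hzy : Commute z y) (hz'x : Commute z' x) (hzz' : Commute z z') (m n : ℕ) :
    (x ^ m * z) * (y ^ n * z') = u ^ (m * n) * ((y ^ n * z') * (x ^ m * z)) := by
  have ha : ∀ m : ℕ, x ^ m * y = u ^ m * y * x ^ m := by
    intro m
    induction m with
    | zero => simp
    | succ m ih =>
      calc x ^ (m + 1) * y = x * (x ^ m * y) := by rw [pow_succ', mul_assoc]
        _ = x * (u ^ m * y * x ^ m) := by rw [ih]
        _ = u ^ m * (x * y) * x ^ m := by
            rw [← mul_assoc, ← mul_assoc, ((hux.pow_left m).symm).eq]; simp only [mul_assoc]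
        _ = u ^ m * (u * y * x) * x ^ m := by rw [hu]
        _ = u ^ (m + 1) * y * x ^ (m + 1) := by
            rw [pow_succ u m, pow_succ' x m]; simp only [mul_assoc]
  have hb : ∀ n : ℕ, x ^ m * y ^ n = u ^ (m * n) * y ^ n * x ^ m := by
    intro n
    induction n with
    | zero => simp
    | succ n ih =>
      calc x ^ m * y ^ (n + 1) = (x ^ m * y ^ n) * y := by rw [pow_succ, mul_assoc]
        _ = u ^ (m * n) * y ^ n * (x ^ m * y) := by rw [ih]; simp only [mul_assoc]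
        _ = u ^ (m * n) * y ^ n * (u ^ m * y * x ^ m) := by rw [ha m]
        _ = u ^ (m * n) * (u ^ m * y ^ n) * y * x ^ m := by
            rw [((huy.pow_left m).pow_right n).eq]; simp only [mul_assoc]
        _ = u ^ (m * (n + 1)) * y ^ (n + 1) * x ^ m := by
            rw [Nat.mul_succ, pow_add, pow_succ y n]; simp only [mul_assoc]
  calc (x ^ m * z) * (y ^ n * z') = x ^ m * y ^ n * (z * z') := by
        rw [mul_assoc, ← mul_assoc z, (hzy.pow_right n).eq]; simp only [mul_assoc]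
    _ = u ^ (m * n) * y ^ n * x ^ m * (z * z') := by rw [hb n]
    _ = u ^ (m * n) * ((y ^ n * z') * (x ^ m * z)) := by
        have e : z' * x ^ m = x ^ m * z' := (hz'x.pow_right m).eq
        rw [hzz'.eq]
        simp only [mul_assoc]
        rw [← mul_assoc z' (x ^ m) z, e, mul_assoc]

/-- Elements of `⟨v⟩ ⊔ Z` when `v` commutes with `Z`. -/
theorem exists_pow_mul_of_mem_sup {G : Type*} [Group G] [Finite G] (Z : Subgroup G) (v : G)
    (hvZ : ∀ w ∈ Z, w * v = v * w) (x : G) (hx : x ∈ Subgroup.zpowers v ⊔ Z) :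
    ∃ n : ℕ, ∃ z ∈ Z, x = v ^ n * z := by
  let S : Subgroup G :=
    { carrier := {x | ∃ i : ℤ, ∃ z ∈ Z, x = v ^ i * z}
      one_mem' := ⟨0, 1, Z.one_mem, by simp⟩
      mul_mem' := by
        rintro _ _ ⟨i, z, hz, rfl⟩ ⟨j, z', hz', rfl⟩
        refine ⟨i + j, z * z', Z.mul_mem hz hz', ?_⟩
        have hc0 : Commute z v := hvZ z hz
        have hc : Commute z (v ^ j) := hc0.zpow_right j
        rw [zpow_add, mul_assoc, ← mul_assoc z, hc.eq]; simp only [mul_assoc]
      inv_mem' := by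
        rintro _ ⟨i, z, hz, rfl⟩
        refine ⟨-i, z⁻¹, Z.inv_mem hz, ?_⟩
        have hc0 : Commute z v := hvZ z hz
        have hc : Commute z (v ^ i) := hc0.zpow_right i
        rw [mul_inv_rev, zpow_neg, (hc.inv_left.inv_right).eq] }
  have hle : Subgroup.zpowers v ⊔ Z ≤ S := by
    apply sup_le
    · rw [Subgroup.zpowers_le]
      exact ⟨1, 1, Z.one_mem, by simp⟩
    · intro z hz
      exact ⟨0, z, hz, by simp⟩
  obtain ⟨i, z, hz, rfl⟩ := hle hx
  have hmem : v ^ i ∈ Subgroup.zpowers v := ⟨i, rfl⟩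
  rw [← mem_powers_iff_mem_zpowers] at hmem
  obtain ⟨n, hn⟩ := hmem
  exact ⟨n, z, hz, by rw [← hn]⟩

/-- K-1383-E2 -/
theorem card_dvd_pred_of_invariant_line {G : Type*} [Group G] [Finite G] (p : ℕ) [Fact p.Prime]
    (hp : p ≠ 2) (P K : Subgroup G) (hP : Nat.card P = p ^ 3) (hPna : ¬ IsMulCommutative P)
    (hKP : K ≤ Subgroup.normalizer (P : Set G)) (hKc : IsCyclic K)
    (hcop : (Nat.card K).Coprime p) (hodd : Odd (Nat.card K))
    (hZ : Nat.card ↥(P ⊓ Subgroup.centralizer (K : Set G)) = p)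
    (hZ' : P ⊓ Subgroup.centralizer (K : Set G) ≤ ⁅P, P⁆)
    (hfix : ∀ k ∈ K, k ≠ 1 →
      P ⊓ Subgroup.centralizer ({k} : Set G) = P ⊓ Subgroup.centralizer (K : Set G))
    (hline : ∃ a ∈ K, a ≠ 1 ∧ ∃ v ∈ P, v ∉ Subgroup.centralizer (K : Set G) ∧
      a * v * a⁻¹ ∈ Subgroup.zpowers v ⊔ (P ⊓ Subgroup.centralizer (K : Set G))) :
    Nat.card K ∣ p - 1 := by
  classical
  have hpp : p.Prime := Fact.out
  obtain ⟨hc1, hc2, hc3⟩ := center_facts_of_card_cube (H := ↥P) p hP hPna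
  set Z : Subgroup G := P ⊓ Subgroup.centralizer (K : Set G) with hZdef
  -- `Z` is the image of the center of `P`
  have hZPcard : Nat.card ((Subgroup.center ↥P).map P.subtype) = p := by
    rw [Subgroup.card_map_of_injective P.subtype_injective, hc1]
  have hcommZP : ⁅P, P⁆ ≤ (Subgroup.center ↥P).map P.subtype := by
    rw [Subgroup.commutator_le]
    intro g₁ h₁ g₂ h₂
    refine ⟨⟨g₁, h₁⟩ * ⟨g₂, h₂⟩ * (⟨g₁, h₁⟩ : ↥P)⁻¹ * (⟨g₂, h₂⟩ : ↥P)⁻¹, hc2 _ _, ?_⟩
    simp [commutatorElement_def]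
  have hZeq : Z = (Subgroup.center ↥P).map P.subtype :=
    Subgroup.eq_of_le_of_card_ge (hZ'.trans hcommZP) (by rw [hZPcard, hZ])
  have hZP : Z ≤ P := inf_le_left
  -- basic facts
  have I1 : ∀ z ∈ Z, ∀ x ∈ P, z * x = x * z := by
    intro z hz x hx
    rw [hZeq] at hz
    obtain ⟨z', hz', rfl⟩ := hz
    have := Subgroup.mem_center_iff.1 hz' ⟨x, hx⟩
    exact (congrArg Subtype.val this).symm
  have I2 : ∀ x ∈ P, ∀ y ∈ P, x * y * x⁻¹ * y⁻¹ ∈ Z := by
    intro x hx y hy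
    rw [hZeq]
    exact ⟨⟨x, hx⟩ * ⟨y, hy⟩ * (⟨x, hx⟩ : ↥P)⁻¹ * (⟨y, hy⟩ : ↥P)⁻¹, hc2 _ _, by simp⟩
  have I3 : ∀ x ∈ P, x ^ p ∈ Z := by
    intro x hx
    rw [hZeq]
    exact ⟨(⟨x, hx⟩ : ↥P) ^ p, hc3 _, by simp⟩
  have I4 : ∀ x ∈ P, (∀ y ∈ P, y * x = x * y) → x ∈ Z := by
    intro x hx h
    rw [hZeq]
    refine ⟨⟨x, hx⟩, Subgroup.mem_center_iff.2 ?_, rfl⟩
    rintro ⟨y, hy⟩
    exact Subtype.ext (h y hy)
  have hKZ : ∀ k ∈ K, ∀ z ∈ Z, k * z * k⁻¹ = z := by
    intro k hk z hz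
    have := Subgroup.mem_centralizer_iff.1 (Subgroup.mem_inf.1 hz).2 k hk
    rw [this, mul_inv_cancel_right]
  have hZpow : ∀ z ∈ Z, z ^ p = 1 := by
    intro z hz
    have h1 : (⟨z, hz⟩ : ↥Z) ^ Nat.card ↥Z = 1 := pow_card_eq_one'
    rw [hZ] at h1
    exact congrArg Subtype.val h1
  have hKnorm : ∀ k ∈ K, ∀ x ∈ P, k * x * k⁻¹ ∈ P := by
    intro k hk x hx
    exact (Subgroup.mem_normalizer_iff.1 (hKP hk) x).1 hx
  have hKcard : ∀ k ∈ K, k ^ Nat.card K = 1 := by
    intro k hk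
    have h1 : (⟨k, hk⟩ : ↥K) ^ Nat.card ↥K = 1 := pow_card_eq_one'
    exact congrArg Subtype.val h1
  have hfix' : ∀ k ∈ K, k ≠ 1 → ∀ x ∈ P, k * x * k⁻¹ = x → x ∈ Z := by
    intro k hk hk1 x hx h
    rw [← hfix k hk hk1]
    refine Subgroup.mem_inf.2 ⟨hx, ?_⟩
    rw [Subgroup.mem_centralizer_iff]
    intro g hg
    rw [Set.mem_singleton_iff] at hg
    subst hg
    calc g * x = g * x * g⁻¹ * g := by group
      _ = x * g := by rw [h]
  -- kernel lemma
  have KL : ∀ k ∈ K, k ≠ 1 → ∀ x ∈ P, ∀ z ∈ Z, k * x * k⁻¹ = x * z → x ∈ Z := by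
    intro k hk hk1 x hx z hz h
    apply hfix' k hk hk1 x hx
    exact conj_eq_self_of_conj_eq_mul k x z (Nat.card K) p (hKcard k hk) (hZpow z hz) hcop
      (hKZ k hk z hz) h
  obtain ⟨a, haK, ha1, v, hvP, hvC, hav⟩ := hline
  have hvZ : v ∉ Z := fun h => hvC (Subgroup.mem_inf.1 h).2
  -- the line `L` and the centralizer `C` of `v` in `P`
  set L : Subgroup G := Subgroup.zpowers v ⊔ Z with hLdef
  set C : Subgroup G := P ⊓ Subgroup.centralizer ({v} : Set G) with hCdef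
  have hform : ∀ x ∈ L, ∃ n : ℕ, ∃ z ∈ Z, x = v ^ n * z := fun x hx =>
    exists_pow_mul_of_mem_sup Z v (fun w hw => I1 w hw v hvP) x hx
  have hmemC : ∀ x, x ∈ C ↔ x ∈ P ∧ v * x = x * v := by
    intro x
    rw [hCdef, Subgroup.mem_inf, Subgroup.mem_centralizer_iff]
    simp
  have hLC : L ≤ C := by
    apply sup_le
    · rw [Subgroup.zpowers_le, hmemC]
      exact ⟨hvP, rfl⟩
    · intro z hz
      rw [hmemC]
      exact ⟨hZP hz, (I1 z hz v hvP).symm⟩
  have hCP : C ≤ P := inf_le_left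
  have hvL : v ∈ L := Subgroup.mem_sup_left (Subgroup.mem_zpowers v)
  have hZL : Z ≤ L := le_sup_right
  have hLeqC : L = C := by
    apply Subgroup.eq_of_le_of_card_ge hLC
    have hdL : Nat.card L ∣ p ^ 3 := hP ▸ Subgroup.card_dvd_of_le (hLC.trans hCP)
    have hdC : Nat.card C ∣ p ^ 3 := hP ▸ Subgroup.card_dvd_of_le hCP
    obtain ⟨a', ha'3, ha'⟩ := (Nat.dvd_prime_pow hpp).1 hdL
    obtain ⟨b', hb'3, hb'⟩ := (Nat.dvd_prime_pow hpp).1 hdC
    have hZLd : p ∣ Nat.card L := hZ ▸ Subgroup.card_dvd_of_le hZL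
    have ha0 : a' ≠ 0 := by
      rintro rfl
      rw [ha', pow_zero] at hZLd
      exact hpp.one_lt.ne' (Nat.dvd_one.1 hZLd)
    have ha1' : a' ≠ 1 := by
      rintro rfl
      rw [pow_one] at ha'
      have : Z = L := Subgroup.eq_of_le_of_card_ge hZL (by rw [ha', hZ])
      exact hvZ (this ▸ hvL)
    have hb3 : b' ≠ 3 := by
      rintro rfl
      have : C = P := Subgroup.eq_of_le_of_card_ge hCP (by rw [hb', hP])
      apply hvZ
      apply I4 v hvP
      intro y hy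
      have hyC : y ∈ C := this ▸ hy
      exact (((hmemC y).1 hyC).2).symm
    rw [ha', hb']
    exact Nat.pow_le_pow_right hpp.pos (by omega)
  -- the eigenvalue of `a`
  obtain ⟨j, z₀, hz₀, haj⟩ := hform _ hav
  -- every `c ∈ K` normalizes `L`
  have hKL : ∀ c ∈ K, c * v * c⁻¹ ∈ L := by
    intro c hcK
    by_contra hnot
    set v' : G := c * v * c⁻¹ with hv'def
    have hv'P : v' ∈ P := hKnorm c hcK v hvP
    set u : G := v * v' * v⁻¹ * v'⁻¹ with hudef
    have huZ : u ∈ Z := I2 v hvP v' hv'P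
    have hu1 : u ≠ 1 := by
      intro h1
      apply hnot
      rw [hLeqC, hmemC]
      refine ⟨hv'P, ?_⟩
      have : v * v' = u * v' * v := by rw [hudef]; group
      rw [this, h1, one_mul]
    -- `a v' a⁻¹ = v' ^ j * z₀`
    have hac : a * c = c * a := by
      have hcomm : ∀ x y : ↥K, x * y = y * x := by
        have := hKc
        intro x y
        exact (IsCyclic.commGroup (α := ↥K)).mul_comm x y
      exact congrArg Subtype.val (hcomm ⟨a, haK⟩ ⟨c, hcK⟩)
    have hav' : a * v' * a⁻¹ = v' ^ j * z₀ := by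
      calc a * v' * a⁻¹ = c * (a * v * a⁻¹) * c⁻¹ := by
            rw [hv'def]
            have e1 : a * (c * v * c⁻¹) * a⁻¹ = (a * c) * v * (a * c)⁻¹ := by group
            have e2 : c * (a * v * a⁻¹) * c⁻¹ = (c * a) * v * (c * a)⁻¹ := by group
            rw [e1, e2, hac]
        _ = c * (v ^ j * z₀) * c⁻¹ := by rw [haj]
        _ = (c * v * c⁻¹) ^ j * (c * z₀ * c⁻¹) := by rw [conj_pow]; group
        _ = v' ^ j * z₀ := by rw [hKZ c hcK z₀ hz₀]
    -- `a` fixes `u`, but also raises it to the power `j * j`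
    have hau : a * u * a⁻¹ = u := hKZ a haK u huZ
    have hau' : a * u * a⁻¹ = u ^ (j * j) := by
      have e1 : a * u * a⁻¹ =
          (a * v * a⁻¹) * (a * v' * a⁻¹) * (a * v * a⁻¹)⁻¹ * (a * v' * a⁻¹)⁻¹ := by
        rw [hudef]; group
      have e2 := mul_eq_pow_mul_of_class_two v v' u z₀ z₀ (by rw [hudef]; group)
        (I1 u huZ v hvP) (I1 u huZ v' hv'P) (I1 z₀ hz₀ v' hv'P) (I1 z₀ hz₀ v hvP)
        (Commute.refl z₀) j j
      rw [e1, haj, hav', e2]
      group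
    have hjj : j * j ≡ 1 [MOD p] := by
      have hou : orderOf u = p := by
        have hd : orderOf u ∣ p := orderOf_dvd_of_pow_eq_one (hZpow u huZ)
        rcases (Nat.dvd_prime hpp).1 hd with h | h
        · exact absurd (orderOf_eq_one_iff.1 h) hu1
        · exact h
      have : u ^ (j * j) = u ^ 1 := by rw [← hau', hau, pow_one]
      rw [pow_eq_pow_iff_modEq, hou] at this
      exact this
    -- `a ^ 2` acts trivially on `v` modulo `Z`
    obtain ⟨z₂, hz₂, ha2⟩ := conj_pow_of_conj Z a v j z₀ hz₀ (hKZ a haK)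
      (fun w hw => I1 w hw v hvP) haj 2
    have hvjj : ∃ z₃ ∈ Z, v ^ (j ^ 2) = v * z₃ := by
      have h1 : (j * j) % p = 1 := by
        have := hjj
        unfold Nat.ModEq at this
        rw [this, Nat.mod_eq_of_lt hpp.one_lt]
      refine ⟨(v ^ p) ^ (j * j / p), Z.pow_mem (I3 v hvP) _, ?_⟩
      rw [← pow_mul, ← pow_succ', sq]
      congr 1
      have := Nat.div_add_mod (j * j) p
      omega
    obtain ⟨z₃, hz₃, hvjj'⟩ := hvjj
    have ha2K : a ^ 2 ∈ K := K.pow_mem haK 2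
    have ha21 : a ^ 2 ≠ 1 := by
      intro h
      have hd : orderOf a ∣ 2 := orderOf_dvd_of_pow_eq_one h
      have hd' : orderOf a ∣ Nat.card K := orderOf_dvd_of_pow_eq_one (hKcard a haK)
      have hoa : Odd (orderOf a) := Odd.of_dvd_nat hodd hd'
      rcases (Nat.dvd_prime Nat.prime_two).1 hd with h1 | h2
      · exact ha1 (orderOf_eq_one_iff.1 h1)
      · rw [h2] at hoa; exact absurd hoa (by decide)
    apply hvZ
    apply KL (a ^ 2) ha2K ha21 v hvP (z₃ * z₂) (Z.mul_mem hz₃ hz₂)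
    rw [ha2, hvjj', mul_assoc]
  -- a generator of `K`
  obtain ⟨⟨c, hcK⟩, hgen⟩ := hKc.exists_generator
  have hcard : Nat.card K = orderOf c := by
    rw [← orderOf_eq_card_of_forall_mem_zpowers hgen]
    exact Subgroup.orderOf_mk c hcK
  rw [hcard]
  apply orderOf_dvd_of_pow_eq_one
  by_contra hne
  obtain ⟨l, z₁, hz₁, hcl⟩ := hform _ (hKL c hcK)
  have hpl : ¬ p ∣ l := by
    rintro ⟨m, rfl⟩
    have h1 : c * v * c⁻¹ ∈ Z := by
      rw [hcl, pow_mul]
      exact Z.mul_mem (Z.pow_mem (I3 v hvP) m) hz₁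
    have h2 : c⁻¹ * (c * v * c⁻¹) * c⁻¹⁻¹ = c * v * c⁻¹ := hKZ c⁻¹ (K.inv_mem hcK) _ h1
    apply hvZ
    have h3 : c⁻¹ * (c * v * c⁻¹) * c⁻¹⁻¹ = v := by group
    rw [h3] at h2
    rw [h2]; exact h1
  obtain ⟨z₄, hz₄, hc4⟩ := conj_pow_of_conj Z c v l z₁ hz₁ (hKZ c hcK)
    (fun w hw => I1 w hw v hvP) hcl (p - 1)
  have hfermat : l ^ (p - 1) ≡ 1 [MOD p] := by
    have hcop' : Nat.Coprime l p := (Nat.Prime.coprime_iff_not_dvd hpp).2 hpl |>.symm
    have := Nat.ModEq.pow_totient hcop'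
    rwa [Nat.totient_prime hpp] at this
  have hvl : ∃ z₅ ∈ Z, v ^ (l ^ (p - 1)) = v * z₅ := by
    have h1 : (l ^ (p - 1)) % p = 1 := by
      have := hfermat
      unfold Nat.ModEq at this
      rw [this, Nat.mod_eq_of_lt hpp.one_lt]
    refine ⟨(v ^ p) ^ (l ^ (p - 1) / p), Z.pow_mem (I3 v hvP) _, ?_⟩
    rw [← pow_mul, ← pow_succ']
    congr 1
    have := Nat.div_add_mod (l ^ (p - 1)) p
    omega
  obtain ⟨z₅, hz₅, hvl'⟩ := hvl
  apply hvZ
  apply KL (c ^ (p - 1)) (K.pow_mem hcK _) hne v hvP (z₅ * z₄) (Z.mul_mem hz₅ hz₄)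
  rw [hc4, hvl', mul_assoc]

end Cfsg.Agent.Lib.Helper42.BG1383
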