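import Mathlib
import Cfsg.Agent.Lib.Helper42.BG1383E2

set_option autoImplicit false

namespace Cfsg.Agent.Lib.Helper42.BG1383

/-- Conjugate of a subgroup. -/
def conjSub {G : Type*} [Group G] (k : G) (L : Subgroup G) : Subgroup G :=
  L.map (MulAut.conj k).toMonoidHom

theorem mem_conjSub {G : Type*} [Group G] (k : G) (L : Subgroup G) (x : G) :
    x ∈ conjSub k L ↔ k⁻¹ * x * k ∈ L := by
  unfold conjSub
  rw [Subgroup.mem_map_equiv, MulAut.conj_symm_apply]

theorem conjSub_one {G : Type*} [Group G] (L : Subgroup G) : conjSub 1 L = L := by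
  ext x; rw [mem_conjSub]; simp

theorem conjSub_mul {G : Type*} [Group G] (k k' : G) (L : Subgroup G) :
    conjSub (k * k') L = conjSub k (conjSub k' L) := by
  ext x; rw [mem_conjSub, mem_conjSub, mem_conjSub]; simp [mul_assoc]

theorem card_conjSub {G : Type*} [Group G] (k : G) (L : Subgroup G) :
    Nat.card (conjSub k L) = Nat.card L := by
  unfold conjSub
  exact Subgroup.card_map_of_injective (MulAut.conj k).injective

/-- Basic facts on `Z = P ⊓ C(K)`: it is the center of `P`. -/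
theorem center_setup {G : Type*} [Group G] [Finite G] (p : ℕ) [Fact p.Prime] (P K : Subgroup G)
    (hP : Nat.card P = p ^ 3) (hPna : ¬ IsMulCommutative P)
    (hZ : Nat.card ↥(P ⊓ Subgroup.centralizer (K : Set G)) = p)
    (hZ' : P ⊓ Subgroup.centralizer (K : Set G) ≤ ⁅P, P⁆) :
    (∀ z ∈ P ⊓ Subgroup.centralizer (K : Set G), ∀ x ∈ P, z * x = x * z) ∧
    (∀ x ∈ P, (∀ y ∈ P, y * x = x * y) → x ∈ P ⊓ Subgroup.centralizer (K : Set G)) := by
  classical
  obtain ⟨hc1, hc2, -⟩ := center_facts_of_card_cube (H := ↥P) p hP hPna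
  set Z : Subgroup G := P ⊓ Subgroup.centralizer (K : Set G) with hZdef
  have hZPcard : Nat.card ((Subgroup.center ↥P).map P.subtype) = p := by
    rw [Subgroup.card_map_of_injective P.subtype_injective, hc1]
  have hcommZP : ⁅P, P⁆ ≤ (Subgroup.center ↥P).map P.subtype := by
    rw [Subgroup.commutator_le]
    intro g₁ h₁ g₂ h₂
    refine ⟨⟨g₁, h₁⟩ * ⟨g₂, h₂⟩ * (⟨g₁, h₁⟩ : ↥P)⁻¹ * (⟨g₂, h₂⟩ : ↥P)⁻¹, hc2 _ _, ?_⟩
    simp [commutatorElement_def]
  have hZeq : Z = (Subgroup.center ↥P).map P.subtype :=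
    Subgroup.eq_of_le_of_card_ge (hZ'.trans hcommZP) (by rw [hZPcard, hZ])
  constructor
  · intro z hz x hx
    rw [hZeq] at hz
    obtain ⟨z', hz', rfl⟩ := hz
    have := Subgroup.mem_center_iff.1 hz' ⟨x, hx⟩
    exact (congrArg Subtype.val this).symm
  · intro x hx h
    rw [hZeq]
    refine ⟨⟨x, hx⟩, Subgroup.mem_center_iff.2 ?_, rfl⟩
    rintro ⟨y, hy⟩
    exact Subtype.ext (h y hy)

/-- The line through a noncentral element has order `p ^ 2`. -/
theorem card_line {G : Type*} [Group G] [Finite G] (p : ℕ) [Fact p.Prime] (P Z : Subgroup G)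
    (hP : Nat.card P = p ^ 3) (hZ : Nat.card Z = p) (hZP : Z ≤ P)
    (I1 : ∀ z ∈ Z, ∀ x ∈ P, z * x = x * z)
    (I4 : ∀ x ∈ P, (∀ y ∈ P, y * x = x * y) → x ∈ Z)
    (v : G) (hvP : v ∈ P) (hvZ : v ∉ Z) :
    Nat.card ↥(Subgroup.zpowers v ⊔ Z) = p ^ 2 ∧ Subgroup.zpowers v ⊔ Z ≤ P := by
  classical
  have hpp : p.Prime := Fact.out
  set L : Subgroup G := Subgroup.zpowers v ⊔ Z with hLdef
  set C : Subgroup G := P ⊓ Subgroup.centralizer ({v} : Set G) with hCdef
  have hmemC : ∀ x, x ∈ C ↔ x ∈ P ∧ v * x = x * v := by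
    intro x
    rw [hCdef, Subgroup.mem_inf, Subgroup.mem_centralizer_iff]
    simp
  have hLC : L ≤ C := by
    apply sup_le
    · rw [Subgroup.zpowers_le, hmemC]
      exact ⟨hvP, rfl⟩
    · intro z hz
      rw [hmemC]
      exact ⟨hZP hz, (I1 z hz v hvP).symm⟩
  have hCP : C ≤ P := inf_le_left
  have hvL : v ∈ L := Subgroup.mem_sup_left (Subgroup.mem_zpowers v)
  have hZL : Z ≤ L := le_sup_right
  have hdL : Nat.card L ∣ p ^ 3 := hP ▸ Subgroup.card_dvd_of_le (hLC.trans hCP)
  have hdC : Nat.card C ∣ p ^ 3 := hP ▸ Subgroup.card_dvd_of_le hCP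
  have hdLC : Nat.card L ∣ Nat.card C := Subgroup.card_dvd_of_le hLC
  obtain ⟨a', ha'3, ha'⟩ := (Nat.dvd_prime_pow hpp).1 hdL
  obtain ⟨b', hb'3, hb'⟩ := (Nat.dvd_prime_pow hpp).1 hdC
  have hZLd : p ∣ Nat.card L := hZ ▸ Subgroup.card_dvd_of_le hZL
  have ha0 : a' ≠ 0 := by
    rintro rfl
    rw [ha', pow_zero] at hZLd
    exact hpp.one_lt.ne' (Nat.dvd_one.1 hZLd)
  have ha1' : a' ≠ 1 := by
    rintro rfl
    rw [pow_one] at ha'
    have : Z = L := Subgroup.eq_of_le_of_card_ge hZL (by rw [ha', hZ])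
    exact hvZ (this ▸ hvL)
  have hb3 : b' ≠ 3 := by
    rintro rfl
    have : C = P := Subgroup.eq_of_le_of_card_ge hCP (by rw [hb', hP])
    apply hvZ
    apply I4 v hvP
    intro y hy
    have hyC : y ∈ C := this ▸ hy
    exact (((hmemC y).1 hyC).2).symm
  have hab : a' ≤ b' := by
    rw [ha', hb'] at hdLC
    exact (Nat.pow_dvd_pow_iff_le_right hpp.one_lt).1 hdLC
  have ha2 : a' = 2 := by omega
  refine ⟨by rw [ha', ha2], hLC.trans hCP⟩

/-- K-1383-E3 -/
theorem card_dvd_succ_of_no_invariant_line {G : Type*} [Group G] [Finite G] (p : ℕ) [Fact p.Prime]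
    (hp : p ≠ 2) (P K : Subgroup G) (hP : Nat.card P = p ^ 3) (hPna : ¬ IsMulCommutative P)
    (hKP : K ≤ Subgroup.normalizer (P : Set G)) (hKc : IsCyclic K)
    (hcop : (Nat.card K).Coprime p) (hodd : Odd (Nat.card K))
    (hZ : Nat.card ↥(P ⊓ Subgroup.centralizer (K : Set G)) = p)
    (hZ' : P ⊓ Subgroup.centralizer (K : Set G) ≤ ⁅P, P⁆)
    (hfix : ∀ k ∈ K, k ≠ 1 →
      P ⊓ Subgroup.centralizer ({k} : Set G) = P ⊓ Subgroup.centralizer (K : Set G))
    (hline : ∀ a ∈ K, a ≠ 1 → ∀ v ∈ P, v ∉ Subgroup.centralizer (K : Set G) →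
      a * v * a⁻¹ ∉ Subgroup.zpowers v ⊔ (P ⊓ Subgroup.centralizer (K : Set G))) :
    Nat.card K ∣ p + 1 := by
  classical
  have hpp : p.Prime := Fact.out
  obtain ⟨I1, I4⟩ := center_setup p P K hP hPna hZ hZ'
  set Z : Subgroup G := P ⊓ Subgroup.centralizer (K : Set G) with hZdef
  have hZP : Z ≤ P := inf_le_left
  have hKZ : ∀ k ∈ K, ∀ z ∈ Z, k * z * k⁻¹ = z := by
    intro k hk z hz
    have := Subgroup.mem_centralizer_iff.1 (Subgroup.mem_inf.1 hz).2 k hk
    rw [this, mul_inv_cancel_right]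
  have hKnorm : ∀ k ∈ K, ∀ x ∈ P, k * x * k⁻¹ ∈ P := by
    intro k hk x hx
    exact (Subgroup.mem_normalizer_iff.1 (hKP hk) x).1 hx
  have hcl : ∀ v ∈ P, v ∉ Z →
      Nat.card ↥(Subgroup.zpowers v ⊔ Z) = p ^ 2 ∧ Subgroup.zpowers v ⊔ Z ≤ P :=
    fun v hv hvZ => card_line p P Z hP hZ hZP I1 I4 v hv hvZ
  -- the set of lines
  let IsLine : Subgroup G → Prop := fun L => Z ≤ L ∧ L ≤ P ∧ Nat.card L = p ^ 2
  have hline_eq : ∀ L, IsLine L → ∀ v ∈ L, v ∉ Z → Subgroup.zpowers v ⊔ Z = L := by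
    intro L hL v hv hvZ
    apply Subgroup.eq_of_le_of_card_ge
    · exact sup_le ((Subgroup.zpowers_le).2 hv) hL.1
    · rw [(hcl v (hL.2.1 hv) hvZ).1, hL.2.2]
  have hconj : ∀ k ∈ K, ∀ L, IsLine L → IsLine (conjSub k L) := by
    intro k hk L hL
    refine ⟨?_, ?_, by rw [card_conjSub, hL.2.2]⟩
    · intro z hz
      rw [mem_conjSub]
      have := hKZ k⁻¹ (K.inv_mem hk) z hz
      rw [inv_inv] at this
      rw [this]; exact hL.1 hz
    · intro x hx
      rw [mem_conjSub] at hx
      have := hKnorm k hk _ (hL.2.1 hx)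
      have e : k * (k⁻¹ * x * k) * k⁻¹ = x := by group
      rwa [e] at this
  let X : Type _ := {L : Subgroup G // IsLine L}
  letI : MulAction ↥K X :=
    { smul := fun k L => ⟨conjSub (k : G) L.1, hconj k k.2 L.1 L.2⟩
      one_smul := fun L => Subtype.ext (conjSub_one L.1)
      mul_smul := fun k k' L => Subtype.ext (conjSub_mul (k : G) (k' : G) L.1) }
  have hsmul : ∀ (k : ↥K) (L : X), ((k • L : X) : Subgroup G) = conjSub (k : G) L.1 :=
    fun _ _ => rfl
  -- the action is free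
  have hfree : ∀ (k : ↥K), k ≠ 1 → ∀ L : X, k • L ≠ L := by
    intro k hk1 L hL
    obtain ⟨v, hvL, hvZ⟩ : ∃ v ∈ L.1, v ∉ Z := by
      by_contra hcon
      push Not at hcon
      have hle : L.1 ≤ Z := hcon
      have := Subgroup.card_le_of_le hle
      rw [L.2.2.2, hZ] at this
      have h2 := hpp.two_le
      nlinarith
    have hvP : v ∈ P := L.2.2.1 hvL
    have hLv := hline_eq L.1 L.2 v hvL hvZ
    have hk1' : (k : G) ≠ 1 := fun h => hk1 (Subtype.ext h)
    have hvC : v ∉ Subgroup.centralizer (K : Set G) :=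
      fun h => hvZ (Subgroup.mem_inf.2 ⟨hvP, h⟩)
    apply hline (k : G) k.2 hk1' v hvP hvC
    rw [hLv]
    have hmem : (k : G) * v * (k : G)⁻¹ ∈ conjSub (k : G) L.1 := by
      rw [mem_conjSub]
      have e : (k : G)⁻¹ * ((k : G) * v * (k : G)⁻¹) * (k : G) = v := by group
      rw [e]; exact hvL
    rw [← hsmul, hL] at hmem
    exact hmem
  -- counting the lines
  have hX : Nat.card X = p + 1 := by
    letI : Fintype G := Fintype.ofFinite G
    letI : Fintype (Subgroup G) := Fintype.ofFinite _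
    have hfs : ∀ H : Subgroup G, (Finset.univ.filter (fun x => x ∈ H)).card = Nat.card H := by
      intro H
      rw [Nat.card_eq_fintype_card, Fintype.card_subtype]
    set T : Finset G :=
      Finset.univ.filter (fun x => x ∈ P) \ Finset.univ.filter (fun x => x ∈ Z) with hT
    set t : Finset (Subgroup G) := Finset.univ.filter IsLine with ht
    have hcardt : t.card = Nat.card X := by
      rw [Nat.card_eq_fintype_card, Fintype.card_subtype]
    have hTcard : T.card + p = p ^ 3 := by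
      rw [hT, ← hP, ← hfs P]
      conv_lhs => rw [← hZ, ← hfs Z]
      apply Finset.card_sdiff_add_card_eq_card
      intro x hx
      simp only [Finset.mem_filter, Finset.mem_univ, true_and] at hx ⊢
      exact hZP hx
    have hfib : ∀ L ∈ t, (T.filter (fun a => Subgroup.zpowers a ⊔ Z = L)).card + p = p ^ 2 := by
      intro L hL
      have hL' : IsLine L := (Finset.mem_filter.1 hL).2
      have hEq : T.filter (fun a => Subgroup.zpowers a ⊔ Z = L) =
          Finset.univ.filter (fun x => x ∈ L) \ Finset.univ.filter (fun x => x ∈ Z) := by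
        ext a
        simp only [hT, Finset.mem_filter, Finset.mem_sdiff, Finset.mem_univ, true_and]
        constructor
        · rintro ⟨⟨_, haZ⟩, rfl⟩
          exact ⟨Subgroup.mem_sup_left (Subgroup.mem_zpowers a), haZ⟩
        · rintro ⟨haL, haZ⟩
          exact ⟨⟨hL'.2.1 haL, haZ⟩, hline_eq L hL' a haL haZ⟩
      rw [hEq, ← hL'.2.2, ← hfs L]
      conv_lhs => rw [← hZ, ← hfs Z]
      apply Finset.card_sdiff_add_card_eq_card
      intro x hx
      simp only [Finset.mem_filter, Finset.mem_univ, true_and] at hx ⊢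
      exact hL'.1 hx
    have hmaps : ∀ x ∈ T, (fun a => Subgroup.zpowers a ⊔ Z) x ∈ t := by
      intro x hx
      simp only [hT, Finset.mem_filter, Finset.mem_sdiff, Finset.mem_univ, true_and] at hx
      simp only [ht, Finset.mem_filter, Finset.mem_univ, true_and]
      exact ⟨le_sup_right, (hcl x hx.1 hx.2).2, (hcl x hx.1 hx.2).1⟩
    have hfw := Finset.card_eq_sum_card_fiberwise hmaps
    obtain ⟨c, hc⟩ : ∃ c, c + p = p ^ 2 := ⟨p ^ 2 - p, by
      have : p ≤ p ^ 2 := by nlinarith [hpp.two_le]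
      omega⟩
    have hsum : ∑ b ∈ t, (T.filter (fun a => Subgroup.zpowers a ⊔ Z = b)).card = t.card * c := by
      apply Finset.sum_const_nat
      intro L hL
      have := hfib L hL
      omega
    rw [hsum] at hfw
    have hcpos : 0 < c := by
      have : p < p ^ 2 := by nlinarith [hpp.two_le]
      omega
    have h1 : (p + 1) * c + p = p ^ 3 := by nlinarith [hc]
    have h2 : t.card * c = (p + 1) * c := by omega
    rw [← hcardt]
    exact Nat.eq_of_mul_eq_mul_right hcpos h2
  -- Burnside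
  haveI : Finite X := Subtype.finite
  letI : Fintype ↥K := Fintype.ofFinite _
  letI : Fintype X := Fintype.ofFinite _
  letI : ∀ g : ↥K, Fintype (MulAction.fixedBy X g) := fun g => Fintype.ofFinite _
  letI : Fintype (Quotient (MulAction.orbitRel ↥K X)) := Fintype.ofFinite _
  have burn := MulAction.sum_card_fixedBy_eq_card_orbits_mul_card_group ↥K X
  have hsum : ∑ g : ↥K, Fintype.card (MulAction.fixedBy X g) = Fintype.card X := by
    rw [Finset.sum_eq_single (1 : ↥K)]
    · apply Fintype.card_congr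
      exact
        { toFun := fun x => x.1
          invFun := fun x => ⟨x, one_smul _ x⟩
          left_inv := fun x => rfl
          right_inv := fun x => rfl }
    · intro g _ hg
      rw [Fintype.card_eq_zero_iff]
      exact ⟨fun x => hfree g hg x.1 x.2⟩
    · intro h; exact absurd (Finset.mem_univ _) h
  rw [hsum, ← Nat.card_eq_fintype_card, hX] at burn
  rw [Nat.card_eq_fintype_card]
  exact Dvd.intro_left _ burn.symm

end Cfsg.Agent.Lib.Helper42.BG1383
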