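import Mathlib
import Cfsg.Prelude.Def_Characters
import Cfsg.Prelude.Def_Blocks
import Cfsg.Agent.Lib.Helper84.SigmaExt
import Cfsg.Agent.Lib.Helper84.Ramified
import Cfsg.Agent.Lib.Helper83.Abelian
import Cfsg.Agent.Lib.Helper22.BlockRegular

/-!
# Keystone K-S4140-C (`camina_hall_fully_ramified`) for S4140 (Camina trichotomy); architect helper20.

`camina_hall_fully_ramified_aux` is the statement with K-A and K-B (for the given group) as hypotheses.
-/

set_option autoImplicit false
set_option linter.unusedSectionVars false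
set_option linter.unusedVariables false
set_option linter.style.haveILetI false

namespace Cfsg.Agent.Lib.Helper42.Camina

open Cfsg
open Cfsg.Agent.Lib.Helper84 (inertiaSub)
open scoped ComplexConjugate

universe u

section

variable {G : Type u} [Group G]

/-- Inner products are transported along a group isomorphism. -/
theorem classInner_comp_mulEquiv {H K : Type u} [Group H] [Group K] [Fintype H] [Fintype K]
    (e : H ≃* K) (φ ψ : K → ℂ) :
    classInner (fun h => φ (e h)) (fun h => ψ (e h)) = classInner φ ψ := by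
  rw [classInner, classInner, Nat.card_congr e.toEquiv]
  congr 1
  exact Equiv.sum_comp e.toEquiv (fun k => φ k * conj (ψ k))

/-- Sums are transported along a group isomorphism. -/
theorem sum_comp_mulEquiv {H K : Type u} [Group H] [Group K] [Fintype H] [Fintype K]
    (e : H ≃* K) (F : K → ℂ) : ∑ h : H, F (e h) = ∑ k : K, F k :=
  Equiv.sum_comp e.toEquiv F

end

section Aux

variable {G : Type u} [Group G] [Fintype G] (N : Subgroup G) [hN : N.Normal] [Fintype N]

theorem camina_hall_fully_ramified_aux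
    (hKA : ∀ {χ : G → ℂ}, IsIrrCharacter G χ → (∃ n ∈ N, χ n ≠ χ 1) → ∀ g : G, g ∉ N → χ g = 0)
    (hKB : ∀ {χ : G → ℂ}, IsIrrCharacter G χ → ∀ {θ : N → ℂ}, IsIrrCharacter N θ →
      (θ ≠ fun _ => 1) → classInner (fun n : N => χ n) θ ≠ 0 →
      ∃ m : ℕ, (m : ℂ) = classInner (fun n : N => χ n) θ ∧
        m ^ 2 * (inertiaSub N θ).index = N.index)
    (A : Subgroup G) (hNA : N ≤ A) (hcop : Nat.Coprime (N.relIndex A) A.index)
    (θ : ↥(N.subgroupOf A) → ℂ) (hθ : IsIrrCharacter ↥(N.subgroupOf A) θ)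
    (hθ1 : θ ≠ fun _ => 1)
    (hinv : ∀ a : ↥A, Cfsg.Agent.Lib.Helper84.conjFun (N.subgroupOf A) a θ = θ) :
    ∃ (η : ↥A → ℂ) (f : ℕ), IsIrrCharacter ↥A η ∧ f ^ 2 = (N.subgroupOf A).index ∧
      ∀ m : ↥(N.subgroupOf A), η (m : ↥A) = (f : ℂ) * θ m := by
  classical
  haveI : Fintype ↥A := Fintype.ofFinite _
  haveI : Fintype ↥(N.subgroupOf A) := Fintype.ofFinite _
  haveI : Fintype (IrrCharacter ↥A) := Fintype.ofFinite _
  let e : ↥(N.subgroupOf A) ≃* ↥N := Subgroup.subgroupOfEquivOfLe hNA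
  -- transport of θ to N
  set θ₀ : ↥N → ℂ := fun n => θ (e.symm n) with hθ₀def
  have hθe : θ = fun x : ↥(N.subgroupOf A) => θ₀ (e x) := by
    funext x
    simp [hθ₀def]
  have hθ₀ : IsIrrCharacter ↥N θ₀ :=
    Cfsg.Agent.Lib.Helper84.isIrrCharacter_comp_mulEquiv e.symm hθ
  have hθ₀1 : θ₀ ≠ fun _ => 1 := by
    intro h
    apply hθ1
    rw [hθe, h]
  -- A is contained in the inertia group
  have hAT : A ≤ inertiaSub N θ₀ := by
    intro a ha
    rw [Cfsg.Agent.Lib.Helper84.mem_inertiaSub]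
    funext n
    rw [Cfsg.Agent.Lib.Helper84.conjFun_apply]
    have h1 := congrFun (hinv ⟨a, ha⟩) (e.symm n)
    rw [Cfsg.Agent.Lib.Helper84.conjFun_apply] at h1
    simp only [hθ₀def]
    rw [← h1]
    congr 1
  -- an irreducible character of G over θ₀
  obtain ⟨χ', hχ'⟩ := Cfsg.Agent.Lib.Helper22.exists_irr_over N (⟨θ₀, hθ₀⟩ : IrrCharacter ↥N)
  obtain ⟨χ, hχ⟩ := χ'
  simp only at hχ'
  have hχchar : IsCharacter G χ := Cfsg.Agent.Lib.Helper83.isCharacter_of_irr hχ
  -- χ is not trivial on N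
  have hker : ∃ n ∈ N, χ n ≠ χ 1 := by
    by_contra hcon
    push Not at hcon
    apply hχ'
    have h1 : (fun n : ↥N => χ n) = (χ 1) • (fun _ : ↥N => (1 : ℂ)) := by
      funext n
      simp [hcon n n.2]
    rw [h1, Cfsg.Agent.Lib.Helper83.classInner_smul_left,
      Cfsg.Agent.Lib.Helper84.classInner_irr_irr Cfsg.Agent.Lib.Helper83.isIrrCharacter_one hθ₀,
      if_neg (fun h => hθ₀1 h.symm), mul_zero]
  have hvan := hKA hχ hker
  obtain ⟨m, hm, hmidx⟩ := hKB hχ hθ₀ hθ₀1 hχ'
  have hm0 : m ≠ 0 := by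
    rintro rfl
    apply hχ'
    rw [← hm]
    simp
  -- the restriction of χ to A
  set χA : ↥A → ℂ := fun a => χ a with hχAdef
  have hχA : IsCharacter ↥A χA := Cfsg.Agent.Lib.Helper83.isCharacter_restrict A hχchar
  have hresM : classInner (fun x : ↥(N.subgroupOf A) => χA x) θ = (m : ℂ) := by
    rw [hm, hθe]
    exact classInner_comp_mulEquiv e (fun n : ↥N => χ n) θ₀
  -- find a constituent η of χA lying over θ
  have hdec := Cfsg.Agent.Lib.Helper83.char_eq_sum_irrMult hχA
  have hex : ∃ η : IrrCharacter ↥A, Cfsg.Agent.Lib.Helper83.irrMult χA η ≠ 0 ∧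
      classInner (fun x : ↥(N.subgroupOf A) => (η : ↥A → ℂ) x) θ ≠ 0 := by
    by_contra hcon
    push Not at hcon
    have h2 : (fun x : ↥(N.subgroupOf A) => χA x) = ∑ ψ : IrrCharacter ↥A,
        (Cfsg.Agent.Lib.Helper83.irrMult χA ψ : ℂ) • (fun x : ↥(N.subgroupOf A) => (ψ : ↥A → ℂ) x) := by
      funext x
      conv_lhs => rw [hdec]
      simp [Finset.sum_apply]
    have h3 : classInner (fun x : ↥(N.subgroupOf A) => χA x) θ = 0 := by
      rw [h2, Cfsg.Agent.Lib.Helper83.classInner_sum_left]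
      apply Finset.sum_eq_zero
      intro ψ _
      rw [Cfsg.Agent.Lib.Helper83.classInner_smul_left]
      by_cases hψ : Cfsg.Agent.Lib.Helper83.irrMult χA ψ = 0
      · simp [hψ]
      · rw [hcon ψ hψ, mul_zero]
    rw [hresM] at h3
    exact hm0 (by exact_mod_cast h3)
  obtain ⟨⟨η, hη⟩, hmult, hover⟩ := hex
  simp only at hover
  obtain ⟨f, hf, hfeq⟩ := Cfsg.Agent.Lib.Helper84.restrict_eq_smul_of_invariant (N.subgroupOf A) hη hθ hinv hover
  have hf0 : f ≠ 0 := by
    rintro rfl
    apply hover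
    rw [← hf]
    simp
  have hηM : ∀ x : ↥(N.subgroupOf A), η (x : ↥A) = (f : ℂ) * θ x := by
    intro x
    have := congrFun hfeq x
    simpa using this
  refine ⟨η, f, hη, ?_, hηM⟩
  -- cardinalities
  have hcardM : Nat.card ↥(N.subgroupOf A) = Nat.card ↥N := Nat.card_congr e.toEquiv
  have hcardA : Nat.card ↥(N.subgroupOf A) * (N.subgroupOf A).index = Nat.card ↥A := (N.subgroupOf A).card_mul_index
  have hNpos : 0 < Nat.card ↥N := Nat.card_pos
  -- (1) f ^ 2 ≤ index
  have h1 : f ^ 2 ≤ (N.subgroupOf A).index := by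
    have hsumA := Cfsg.Agent.Lib.Helper83.irr_sum_normSq (⟨η, hη⟩ : IrrCharacter ↥A)
    have hsumM := Cfsg.Agent.Lib.Helper83.irr_sum_normSq (⟨θ, hθ⟩ : IrrCharacter ↥(N.subgroupOf A))
    simp only at hsumA hsumM
    have hle : ∑ x : ↥(N.subgroupOf A), Complex.normSq (η (x : ↥A)) ≤ ∑ a : ↥A, Complex.normSq (η a) := by
      rw [← Finset.sum_subtype (Finset.univ.filter (fun a : ↥A => a ∈ N.subgroupOf A))
        (fun a => by simp) (fun a => Complex.normSq (η a))]
      exact Finset.sum_le_sum_of_subset_of_nonneg (Finset.filter_subset _ _)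
        (fun a _ _ => Complex.normSq_nonneg _)
    have hM' : ∑ x : ↥(N.subgroupOf A), Complex.normSq (η (x : ↥A)) = (f : ℝ) ^ 2 * (Nat.card ↥(N.subgroupOf A) : ℝ) := by
      rw [← hsumM, Finset.mul_sum]
      refine Finset.sum_congr rfl fun x _ => ?_
      rw [hηM x, Complex.normSq_mul, Complex.normSq_natCast]
      ring
    rw [hM', hsumA] at hle
    have hle' : f ^ 2 * Nat.card ↥(N.subgroupOf A) ≤ Nat.card ↥A := by exact_mod_cast hle
    rw [← hcardA, mul_comm] at hle'
    exact Nat.le_of_mul_le_mul_left hle' (hcardM ▸ hNpos)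
  -- (2) a * index = f * m
  set a := Cfsg.Agent.Lib.Helper83.irrMult χA (⟨η, hη⟩ : IrrCharacter ↥A) with hadef
  have ha : (a : ℂ) = classInner χA η := Cfsg.Agent.Lib.Helper83.irrMult_cast hχA _
  have h2 : a * (N.subgroupOf A).index = f * m := by
    have hsum : ∑ x : ↥A, χA x * conj (η x) = ∑ x : ↥(N.subgroupOf A), χA x * conj (η (x : ↥A)) := by
      rw [← Finset.sum_subtype (Finset.univ.filter (fun a : ↥A => a ∈ N.subgroupOf A))
        (fun a => by simp) (fun a => χA a * conj (η a))]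
      symm
      apply Finset.sum_subset (Finset.filter_subset _ _)
      intro x _ hx
      have hxM : x ∉ N.subgroupOf A := by simpa using hx
      have : (x : G) ∉ N := fun h => hxM (Subgroup.mem_subgroupOf.mpr h)
      simp [hχAdef, hvan (x : G) this]
    have hsum2 : ∑ x : ↥(N.subgroupOf A), χA x * conj (η (x : ↥A)) =
        (f : ℂ) * ((Nat.card ↥N : ℂ) * (m : ℂ)) := by
      have h3 : ∀ x : ↥(N.subgroupOf A), χA x * conj (η (x : ↥A)) =
          (f : ℂ) * ((fun n : ↥N => χ n * conj (θ₀ n)) (e x)) := by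
        intro x
        rw [hηM x, hθe]
        simp only [map_mul, Complex.conj_natCast]
        show χ ((x : ↥A) : G) * _ = _
        have : ((e x : ↥N) : G) = ((x : ↥A) : G) := rfl
        rw [this]
        ring
      rw [Finset.sum_congr rfl (fun x _ => h3 x), ← Finset.mul_sum,
        sum_comp_mulEquiv e (fun n : ↥N => χ n * conj (θ₀ n))]
      congr 1
      rw [hm, classInner]
      have : (Nat.card ↥N : ℂ) ≠ 0 := by exact_mod_cast hNpos.ne'
      field_simp
    have h4 : (a : ℂ) * (Nat.card ↥A : ℂ) = (f : ℂ) * ((Nat.card ↥N : ℂ) * (m : ℂ)) := by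
      rw [ha, classInner, ← hsum2, ← hsum]
      have : (Nat.card ↥A : ℂ) ≠ 0 := by exact_mod_cast (Nat.card_pos (α := ↥A)).ne'
      field_simp
    have h5 : a * Nat.card ↥A = f * (Nat.card ↥N * m) := by exact_mod_cast h4
    rw [← hcardA, hcardM] at h5
    have h6 : Nat.card ↥N * (a * (N.subgroupOf A).index) = Nat.card ↥N * (f * m) := by
      calc Nat.card ↥N * (a * (N.subgroupOf A).index) = a * (Nat.card ↥N * (N.subgroupOf A).index) := by ring
        _ = f * (Nat.card ↥N * m) := h5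
        _ = Nat.card ↥N * (f * m) := by ring
    exact Nat.eq_of_mul_eq_mul_left hNpos h6
  -- (3) index arithmetic
  set T := inertiaSub N θ₀ with hTdef
  have hrel : N.relIndex A = (N.subgroupOf A).index := rfl
  have hT0 : T.index ≠ 0 := Subgroup.index_ne_zero_of_finite
  have hidx1 : N.relIndex A * A.index = N.index := Subgroup.relIndex_mul_index hNA
  have hidx2 : A.relIndex T * T.index = A.index := Subgroup.relIndex_mul_index hAT
  have hm2 : m ^ 2 = A.relIndex T * (N.subgroupOf A).index := by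
    have : m ^ 2 * T.index = (A.relIndex T * (N.subgroupOf A).index) * T.index := by
      rw [hmidx, ← hidx1, ← hidx2, hrel]; ring
    exact Nat.eq_of_mul_eq_mul_right (Nat.pos_of_ne_zero hT0) this
  have hr0 : (N.subgroupOf A).index ≠ 0 := Subgroup.index_ne_zero_of_finite
  have hcop' : Nat.Coprime (N.subgroupOf A).index (A.relIndex T) := by
    rw [← hrel]
    exact Nat.Coprime.coprime_dvd_right (Dvd.intro _ hidx2) hcop
  have h3 : a ^ 2 * (N.subgroupOf A).index = f ^ 2 * A.relIndex T := by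
    have : (a ^ 2 * (N.subgroupOf A).index) * (N.subgroupOf A).index = (f ^ 2 * A.relIndex T) * (N.subgroupOf A).index := by
      calc (a ^ 2 * (N.subgroupOf A).index) * (N.subgroupOf A).index = (a * (N.subgroupOf A).index) ^ 2 := by ring
        _ = (f * m) ^ 2 := by rw [h2]
        _ = f ^ 2 * m ^ 2 := by ring
        _ = (f ^ 2 * A.relIndex T) * (N.subgroupOf A).index := by rw [hm2]; ring
    exact Nat.eq_of_mul_eq_mul_right (Nat.pos_of_ne_zero hr0) this
  have hdvd : (N.subgroupOf A).index ∣ f ^ 2 := by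
    have : (N.subgroupOf A).index ∣ f ^ 2 * A.relIndex T := Dvd.intro_left _ h3
    exact hcop'.dvd_of_dvd_mul_right this
  have h4 : (N.subgroupOf A).index ≤ f ^ 2 := Nat.le_of_dvd (pow_pos (Nat.pos_of_ne_zero hf0) 2) hdvd
  exact le_antisymm h1 h4

end Aux

end Cfsg.Agent.Lib.Helper42.Camina
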