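import Mathlib
import Cfsg.Agent.Lib.Helper42.CaminaCAux
import Cfsg.Agent.Lib.Helper18.CaminaA
import Cfsg.Agent.Lib.Helper32.CaminaB

/-!
# Keystone K-S4140-C (`camina_hall_fully_ramified`) for S4140 (Camina trichotomy); architect helper20.
-/

set_option autoImplicit false
set_option linter.style.haveILetI false

namespace Cfsg.Agent.Lib.Helper42.Camina

open Cfsg
open Cfsg.Agent.Lib.Helper84 (inertiaSub)

universe u

/-- **K-S4140-C (R).** In a Camina pair `(G,N)`, if `N ≤ A ≤ G` and `|A:N|` is prime to `|G:A|` then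
every nontrivial `A`-invariant irreducible character of `N` is fully ramified in `A`. -/
theorem camina_hall_fully_ramified {G : Type u} [Group G] [Finite G] (N : Subgroup G)
    [hN : N.Normal]
    (hcam : ∀ g : G, g ∉ N → ∀ n ∈ N, ∃ x : G, x * g * x⁻¹ = g * n)
    (A : Subgroup G) (hNA : N ≤ A) (hcop : Nat.Coprime (N.relIndex A) A.index)
    (θ : ↥(N.subgroupOf A) → ℂ) (hθ : IsIrrCharacter ↥(N.subgroupOf A) θ)
    (hθ1 : θ ≠ fun _ => 1)
    (hinv : ∀ a : ↥A, Cfsg.Agent.Lib.Helper84.conjFun (N.subgroupOf A) a θ = θ) :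
    ∃ (η : ↥A → ℂ) (f : ℕ), IsIrrCharacter ↥A η ∧ f ^ 2 = (N.subgroupOf A).index ∧
      ∀ m : ↥(N.subgroupOf A), η (m : ↥A) = (f : ℂ) * θ m := by
  classical
  haveI : Fintype G := Fintype.ofFinite G
  haveI : Fintype ↥N := Fintype.ofFinite _
  exact camina_hall_fully_ramified_aux N
    (fun hχ hker g hg => Cfsg.Agent.Lib.Helper18.Camina.camina_irr_vanish N hcam hχ hker g hg)
    (fun hχ _ hθ' hθ1' hcon =>
      Cfsg.Agent.Lib.Helper32.Camina.camina_clifford_count N hcam hχ hθ' hθ1' hcon)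
    A hNA hcop θ hθ hθ1 hinv

end Cfsg.Agent.Lib.Helper42.Camina
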