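import Mathlib

set_option autoImplicit false
set_option linter.style.haveILetI false
set_option linter.unusedSectionVars false
set_option linter.unusedVariables false

/-!
Class sizes of two coprime "types" (Chen's lemma towards Thompson's conjecture).
If every nontrivial centralizer of `G` has order `k * a` with `1 < a ∣ m₁` or `k * b` with
`1 < b ∣ m₂` (`m₁, m₂` coprime, `|G| = k m₁ m₂`, both types occurring), then `k = 1`.
-/

namespace Cfsg.Agent.Lib.Helper42.ClassTypes

variable {G : Type*} [Group G]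

/-- order of the centralizer of an element -/
noncomputable def cs (g : G) : ℕ := Nat.card (Subgroup.centralizer ({g} : Set G))

/-- the centralizer of `g` has order `k * a` with `1 < a ∣ m`. -/
def Ty (k m : ℕ) (g : G) : Prop := ∃ a, a ∣ m ∧ 1 < a ∧ cs g = k * a

theorem mem_cent_iff {g x : G} : g ∈ Subgroup.centralizer ({x} : Set G) ↔ Commute x g := by
  rw [Subgroup.mem_centralizer_singleton_iff]
  constructor
  · intro h; exact h.symm
  · intro h; exact h.eq.symm

theorem cs_conj (g x : G) : cs (g * x * g⁻¹) = cs x := by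
  unfold cs
  refine Nat.card_congr ⟨fun y => ⟨g⁻¹ * y.1 * g, ?_⟩, fun y => ⟨g * y.1 * g⁻¹, ?_⟩, ?_, ?_⟩
  · have := mem_cent_iff.1 y.2
    rw [mem_cent_iff]
    have h : (g * x * g⁻¹) * y.1 = y.1 * (g * x * g⁻¹) := this
    show x * (g⁻¹ * y.1 * g) = (g⁻¹ * y.1 * g) * x
    calc x * (g⁻¹ * y.1 * g) = g⁻¹ * ((g * x * g⁻¹) * y.1) * g := by group
      _ = g⁻¹ * (y.1 * (g * x * g⁻¹)) * g := by rw [h]
      _ = (g⁻¹ * y.1 * g) * x := by group
  · have := mem_cent_iff.1 y.2
    rw [mem_cent_iff]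
    have h : x * y.1 = y.1 * x := this
    show (g * x * g⁻¹) * (g * y.1 * g⁻¹) = (g * y.1 * g⁻¹) * (g * x * g⁻¹)
    calc (g * x * g⁻¹) * (g * y.1 * g⁻¹) = g * (x * y.1) * g⁻¹ := by group
      _ = g * (y.1 * x) * g⁻¹ := by rw [h]
      _ = (g * y.1 * g⁻¹) * (g * x * g⁻¹) := by group
  · intro y; apply Subtype.ext; show g * (g⁻¹ * y.1 * g) * g⁻¹ = y.1; group
  · intro y; apply Subtype.ext; show g⁻¹ * (g * y.1 * g⁻¹) * g = y.1; group

theorem ty_conj {k m : ℕ} (g x : G) : Ty k m (g * x * g⁻¹) ↔ Ty k m x := by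
  unfold Ty; rw [cs_conj]

/-- centralizer of a product of commuting elements of coprime orders -/
theorem centralizer_mul_le_left {x y : G} (hc : Commute x y)
    (hcop : (orderOf x).Coprime (orderOf y)) :
    Subgroup.centralizer ({x * y} : Set G) ≤ Subgroup.centralizer ({x} : Set G) := by
  intro g hg
  rw [mem_cent_iff] at hg ⊢
  have h1 : (x * y) ^ orderOf y = x ^ orderOf y := by
    rw [hc.mul_pow, pow_orderOf_eq_one, mul_one]
  have h2 : Commute (x ^ orderOf y) g := by
    rw [← h1]; exact hg.pow_left _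
  obtain ⟨m, hm⟩ := exists_pow_eq_self_of_coprime (x := x) (n := orderOf y) hcop.symm
  rw [← hm]
  exact h2.pow_left _

theorem centralizer_mul_le_right {x y : G} (hc : Commute x y)
    (hcop : (orderOf x).Coprime (orderOf y)) :
    Subgroup.centralizer ({x * y} : Set G) ≤ Subgroup.centralizer ({y} : Set G) := by
  have := centralizer_mul_le_left hc.symm hcop.symm
  rwa [hc.symm.eq] at this

theorem centralizer_le_pow (x : G) (n : ℕ) :
    Subgroup.centralizer ({x} : Set G) ≤ Subgroup.centralizer ({x ^ n} : Set G) := by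
  intro g hg
  rw [mem_cent_iff] at hg ⊢
  exact hg.pow_left _

/-- The hypotheses. -/
structure Hyp (G : Type*) [Group G] (k m₁ m₂ : ℕ) : Prop where
  card : Nat.card G = k * m₁ * m₂
  cop : Nat.Coprime m₁ m₂
  cover : ∀ g : G, g ≠ 1 → Ty k m₁ g ∨ Ty k m₂ g
  ex₁ : ∃ g : G, g ≠ 1 ∧ Ty k m₁ g
  ex₂ : ∃ g : G, g ≠ 1 ∧ Ty k m₂ g

namespace Hyp

variable {k m₁ m₂ : ℕ}

theorem symm (H : Hyp G k m₁ m₂) : Hyp G k m₂ m₁ where
  card := by rw [H.card]; ring
  cop := H.cop.symm
  cover := fun g hg => (H.cover g hg).symm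
  ex₁ := H.ex₂
  ex₂ := H.ex₁

variable [Finite G]

theorem kpos (H : Hyp G k m₁ m₂) : 0 < k := by
  have h := H.card
  have : 0 < Nat.card G := Nat.card_pos
  rcases Nat.eq_zero_or_pos k with h0 | h0
  · rw [h0] at h; simp at h; omega
  · exact h0

theorem excl (H : Hyp G k m₁ m₂) {g : G} (h1 : Ty k m₁ g) (h2 : Ty k m₂ g) : False := by
  obtain ⟨a, ha, ha1, hca⟩ := h1
  obtain ⟨b, hb, hb1, hcb⟩ := h2
  have hab : a = b := Nat.eq_of_mul_eq_mul_left H.kpos (hca.symm.trans hcb)
  subst hab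
  have : a ∣ 1 := by
    have := Nat.dvd_gcd ha hb
    rwa [H.cop] at this
  have := Nat.le_of_dvd one_pos this
  omega

/-- larger centralizer, same type -/
theorem ty_of_le (H : Hyp G k m₁ m₂) {x y : G} (hy : y ≠ 1)
    (hle : Subgroup.centralizer ({x} : Set G) ≤ Subgroup.centralizer ({y} : Set G))
    (hx : Ty k m₂ x) : Ty k m₂ y := by
  rcases H.cover y hy with h1 | h2
  · exfalso
    obtain ⟨b, hb, hb1, hcb⟩ := hx
    obtain ⟨a, ha, ha1, hca⟩ := h1
    have hdvd : cs x ∣ cs y := Subgroup.card_dvd_of_le hle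
    rw [hcb, hca] at hdvd
    have hba : b ∣ a := Nat.dvd_of_mul_dvd_mul_left H.kpos hdvd
    have : b ∣ 1 := by
      have := Nat.dvd_gcd (hba.trans ha) hb
      rwa [H.cop] at this
    have := Nat.le_of_dvd one_pos this
    omega
  · exact h2

theorem ty_of_le' (H : Hyp G k m₁ m₂) {x y : G} (hy : y ≠ 1)
    (hle : Subgroup.centralizer ({x} : Set G) ≤ Subgroup.centralizer ({y} : Set G))
    (hx : Ty k m₁ x) : Ty k m₁ y := H.symm.ty_of_le hy hle hx

/-- smaller centralizer, same type -/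
theorem ty_of_ge (H : Hyp G k m₁ m₂) {x y : G} (hx : x ≠ 1) (hy : y ≠ 1)
    (hle : Subgroup.centralizer ({x} : Set G) ≤ Subgroup.centralizer ({y} : Set G))
    (hy2 : Ty k m₂ y) : Ty k m₂ x := by
  rcases H.cover x hx with h1 | h2
  · exact (H.excl (H.ty_of_le' hy hle h1) hy2).elim
  · exact h2

theorem mul_ne_one_of_coprime {x y : G} (hx : x ≠ 1) (hc : Commute x y)
    (hcop : (orderOf x).Coprime (orderOf y)) : x * y ≠ 1 := by
  intro h
  have h1 : orderOf (x * y) = orderOf x * orderOf y := hc.orderOf_mul_eq_mul_orderOf_of_coprime hcop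
  rw [h, orderOf_one] at h1
  have : orderOf x = 1 := Nat.eq_one_of_mul_eq_one_right h1.symm
  exact hx (orderOf_eq_one_iff.1 this)

/-- commuting elements of coprime orders have the same type -/
theorem ty_of_commute_coprime (H : Hyp G k m₁ m₂) {x y : G} (hx : x ≠ 1) (hy : y ≠ 1)
    (hc : Commute x y) (hcop : (orderOf x).Coprime (orderOf y)) (hx2 : Ty k m₂ x) :
    Ty k m₂ y := by
  have hxy : x * y ≠ 1 := mul_ne_one_of_coprime hx hc hcop
  have h1 := H.ty_of_ge hxy hx (centralizer_mul_le_left hc hcop) hx2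
  exact H.ty_of_le hy (centralizer_mul_le_right hc hcop) h1


theorem exists_pair (H : Hyp G k m₁ m₂) (p : ℕ) [hp : Fact p.Prime] (hp2 : ¬ p ∣ m₂) :
    ∃ x s : G, x ≠ 1 ∧ Ty k m₂ x ∧ s ≠ 1 ∧ Ty k m₂ s ∧ (orderOf s).Coprime p ∧
      Subgroup.centralizer ({x} : Set G) ≤ Subgroup.centralizer ({s} : Set G) := by
  obtain ⟨x, hx1, hxT⟩ := H.ex₂
  have hox : orderOf x ≠ 0 := (orderOf_pos x).ne'
  by_cases hr : ∃ r : ℕ, r.Prime ∧ r ≠ p ∧ r ∣ orderOf x
  · obtain ⟨r, hrp, hrne, hrd⟩ := hr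
    have hs : orderOf (x ^ (orderOf x / r)) = r := orderOf_pow_orderOf_div hox hrd
    have hs1 : x ^ (orderOf x / r) ≠ 1 := by
      intro h; rw [h, orderOf_one] at hs; exact hrp.one_lt.ne hs
    refine ⟨x, x ^ (orderOf x / r), hx1, hxT, hs1,
      H.ty_of_le hs1 (centralizer_le_pow x _) hxT, ?_, centralizer_le_pow x _⟩
    rw [hs]; exact (Nat.coprime_primes hrp hp.out).2 hrne
  · push Not at hr
    have hpow : orderOf x = p ^ (orderOf x).primeFactorsList.length :=
      Nat.eq_prime_pow_of_unique_prime_dvd hox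
        (fun {d} hd hdd => by by_contra hne; exact hr d hd hne hdd)
    obtain ⟨b, hb, hb1, hcb⟩ := hxT
    obtain ⟨q, hq, hqb⟩ := Nat.exists_prime_and_dvd (show b ≠ 1 by omega)
    have hqp : q ≠ p := by rintro rfl; exact hp2 (hqb.trans hb)
    haveI : Fact q.Prime := ⟨hq⟩
    have hqC : q ∣ Nat.card (Subgroup.centralizer ({x} : Set G)) := by
      show q ∣ cs x; rw [hcb]; exact hqb.trans (Dvd.intro_left k rfl)
    obtain ⟨t', ht'⟩ := exists_prime_orderOf_dvd_card' q hqC
    have hot : orderOf (t' : G) = q := by rw [← ht']; exact Subgroup.orderOf_coe t'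
    have hc : Commute x (t' : G) := mem_cent_iff.1 t'.2
    have hcop : (orderOf x).Coprime (orderOf (t' : G)) := by
      rw [hot, hpow]; exact Nat.Coprime.pow_left _ ((Nat.coprime_primes hp.out hq).2 hqp.symm)
    have ht1 : (t' : G) ≠ 1 := by
      intro h; rw [h, orderOf_one] at hot; exact hq.one_lt.ne hot
    have hxt1 : x * (t' : G) ≠ 1 := mul_ne_one_of_coprime hx1 hc hcop
    have hxT' : Ty k m₂ x := ⟨b, hb, hb1, hcb⟩
    have hxtT : Ty k m₂ (x * (t' : G)) :=
      H.ty_of_ge hxt1 hx1 (centralizer_mul_le_left hc hcop) hxT'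
    refine ⟨x * (t' : G), (t' : G), hxt1, hxtT, ht1,
      H.ty_of_le ht1 (centralizer_mul_le_right hc hcop) hxtT, ?_,
      centralizer_mul_le_right hc hcop⟩
    rw [hot]; exact (Nat.coprime_primes hq hp.out).2 hqp

/-- membership in a conjugate Sylow subgroup -/
theorem sylow_mem_iff {p : ℕ} [Fact p.Prime] (g : G) (P₀ P : Sylow p G) (h : g • P₀ = P) (x : G) :
    x ∈ (P : Subgroup G) ↔ g⁻¹ * x * g ∈ (P₀ : Subgroup G) := by
  rw [← h, Sylow.coe_subgroup_smul, Subgroup.mem_pointwise_smul_iff_inv_smul_mem]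
  simp [MulAut.smul_def]

/-- the `p`-adic bookkeeping: a `p`-power dividing `k * b` with `p ∤ b` divides `k`. -/
theorem pow_dvd_of_dvd_mul {p e k b : ℕ} (hp : p.Prime) (hb : ¬ p ∣ b) (h : p ^ e ∣ k * b) :
    p ^ e ∣ k :=
  (Nat.Coprime.pow_left e ((Nat.Prime.coprime_iff_not_dvd hp).2 hb)).dvd_of_dvd_mul_right h

theorem claim_exists (H : Hyp G k m₁ m₂) (p : ℕ) [hp : Fact p.Prime] (hpk : p ∣ k)
    (hp2 : ¬ p ∣ m₂) :
    ∃ P : Sylow p G, ∀ z ∈ (P : Subgroup G), z ≠ 1 →
      (∀ y ∈ (P : Subgroup G), Commute z y) → Ty k m₂ z := by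
  obtain ⟨x, s, hx1, hxT, hs1, hsT, hscop, hle⟩ := H.exists_pair p hp2
  have hk0 : k ≠ 0 := H.kpos.ne'
  set n := k.factorization p with hn
  have hn1 : 1 ≤ n := hp.out.factorization_pos_of_dvd hk0 hpk
  have hpnk : p ^ n ∣ k := (hp.out.pow_dvd_iff_le_factorization hk0).2 le_rfl
  -- a subgroup of order p^n in the centralizer of x
  obtain ⟨b, hb, hb1, hcb⟩ := hxT
  have hdvd : p ^ n ∣ Nat.card (Subgroup.centralizer ({x} : Set G)) := by
    show p ^ n ∣ cs x; rw [hcb]; exact hpnk.trans (Dvd.intro _ rfl)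
  obtain ⟨K, hK⟩ := Sylow.exists_subgroup_card_pow_prime p hdvd
  set P' : Subgroup G := K.map (Subgroup.centralizer ({x} : Set G)).subtype with hP'
  have hP'card : Nat.card P' = p ^ n := by
    rw [hP', Subgroup.card_map_of_injective (Subgroup.subtype_injective _)]; exact hK
  have hP'le : P' ≤ Subgroup.centralizer ({x} : Set G) := Subgroup.map_subtype_le _
  have hP'p : IsPGroup p P' := IsPGroup.of_card hP'card
  -- every nontrivial element of P' has type 2
  have hP'T : ∀ w ∈ P', w ≠ 1 → Ty k m₂ w := by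
    intro w hw hw1
    have hcw : Commute s w := mem_cent_iff.1 (hle (hP'le hw))
    obtain ⟨j, hj⟩ := hP'p ⟨w, hw⟩
    have hj' : w ^ p ^ j = 1 := by
      have := congrArg Subtype.val hj
      simpa using this
    obtain ⟨i, -, hi⟩ := (Nat.dvd_prime_pow hp.out).1 (orderOf_dvd_of_pow_eq_one hj')
    have hcop : (orderOf s).Coprime (orderOf w) := by rw [hi]; exact hscop.pow_right _
    exact H.ty_of_commute_coprime hs1 hw1 hcw hcop hsT
  -- a nontrivial central element of P'
  haveI : Nontrivial P' := by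
    rw [← Finite.one_lt_card_iff_nontrivial, hP'card]
    exact Nat.one_lt_pow (by omega) hp.out.one_lt
  haveI := hP'p.center_nontrivial
  obtain ⟨v', hv'⟩ := exists_ne (1 : Subgroup.center P')
  have hv1 : ((v' : P') : G) ≠ 1 := by
    intro h
    apply hv'
    apply Subtype.ext; apply Subtype.ext; exact h
  have hvP' : ((v' : P') : G) ∈ P' := (v' : P').2
  have hvc : ∀ w ∈ P', Commute ((v' : P') : G) w := by
    intro w hw
    have := Subgroup.mem_center_iff.1 v'.2 ⟨w, hw⟩
    have h2 := congrArg Subtype.val this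
    exact h2.symm
  obtain ⟨bv, hbv, hbv1, hcv⟩ := hP'T _ hvP' hv1
  have hpbv : ¬ p ∣ bv := fun h => hp2 (h.trans hbv)
  obtain ⟨P₀, hP₀⟩ := hP'p.exists_le_sylow
  refine ⟨P₀, fun z hz hz1 hzc => ?_⟩
  -- Q = P' ⊔ ⟨z⟩
  set Q : Subgroup G := P' ⊔ Subgroup.zpowers z with hQ
  have hQP₀ : Q ≤ P₀ := sup_le hP₀ (by rw [Subgroup.zpowers_le]; exact hz)
  have hQp : IsPGroup p Q := P₀.2.to_le hQP₀
  have hQC : Q ≤ Subgroup.centralizer ({((v' : P') : G)} : Set G) := by
    refine sup_le (fun w hw => mem_cent_iff.2 (hvc w hw)) ?_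
    rw [Subgroup.zpowers_le, mem_cent_iff]
    exact (hzc _ (hP₀ hvP')).symm
  obtain ⟨e, he⟩ := IsPGroup.iff_card.1 hQp
  have h1 : p ^ e ∣ k * bv := by
    rw [← he, ← hcv]; exact Subgroup.card_dvd_of_le hQC
  have h2 : p ^ e ∣ k := pow_dvd_of_dvd_mul hp.out hpbv h1
  have h3 : e ≤ n := (hp.out.pow_dvd_iff_le_factorization hk0).1 h2
  have hle' : Nat.card Q ≤ Nat.card P' := by
    rw [he, hP'card]; exact Nat.pow_le_pow_right hp.out.pos h3
  have hPQ : P' = Q := Subgroup.eq_of_le_of_card_ge le_sup_left hle'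
  have hzP' : z ∈ P' := by
    rw [hPQ]; exact (le_sup_right : Subgroup.zpowers z ≤ Q) (Subgroup.mem_zpowers z)
  exact hP'T z hzP' hz1

theorem claim_forall (H : Hyp G k m₁ m₂) (p : ℕ) [hp : Fact p.Prime] (hpk : p ∣ k)
    (hp2 : ¬ p ∣ m₂) (P : Sylow p G) :
    ∀ z ∈ (P : Subgroup G), z ≠ 1 → (∀ y ∈ (P : Subgroup G), Commute z y) → Ty k m₂ z := by
  obtain ⟨P₀, hP₀⟩ := H.claim_exists p hpk hp2
  obtain ⟨g, hg⟩ := MulAction.exists_smul_eq G P₀ P
  intro z hz hz1 hzc
  have hz0 : g⁻¹ * z * g ∈ (P₀ : Subgroup G) := (sylow_mem_iff g P₀ P hg z).1 hz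
  have hz01 : g⁻¹ * z * g ≠ 1 := by
    intro h
    apply hz1
    have : z = g * (g⁻¹ * z * g) * g⁻¹ := by group
    rw [this, h]; group
  have hz0c : ∀ y ∈ (P₀ : Subgroup G), Commute (g⁻¹ * z * g) y := by
    intro y hy
    have hy' : g * y * g⁻¹ ∈ (P : Subgroup G) := by
      rw [sylow_mem_iff g P₀ P hg]
      have : g⁻¹ * (g * y * g⁻¹) * g = y := by group
      rw [this]; exact hy
    have hc : z * (g * y * g⁻¹) = (g * y * g⁻¹) * z := hzc _ hy'
    show (g⁻¹ * z * g) * y = y * (g⁻¹ * z * g)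
    calc (g⁻¹ * z * g) * y = g⁻¹ * (z * (g * y * g⁻¹)) * g := by group
      _ = g⁻¹ * ((g * y * g⁻¹) * z) * g := by rw [hc]
      _ = y * (g⁻¹ * z * g) := by group
  have hT := hP₀ _ hz0 hz01 hz0c
  have : z = g * (g⁻¹ * z * g) * g⁻¹ := by group
  rw [this, ty_conj]
  exact hT

/-- a nontrivial central element of a Sylow `p`-subgroup, `p ∣ |G|`. -/
theorem exists_central (p : ℕ) [hp : Fact p.Prime] (hpG : p ∣ Nat.card G) (P : Sylow p G) :
    ∃ z ∈ (P : Subgroup G), z ≠ 1 ∧ ∀ y ∈ (P : Subgroup G), Commute z y := by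
  haveI : Nontrivial (P : Subgroup G) := by
    rw [← Finite.one_lt_card_iff_nontrivial, P.card_eq_multiplicity]
    exact Nat.one_lt_pow (hp.out.factorization_pos_of_dvd Nat.card_pos.ne' hpG).ne'
      hp.out.one_lt
  haveI := P.2.center_nontrivial
  obtain ⟨v', hv'⟩ := exists_ne (1 : Subgroup.center (P : Subgroup G))
  refine ⟨((v' : (P : Subgroup G)) : G), (v' : (P : Subgroup G)).2, ?_, ?_⟩
  · intro h
    apply hv'
    apply Subtype.ext; apply Subtype.ext; exact h
  · intro w hw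
    have := Subgroup.mem_center_iff.1 v'.2 ⟨w, hw⟩
    have h2 := congrArg Subtype.val this
    exact h2.symm

theorem not_dvd_left (H : Hyp G k m₁ m₂) (p : ℕ) [hp : Fact p.Prime] (hpk : p ∣ k)
    (hp2 : ¬ p ∣ m₂) : ¬ p ∣ m₁ := by
  intro hp1
  have hk0 : k ≠ 0 := H.kpos.ne'
  have hpG : p ∣ Nat.card G := by
    rw [H.card]; exact (hpk.mul_right _).mul_right _
  obtain ⟨P⟩ : Nonempty (Sylow p G) := inferInstance
  obtain ⟨z, hz, hz1, hzc⟩ := exists_central p hpG P
  obtain ⟨b, hb, hb1, hcb⟩ := H.claim_forall p hpk hp2 P z hz hz1 hzc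
  have hpb : ¬ p ∣ b := fun h => hp2 (h.trans hb)
  have hPC : (P : Subgroup G) ≤ Subgroup.centralizer ({z} : Set G) :=
    fun y hy => mem_cent_iff.2 (hzc y hy)
  have h1 : p ^ (Nat.card G).factorization p ∣ k * b := by
    rw [← P.card_eq_multiplicity, ← hcb]; exact Subgroup.card_dvd_of_le hPC
  have h2 : p ^ (Nat.card G).factorization p ∣ k := pow_dvd_of_dvd_mul hp.out hpb h1
  have h3 : (Nat.card G).factorization p ≤ k.factorization p :=
    (hp.out.pow_dvd_iff_le_factorization hk0).1 h2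
  have h4 : p ^ (k.factorization p + 1) ∣ Nat.card G := by
    rw [H.card, pow_succ]
    exact (Nat.mul_dvd_mul ((hp.out.pow_dvd_iff_le_factorization hk0).2 le_rfl) hp1).mul_right _
  have h5 : k.factorization p + 1 ≤ (Nat.card G).factorization p :=
    (hp.out.pow_dvd_iff_le_factorization Nat.card_pos.ne').1 h4
  omega

/-- **Core theorem**: `k = 1`. -/
theorem k_eq_one (H : Hyp G k m₁ m₂) : k = 1 := by
  by_contra hk
  obtain ⟨p, hp, hpk⟩ := Nat.exists_prime_and_dvd hk
  haveI : Fact p.Prime := ⟨hp⟩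
  have hor : ¬ p ∣ m₁ ∨ ¬ p ∣ m₂ := by
    by_contra h
    push Not at h
    have := Nat.dvd_gcd h.1 h.2
    rw [H.cop] at this
    exact hp.one_lt.ne' (Nat.dvd_one.1 this)
  have h12 : ¬ p ∣ m₁ ∧ ¬ p ∣ m₂ := by
    rcases hor with h | h
    · exact ⟨h, H.symm.not_dvd_left p hpk h⟩
    · exact ⟨H.not_dvd_left p hpk h, h⟩
  have hpG : p ∣ Nat.card G := by
    rw [H.card]; exact (hpk.mul_right _).mul_right _
  obtain ⟨P⟩ : Nonempty (Sylow p G) := inferInstance
  obtain ⟨z, hz, hz1, hzc⟩ := exists_central p hpG P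
  exact H.excl (H.symm.claim_forall p hpk h12.1 P z hz hz1 hzc)
    (H.claim_forall p hpk h12.2 P z hz hz1 hzc)

end Hyp


/-! ### The group `M` with a disconnected prime graph -/

theorem exists_split (A : Set ℕ) (N : ℕ) (hN : N ≠ 0) :
    ∃ a b : ℕ, a * b = N ∧ (∀ q, q.Prime → q ∣ a → q ∈ A) ∧ (∀ q, q.Prime → q ∣ b → q ∉ A) := by
  induction N using Nat.strong_induction_on with
  | _ N ih =>
    by_cases h1 : N = 1
    · refine ⟨1, 1, by simp [h1], ?_, ?_⟩ <;>
      · intro q hq hq1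
        exact absurd (Nat.dvd_one.1 hq1) hq.one_lt.ne'
    · have hp : (N.minFac).Prime := Nat.minFac_prime h1
      obtain ⟨N', hN'⟩ := Nat.minFac_dvd N
      have hN'0 : N' ≠ 0 := by rintro rfl; simp at hN'; exact hN hN'
      have hlt : N' < N := by
        rw [hN']
        exact lt_mul_of_one_lt_left (Nat.pos_of_ne_zero hN'0) hp.one_lt
      obtain ⟨a, b, hab, ha, hb⟩ := ih N' hlt hN'0
      by_cases hA : N.minFac ∈ A
      · refine ⟨N.minFac * a, b, by rw [mul_assoc, hab, ← hN'], ?_, hb⟩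
        intro q hq hqd
        rcases (Nat.Prime.dvd_mul hq).1 hqd with h | h
        · rw [(Nat.prime_dvd_prime_iff_eq hq hp).1 h]; exact hA
        · exact ha q hq h
      · refine ⟨a, N.minFac * b, by rw [mul_left_comm, hab, ← hN'], ha, ?_⟩
        intro q hq hqd
        rcases (Nat.Prime.dvd_mul hq).1 hqd with h | h
        · rw [(Nat.prime_dvd_prime_iff_eq hq hp).1 h]; exact hA
        · exact hb q hq h

section M

variable {M : Type*} [Group M] [Finite M]

theorem card_centralizer_dvd_of_prime_mem (A : Set ℕ) (a b : ℕ) (hab : a * b = Nat.card M)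
    (ha : ∀ q, q.Prime → q ∣ a → q ∈ A) (hb : ∀ q, q.Prime → q ∣ b → q ∉ A)
    (hdisc : ∀ a ∈ A, ∀ b ∉ A, a.Prime → b.Prime → a ∣ Nat.card M → b ∣ Nat.card M →
      ¬ ∃ x : M, orderOf x = a * b)
    (x : M) (r : ℕ) (hr : r.Prime) (hrx : r ∣ orderOf x) (hrA : r ∈ A) : cs x ∣ a := by
  have hox : orderOf x ≠ 0 := (orderOf_pos x).ne'
  have hx0 : orderOf (x ^ (orderOf x / r)) = r := orderOf_pow_orderOf_div hox hrx
  have hcsN : cs x ∣ a * b := by rw [hab]; exact Subgroup.card_subgroup_dvd_card _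
  refine (Nat.Coprime.dvd_of_dvd_mul_right ?_ hcsN)
  rw [Nat.coprime_iff_gcd_eq_one]
  by_contra hne
  obtain ⟨q, hq, hqd⟩ := Nat.exists_prime_and_dvd hne
  have hqc : q ∣ cs x := hqd.trans (Nat.gcd_dvd_left _ _)
  have hqb : q ∣ b := hqd.trans (Nat.gcd_dvd_right _ _)
  have hqA : q ∉ A := hb q hq hqb
  haveI : Fact q.Prime := ⟨hq⟩
  obtain ⟨y', hy'⟩ := exists_prime_orderOf_dvd_card' q (show q ∣ Nat.card
    (Subgroup.centralizer ({x} : Set M)) from hqc)
  have hoy : orderOf (y' : M) = q := by rw [← hy']; exact Subgroup.orderOf_coe y'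
  have hc : Commute x (y' : M) := mem_cent_iff.1 y'.2
  have hc0 : Commute (x ^ (orderOf x / r)) (y' : M) := hc.pow_left _
  have hrq : r ≠ q := fun h => hqA (h ▸ hrA)
  have hcop : (orderOf (x ^ (orderOf x / r))).Coprime (orderOf (y' : M)) := by
    rw [hx0, hoy]; exact (Nat.coprime_primes hr hq).2 hrq
  have hord : orderOf (x ^ (orderOf x / r) * (y' : M)) = r * q := by
    rw [hc0.orderOf_mul_eq_mul_orderOf_of_coprime hcop, hx0, hoy]
  have hrN : r ∣ Nat.card M := hrx.trans (orderOf_dvd_natCard x)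
  have hqN : q ∣ Nat.card M := by rw [← hab]; exact hqb.mul_left _
  exact hdisc r hrA q hqA hr hq hrN hqN ⟨_, hord⟩

theorem card_centralizer_dvd_of_prime_not_mem (A : Set ℕ) (a b : ℕ) (hab : a * b = Nat.card M)
    (ha : ∀ q, q.Prime → q ∣ a → q ∈ A) (hb : ∀ q, q.Prime → q ∣ b → q ∉ A)
    (hdisc : ∀ a ∈ A, ∀ b ∉ A, a.Prime → b.Prime → a ∣ Nat.card M → b ∣ Nat.card M →
      ¬ ∃ x : M, orderOf x = a * b)
    (x : M) (r : ℕ) (hr : r.Prime) (hrx : r ∣ orderOf x) (hrA : r ∉ A) : cs x ∣ b := by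
  refine card_centralizer_dvd_of_prime_mem Aᶜ b a (by rw [mul_comm]; exact hab)
    (fun q hq hqd => hb q hq hqd) (fun q hq hqd h => h (ha q hq hqd)) ?_ x r hr hrx hrA
  intro a' ha' b' hb' hpa hpb hda hdb
  rw [Set.mem_compl_iff, not_not] at hb'
  rintro ⟨y, hy⟩
  exact hdisc b' hb' a' ha' hpb hpa hdb hda ⟨y, by rw [hy, mul_comm]⟩

theorem one_lt_cs {x : M} (hx : x ≠ 1) : 1 < cs x := by
  unfold cs
  rw [Subgroup.one_lt_card_iff_ne_bot]
  intro h
  have : x ∈ Subgroup.centralizer ({x} : Set M) := mem_cent_iff.2 (Commute.refl x)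
  rw [h, Subgroup.mem_bot] at this
  exact hx this

end M

/-- **Chen's lemma**: same class sizes as a centreless group with disconnected prime graph
forces the same order. -/
theorem card_eq_of_classSizes {G M : Type*} [Group G] [Finite G] [Group M] [Finite M]
    (hZG : Subgroup.center G = ⊥) (hZM : Subgroup.center M = ⊥)
    (h : Set.range (fun g : G => (Subgroup.centralizer ({g} : Set G)).index) =
      Set.range (fun g : M => (Subgroup.centralizer ({g} : Set M)).index))
    (A : Set ℕ) (hA1 : ∃ a ∈ A, a.Prime ∧ a ∣ Nat.card M)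
    (hA2 : ∃ b ∉ A, b.Prime ∧ b ∣ Nat.card M)
    (hdisc : ∀ a ∈ A, ∀ b ∉ A, a.Prime → b.Prime → a ∣ Nat.card M → b ∣ Nat.card M →
      ¬ ∃ x : M, orderOf x = a * b) :
    Nat.card G = Nat.card M := by
  obtain ⟨mA, mB, hmAB, hmA, hmB⟩ := exists_split A (Nat.card M) Nat.card_pos.ne'
  have hmA0 : 0 < mA := Nat.pos_of_ne_zero (by rintro rfl; simp at hmAB; exact Nat.card_pos.ne' hmAB.symm)
  have hmB0 : 0 < mB := Nat.pos_of_ne_zero (by rintro rfl; simp at hmAB; exact Nat.card_pos.ne' hmAB.symm)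
  have hcop : Nat.Coprime mA mB := by
    rw [Nat.coprime_iff_gcd_eq_one]
    by_contra hne
    obtain ⟨q, hq, hqd⟩ := Nat.exists_prime_and_dvd hne
    exact hmB q hq (hqd.trans (Nat.gcd_dvd_right _ _)) (hmA q hq (hqd.trans (Nat.gcd_dvd_left _ _)))
  -- index facts
  have hidxM : ∀ x : M, (Subgroup.centralizer ({x} : Set M)).index * cs x = Nat.card M :=
    fun x => Subgroup.index_mul_card _
  have hidxG : ∀ g : G, (Subgroup.centralizer ({g} : Set G)).index * cs g = Nat.card G :=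
    fun g => Subgroup.index_mul_card _
  have hidx1G : ∀ g : G, g ≠ 1 → (Subgroup.centralizer ({g} : Set G)).index ≠ 1 := by
    intro g hg hi
    rw [Subgroup.index_eq_one] at hi
    have : g ∈ Subgroup.center G := by
      rw [Subgroup.mem_center_iff]
      intro y
      have hy : y ∈ Subgroup.centralizer ({g} : Set G) := by rw [hi]; exact Subgroup.mem_top y
      exact (mem_cent_iff.1 hy).eq.symm
    rw [hZG, Subgroup.mem_bot] at this
    exact hg this
  have hidx1M : ∀ x : M, x ≠ 1 → (Subgroup.centralizer ({x} : Set M)).index ≠ 1 := by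
    intro g hg hi
    rw [Subgroup.index_eq_one] at hi
    have : g ∈ Subgroup.center M := by
      rw [Subgroup.mem_center_iff]
      intro y
      have hy : y ∈ Subgroup.centralizer ({g} : Set M) := by rw [hi]; exact Subgroup.mem_top y
      exact (mem_cent_iff.1 hy).eq.symm
    rw [hZM, Subgroup.mem_bot] at this
    exact hg this
  have hidx_one : (Subgroup.centralizer ({(1 : M)} : Set M)).index = 1 := by
    rw [Subgroup.index_eq_one, eq_top_iff]
    intro y _
    exact mem_cent_iff.2 (Commute.one_left y)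
  have hidx_oneG : (Subgroup.centralizer ({(1 : G)} : Set G)).index = 1 := by
    rw [Subgroup.index_eq_one, eq_top_iff]
    intro y _
    exact mem_cent_iff.2 (Commute.one_left y)
  -- types in M
  have hMty : ∀ x : M, x ≠ 1 → cs x ∣ mA ∨ cs x ∣ mB := by
    intro x hx
    have hox : orderOf x ≠ 1 := fun h => hx (orderOf_eq_one_iff.1 h)
    have hr := Nat.minFac_prime hox
    by_cases hrA : (orderOf x).minFac ∈ A
    · exact Or.inl (card_centralizer_dvd_of_prime_mem A mA mB hmAB hmA hmB hdisc x _ hr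
        (Nat.minFac_dvd _) hrA)
    · exact Or.inr (card_centralizer_dvd_of_prime_not_mem A mA mB hmAB hmA hmB hdisc x _ hr
        (Nat.minFac_dvd _) hrA)
  -- an element of each type in M
  obtain ⟨a, haA, hap, haN⟩ := hA1
  obtain ⟨b, hbA, hbp, hbN⟩ := hA2
  haveI : Fact a.Prime := ⟨hap⟩
  haveI : Fact b.Prime := ⟨hbp⟩
  obtain ⟨xa, hxa⟩ := exists_prime_orderOf_dvd_card' a haN
  obtain ⟨xb, hxb⟩ := exists_prime_orderOf_dvd_card' b hbN
  have hxa1 : xa ≠ 1 := by rintro rfl; rw [orderOf_one] at hxa; exact hap.one_lt.ne hxa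
  have hxb1 : xb ≠ 1 := by rintro rfl; rw [orderOf_one] at hxb; exact hbp.one_lt.ne hxb
  have hxaT : cs xa ∣ mA :=
    card_centralizer_dvd_of_prime_mem A mA mB hmAB hmA hmB hdisc xa a hap (by rw [hxa]) haA
  have hxbT : cs xb ∣ mB :=
    card_centralizer_dvd_of_prime_not_mem A mA mB hmAB hmA hmB hdisc xb b hbp (by rw [hxb]) hbA
  -- transfer: for g in G get x in M with the same index
  have htrans : ∀ g : G, ∃ x : M, (Subgroup.centralizer ({x} : Set M)).index =
      (Subgroup.centralizer ({g} : Set G)).index := by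
    intro g
    have : (Subgroup.centralizer ({g} : Set G)).index ∈
        Set.range (fun g : M => (Subgroup.centralizer ({g} : Set M)).index) := by
      rw [← h]; exact ⟨g, rfl⟩
    exact this
  have htrans' : ∀ x : M, ∃ g : G, (Subgroup.centralizer ({g} : Set G)).index =
      (Subgroup.centralizer ({x} : Set M)).index := by
    intro x
    have : (Subgroup.centralizer ({x} : Set M)).index ∈
        Set.range (fun g : G => (Subgroup.centralizer ({g} : Set G)).index) := by
      rw [h]; exact ⟨x, rfl⟩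
    exact this
  -- index formula in M
  have hidxA : ∀ x : M, ∀ d, mA = cs x * d →
      (Subgroup.centralizer ({x} : Set M)).index = d * mB := by
    intro x d hd
    have h1 := hidxM x
    have hc0 : 0 < cs x := Nat.pos_of_ne_zero (by
      intro h0; rw [h0] at hd; simp at hd; omega)
    have : (Subgroup.centralizer ({x} : Set M)).index * cs x = (d * mB) * cs x := by
      rw [h1, ← hmAB, hd]; ring
    exact Nat.eq_of_mul_eq_mul_right hc0 this
  have hidxB : ∀ x : M, ∀ d, mB = cs x * d →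
      (Subgroup.centralizer ({x} : Set M)).index = d * mA := by
    intro x d hd
    have h1 := hidxM x
    have hc0 : 0 < cs x := Nat.pos_of_ne_zero (by
      intro h0; rw [h0] at hd; simp at hd; omega)
    have : (Subgroup.centralizer ({x} : Set M)).index * cs x = (d * mA) * cs x := by
      rw [h1, ← hmAB, hd]; ring
    exact Nat.eq_of_mul_eq_mul_right hc0 this
  -- mA * mB divides |G|
  obtain ⟨da, hda⟩ := hxaT
  obtain ⟨db, hdb⟩ := hxbT
  obtain ⟨ga, hga⟩ := htrans' xa
  obtain ⟨gb, hgb⟩ := htrans' xb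
  have hmBG : mB ∣ Nat.card G := by
    rw [← hidxG ga, hga, hidxA xa da hda]
    exact (Dvd.intro_left da rfl).mul_right _
  have hmAG : mA ∣ Nat.card G := by
    rw [← hidxG gb, hgb, hidxB xb db hdb]
    exact (Dvd.intro_left db rfl).mul_right _
  obtain ⟨k, hk⟩ := Nat.Coprime.mul_dvd_of_dvd_of_dvd hcop hmAG hmBG
  have hcard : Nat.card G = k * mA * mB := by rw [hk]; ring
  -- types in G
  have hGty : ∀ g : G, g ≠ 1 → Ty k mA g ∨ Ty k mB g := by
    intro g hg
    obtain ⟨x, hx⟩ := htrans g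
    have hx1 : x ≠ 1 := by
      rintro rfl
      rw [hidx_one] at hx
      exact hidx1G g hg hx.symm
    have hcx := one_lt_cs hx1
    rcases hMty x hx1 with ⟨d, hd⟩ | ⟨d, hd⟩
    · left
      refine ⟨cs x, ⟨d, hd⟩, hcx, ?_⟩
      have h1 := hidxG g
      rw [← hx, hidxA x d hd, hcard, hd] at h1
      have hd0 : 0 < d := Nat.pos_of_ne_zero (by
        rintro rfl; rw [mul_zero] at hd; omega)
      have : (d * mB) * cs g = (d * mB) * (k * cs x) := by rw [h1]; ring
      exact Nat.eq_of_mul_eq_mul_left (Nat.mul_pos hd0 hmB0) this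
    · right
      refine ⟨cs x, ⟨d, hd⟩, hcx, ?_⟩
      have h1 := hidxG g
      rw [← hx, hidxB x d hd, hcard, hd] at h1
      have hd0 : 0 < d := Nat.pos_of_ne_zero (by
        rintro rfl; rw [mul_zero] at hd; omega)
      have : (d * mA) * cs g = (d * mA) * (k * cs x) := by rw [h1]; ring
      exact Nat.eq_of_mul_eq_mul_left (Nat.mul_pos hd0 hmA0) this
  -- exclusivity helper to identify the types of ga, gb
  have hga1 : ga ≠ 1 := by
    rintro rfl
    rw [hidx_oneG] at hga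
    exact hidx1M xa hxa1 hga.symm
  have hgb1 : gb ≠ 1 := by
    rintro rfl
    rw [hidx_oneG] at hgb
    exact hidx1M xb hxb1 hgb.symm
  have hgaT : Ty k mA ga := by
    refine ⟨cs xa, ⟨da, hda⟩, one_lt_cs hxa1, ?_⟩
    have h1 := hidxG ga
    rw [hga, hidxA xa da hda, hcard, hda] at h1
    have hd0 : 0 < da := Nat.pos_of_ne_zero (by
      rintro rfl; rw [mul_zero] at hda; omega)
    have : (da * mB) * cs ga = (da * mB) * (k * cs xa) := by rw [h1]; ring
    exact Nat.eq_of_mul_eq_mul_left (Nat.mul_pos hd0 hmB0) this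
  have hgbT : Ty k mB gb := by
    refine ⟨cs xb, ⟨db, hdb⟩, one_lt_cs hxb1, ?_⟩
    have h1 := hidxG gb
    rw [hgb, hidxB xb db hdb, hcard, hdb] at h1
    have hd0 : 0 < db := Nat.pos_of_ne_zero (by
      rintro rfl; rw [mul_zero] at hdb; omega)
    have : (db * mA) * cs gb = (db * mA) * (k * cs xb) := by rw [h1]; ring
    exact Nat.eq_of_mul_eq_mul_left (Nat.mul_pos hd0 hmA0) this
  have H : Hyp G k mA mB := ⟨hcard, hcop, hGty, ⟨ga, hga1, hgaT⟩, ⟨gb, hgb1, hgbT⟩⟩
  rw [hcard, H.k_eq_one, one_mul, hmAB]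

end Cfsg.Agent.Lib.Helper42.ClassTypes
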