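import Mathlib
import Cfsg.Prelude
import Cfsg.Agent.Lib.Helper70.CycSylDefs
import Cfsg.Agent.Lib.Helper03.NormalPComplement
import Cfsg.Agent.Lib.Helper97.ThompsonPN
import Cfsg.Agent.Lib.Helper73.SqFCount
import Cfsg.Agent.Lib.Helper57.CyclicSylow
import Cfsg.Agent.Lib.Helper09.SqFCovering
import Cfsg.Agent.Lib.Helper42.PPrimeCore
import Cfsg.Agent.Lib.Helper42.PResidual

/-!
# K-S4016-A: reduction of S4016 to the simple case

Cyclic Sylow `p`-subgroups and abelian `p'`-subgroups: a non-simple group all of whose smaller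
groups satisfy the conclusion satisfies the conclusion.
-/

set_option autoImplicit false
set_option linter.unusedSectionVars false
set_option linter.style.haveILetI false

namespace Cfsg.Agent.Lib.Helper42.CycSyl

open Cfsg Subgroup Cfsg.Agent.Lib.Helper70.CycSyl

universe u

variable {G : Type u} [Group G] [Finite G] {p : ℕ} [hp : Fact p.Prime]

/-- the hypotheses pass to subgroups -/
theorem hyp_subgroup (hyp : Hyp p G) (K : Subgroup G) : Hyp p ↥K := by
  refine ⟨fun Q => ?_, fun H hH => ?_⟩
  · have hQ : IsPGroup p ((Q : Subgroup K).map K.subtype : Subgroup G) := Q.2.map K.subtype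
    obtain ⟨P, hP⟩ := hQ.exists_le_sylow
    haveI hcyc : IsCyclic ↥(P : Subgroup G) := hyp.1 P
    have e := (Q : Subgroup K).equivMapOfInjective K.subtype K.subtype_injective
    haveI h1 : IsCyclic ↥((Q : Subgroup K).map K.subtype) :=
      isCyclic_of_injective (Subgroup.inclusion hP) (Subgroup.inclusion_injective hP)
    exact isCyclic_of_surjective e.symm e.symm.surjective
  · have e := H.equivMapOfInjective K.subtype K.subtype_injective
    have hc : Nat.card ↥(H.map K.subtype) = Nat.card ↥H := (Nat.card_congr e.toEquiv).symm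
    have hab := hyp.2 (H.map K.subtype) (by rw [hc]; exact hH)
    refine ⟨⟨fun a b => ?_⟩⟩
    have h1 := hab.is_comm.comm (e a) (e b)
    rw [← map_mul, ← map_mul] at h1
    exact e.injective h1

/-- the hypotheses pass to quotients by normal `p'`-subgroups -/
theorem hyp_quotient (hyp : Hyp p G) (N : Subgroup G) [N.Normal] (hN : (Nat.card N).Coprime p) :
    Hyp p (G ⧸ N) := by
  have hpp : p.Prime := hp.out
  refine ⟨fun Q => ?_, fun H hH => ?_⟩
  · obtain ⟨P, rfl⟩ := Sylow.mapSurjective_surjective (QuotientGroup.mk'_surjective N) p Q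
    rw [Sylow.coe_mapSurjective]
    haveI hcyc : IsCyclic ↥(P : Subgroup G) := hyp.1 P
    exact isCyclic_of_surjective ((QuotientGroup.mk' N).subgroupMap (P : Subgroup G))
      ((QuotientGroup.mk' N).subgroupMap_surjective (P : Subgroup G))
  · set H' : Subgroup G := H.comap (QuotientGroup.mk' N) with hH'
    have hidx : H'.index = H.index :=
      Subgroup.index_comap_of_surjective H (QuotientGroup.mk'_surjective N)
    have h1 : Nat.card ↥H' * H'.index = Nat.card G := Subgroup.card_mul_index H'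
    have h2 : Nat.card ↥H * H.index = Nat.card (G ⧸ N) := Subgroup.card_mul_index H
    have h3 : Nat.card G = Nat.card (G ⧸ N) * Nat.card ↥N :=
      Subgroup.card_eq_card_quotient_mul_card_subgroup N
    have hidx0 : H.index ≠ 0 := Subgroup.index_ne_zero_of_finite
    have h4 : Nat.card ↥H' = Nat.card ↥H * Nat.card ↥N := by
      have : Nat.card ↥H' * H.index = Nat.card ↥H * Nat.card ↥N * H.index := by
        rw [← hidx, h1, h3, ← h2, hidx]; ring
      exact Nat.eq_of_mul_eq_mul_right (Nat.pos_of_ne_zero hidx0) this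
    have h5 : ¬ p ∣ Nat.card ↥H' := by
      rw [h4]
      intro hd
      rcases (Nat.Prime.dvd_mul hpp).mp hd with h | h
      · exact hH h
      · exact (Nat.Prime.coprime_iff_not_dvd hpp).mp hN.symm h
    have hab := hyp.2 H' h5
    refine ⟨⟨fun a b => ?_⟩⟩
    obtain ⟨x, hx⟩ := QuotientGroup.mk'_surjective N (a : G ⧸ N)
    obtain ⟨y, hy⟩ := QuotientGroup.mk'_surjective N (b : G ⧸ N)
    have hxH : x ∈ H' := by rw [hH', Subgroup.mem_comap, hx]; exact a.2
    have hyH : y ∈ H' := by rw [hH', Subgroup.mem_comap, hy]; exact b.2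
    have h6 := hab.is_comm.comm (⟨x, hxH⟩ : ↥H') ⟨y, hyH⟩
    have h7 : x * y = y * x := congrArg Subtype.val h6
    apply Subtype.ext
    rw [Subgroup.coe_mul, Subgroup.coe_mul, ← hx, ← hy, ← map_mul, ← map_mul, h7]

/-- **cyclic coprime lemma**: an element `y` of order prime to `p` normalizing a cyclic `p`-subgroup
`P` and centralizing a nonidentity element of `P` centralizes `P`. -/
theorem centralizes_of_fixed (P : Subgroup G) (hcyc : IsCyclic ↥P) (hP : IsPGroup p P) (y : G)
    (hy : y ∈ normalizer (P : Set G)) (hyo : (orderOf y).Coprime p) (x : G) (hxP : x ∈ P)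
    (hx1 : x ≠ 1) (hyx : y * x * y⁻¹ = x) : y ∈ centralizer (P : Set G) := by
  have hpp : p.Prime := hp.out
  obtain ⟨c, hc⟩ := hcyc.exists_generator
  have hgen : ∀ z ∈ P, ∃ i : ℤ, (c : G) ^ i = z := by
    intro z hz
    obtain ⟨i, hi⟩ := Subgroup.mem_zpowers_iff.mp (hc ⟨z, hz⟩)
    refine ⟨i, ?_⟩
    have := congrArg Subtype.val hi
    simpa using this
  obtain ⟨k, hk⟩ := IsPGroup.iff_card.mp hP
  have hord : orderOf (c : G) = p ^ k := by
    rw [Subgroup.orderOf_coe, orderOf_eq_card_of_forall_mem_zpowers hc, hk]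
  have hcn : y * (c : G) * y⁻¹ ∈ P := (hy (c : G)).mp c.2
  obtain ⟨r, hr⟩ := hgen _ hcn
  obtain ⟨j, hj⟩ := hgen x hxP
  have h1 : (c : G) ^ (r * j) = (c : G) ^ j := by
    calc (c : G) ^ (r * j) = ((c : G) ^ r) ^ j := zpow_mul _ _ _
      _ = (y * (c : G) * y⁻¹) ^ j := by rw [hr]
      _ = y * (c : G) ^ j * y⁻¹ := by rw [conj_zpow]
      _ = (c : G) ^ j := by rw [hj, hyx]
  have h2 : (c : G) ^ ((r - 1) * j) = 1 := by
    have : (r - 1) * j = r * j - j := by ring
    rw [this, zpow_sub, h1, mul_inv_cancel]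
  have h3 : ((p ^ k : ℕ) : ℤ) ∣ (r - 1) * j := by
    rw [← hord]; exact orderOf_dvd_iff_zpow_eq_one.mpr h2
  have h4 : ¬ ((p ^ k : ℕ) : ℤ) ∣ j := by
    intro hd
    rw [← hord, orderOf_dvd_iff_zpow_eq_one, hj] at hd
    exact hx1 hd
  have h5 : (p : ℤ) ∣ r - 1 := by
    by_contra hnd
    have hcop : IsCoprime (p : ℤ) (r - 1) :=
      (Prime.irreducible (Nat.prime_iff_prime_int.mp hpp)).coprime_iff_not_dvd.mpr hnd
    have hcop' : IsCoprime (((p ^ k : ℕ) : ℤ)) (r - 1) := by
      push_cast
      exact hcop.pow_left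
    exact h4 (hcop'.dvd_of_dvd_mul_left h3)
  have h6 : ((p : ℤ) ^ (k + 1)) ∣ r ^ p ^ k - 1 := by
    have := dvd_sub_pow_of_dvd_sub (R := ℤ) (p := p) (a := r) (b := 1) h5 k
    simpa using this
  have h7 : ((p ^ k : ℕ) : ℤ) ∣ r ^ p ^ k - 1 := by
    refine dvd_trans ?_ h6
    push_cast
    exact pow_dvd_pow _ (Nat.le_succ k)
  have h8 : y ^ (p ^ k) * (c : G) * (y ^ (p ^ k))⁻¹ = (c : G) := by
    rw [Cfsg.Agent.Lib.Helper57.conj_pow_eq_zpow_pow y (c : G) r hr.symm (p ^ k)]
    have : r ^ p ^ k = (r ^ p ^ k - 1) + 1 := by ring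
    rw [this, zpow_add, zpow_one]
    have : (c : G) ^ (r ^ p ^ k - 1) = 1 := by
      rw [← orderOf_dvd_iff_zpow_eq_one, hord]; exact h7
    rw [this, one_mul]
  have h9 : Commute (y ^ (p ^ k)) (c : G) := by
    have : y ^ (p ^ k) * (c : G) = (c : G) * y ^ (p ^ k) := by
      calc y ^ (p ^ k) * (c : G) = (y ^ (p ^ k) * (c : G) * (y ^ (p ^ k))⁻¹) * y ^ (p ^ k) := by
            group
        _ = (c : G) * y ^ (p ^ k) := by rw [h8]
    exact this
  have h10 : y ^ (p ^ k) ∈ centralizer (P : Set G) := by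
    rw [Subgroup.mem_centralizer_iff]
    intro z hz
    obtain ⟨i, rfl⟩ := hgen z hz
    exact (h9.zpow_right i).symm.eq
  have hcop : Nat.Coprime (p ^ k) (orderOf y) := (Nat.Coprime.pow_left k hyo.symm)
  obtain ⟨m, hm⟩ := exists_pow_eq_self_of_coprime hcop
  rw [← hm]
  exact Subgroup.pow_mem _ h10 m

/-- Burnside's condition from the `p'`-elements: if `P` is an abelian Sylow `p`-subgroup and every
element of order prime to `p` of `N_G(P)` centralizes `P`, then `N_G(P) ≤ C_G(P)`. -/
theorem normalizer_le_centralizer_of_pprime (P : Sylow p G)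
    (hab : (P : Subgroup G) ≤ centralizer ((P : Subgroup G) : Set G))
    (h : ∀ y ∈ normalizer ((P : Subgroup G) : Set G), (orderOf y).Coprime p →
      y ∈ centralizer ((P : Subgroup G) : Set G)) :
    normalizer ((P : Subgroup G) : Set G) ≤ centralizer ((P : Subgroup G) : Set G) := by
  intro g hg
  obtain ⟨u, v, huv, hu, hv, ⟨a, hua⟩, hvc⟩ :=
    Cfsg.Agent.Lib.Helper09.SqF.primary_dec g p hp.out
  have hzN : zpowers g ≤ normalizer ((P : Subgroup G) : Set G) := by
    rw [Subgroup.zpowers_le]; exact hg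
  have hvC : v ∈ centralizer ((P : Subgroup G) : Set G) := h v (hzN hv) hvc
  have huP : u ∈ (P : Subgroup G) := by
    have hU : IsPGroup p (zpowers u) := by
      apply IsPGroup.of_card (n := a)
      rw [Nat.card_zpowers, hua]
    have hUN : zpowers u ≤ normalizer ((P : Subgroup G) : Set G) := by
      rw [Subgroup.zpowers_le]; exact hzN hu
    have hsup : IsPGroup p (zpowers u ⊔ (P : Subgroup G) : Subgroup G) :=
      IsPGroup.to_sup_of_normal_right' hU P.2 hUN
    have h1 := P.is_maximal' hsup le_sup_right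
    have h2 : zpowers u ≤ (P : Subgroup G) := by
      rw [← h1]; exact le_sup_left
    exact h2 (Subgroup.mem_zpowers u)
  rw [← huv]
  exact Subgroup.mul_mem _ (hab huP) hvC

/-- a proper normal subgroup `X` has a "largest" `p`-subgroup which is normal in `G`, as soon as
the induction hypothesis applies and `G` has no nontrivial normal `p'`-subgroup. -/
theorem exists_normal_sylow_of_normal (hyp : Hyp p G)
    (ih : ∀ (H : Type u) [Group H] [Finite H], Nat.card H < Nat.card G → Hyp p H → Concl p H)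
    (hA : ∀ N : Subgroup G, N.Normal → (Nat.card N).Coprime p → N = ⊥)
    (X : Subgroup G) (hXn : X.Normal) (hXt : X ≠ ⊤) :
    ∃ Q : Subgroup G, Q ≤ X ∧ Q.Normal ∧ IsPGroup p Q ∧
      ∀ Y : Subgroup G, Y ≤ X → IsPGroup p Y → Y ≤ Q := by
  have hpp : p.Prime := hp.out
  have hlt : Nat.card ↥X < Nat.card G := by
    refine lt_of_le_of_ne (Subgroup.card_le_card_group X) ?_
    intro h
    exact hXt (Subgroup.eq_top_of_card_eq X h)
  rcases ih ↥X hlt (hyp_subgroup hyp X) with hnpc | hall
  · -- normal `p`-complement of `X`: it is normal in `G`, hence trivial, hence `X` is a `p`-group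
    obtain ⟨K, hKn, hKcard, hKmem⟩ := Cfsg.Agent.Lib.Helper73.SqF.npc_mem_iff p hnpc
    have hK'n : (K.map X.subtype).Normal := by
      constructor
      intro n hn g
      obtain ⟨k, hk, rfl⟩ := Subgroup.mem_map.mp hn
      have hz : g * (k : G) * g⁻¹ ∈ X := hXn.conj_mem _ k.2 g
      have hzo : orderOf (⟨g * (k : G) * g⁻¹, hz⟩ : ↥X) = orderOf k := by
        rw [← Subgroup.orderOf_coe, ← Subgroup.orderOf_coe k]
        exact orderOf_conj_eq g (k : G)
      have hzK : (⟨g * (k : G) * g⁻¹, hz⟩ : ↥X) ∈ K := by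
        rw [hKmem, hzo, ← hKmem]; exact hk
      exact Subgroup.mem_map.mpr ⟨_, hzK, rfl⟩
    have hKcop : (Nat.card ↥K).Coprime p := by
      rw [Nat.coprime_comm, Nat.Prime.coprime_iff_not_dvd hpp]
      intro hd
      obtain ⟨k, hk⟩ := exists_prime_orderOf_dvd_card' (G := ↥K) p hd
      have h1 : (orderOf (k : ↥X)).Coprime p := (hKmem (k : ↥X)).mp k.2
      rw [Subgroup.orderOf_coe, hk] at h1
      exact (Nat.Prime.coprime_iff_not_dvd hpp).mp h1 (dvd_refl p)
    have hK'card : Nat.card ↥(K.map X.subtype) = Nat.card ↥K :=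
      (Nat.card_congr (K.equivMapOfInjective X.subtype X.subtype_injective).toEquiv).symm
    have hK'bot : K.map X.subtype = ⊥ := hA _ hK'n (by rw [hK'card]; exact hKcop)
    have hKone : Nat.card ↥K = 1 := by
      rw [← hK'card, hK'bot]; exact Subgroup.card_bot
    rw [hKone, one_mul] at hKcard
    have hXp : IsPGroup p ↥X := IsPGroup.of_card hKcard.symm
    exact ⟨X, le_refl X, hXn, hXp, fun Y hY _ => hY⟩
  · -- normal Sylow `p`-subgroup of `X`
    obtain ⟨Q₀⟩ : Nonempty (Sylow p ↥X) := Sylow.nonempty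
    have hQ₀n : (Q₀ : Subgroup ↥X).Normal := hall Q₀
    have huniv : ∀ Y : Subgroup G, Y ≤ X → IsPGroup p Y →
        Y ≤ (Q₀ : Subgroup ↥X).map X.subtype := by
      intro Y hYX hY
      have hY' : IsPGroup p (Y.subgroupOf X) := hY.comap_subtype
      obtain ⟨Q₁, hQ₁⟩ := hY'.exists_le_sylow
      obtain ⟨g, hg⟩ := MulAction.exists_smul_eq ↥X Q₀ Q₁
      have hQ : Q₁ = Q₀ := by
        rw [← hg]; exact Sylow.smul_eq_of_normal
      intro y hy
      have h1 : (⟨y, hYX hy⟩ : ↥X) ∈ Y.subgroupOf X := by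
        rw [Subgroup.mem_subgroupOf]; exact hy
      have h2 : (⟨y, hYX hy⟩ : ↥X) ∈ (Q₀ : Subgroup ↥X) := by
        have := hQ₁ h1
        rw [hQ] at this
        exact this
      exact Subgroup.mem_map.mpr ⟨_, h2, rfl⟩
    have hQp : IsPGroup p ((Q₀ : Subgroup ↥X).map X.subtype : Subgroup G) := Q₀.2.map X.subtype
    have hQX : (Q₀ : Subgroup ↥X).map X.subtype ≤ X := Subgroup.map_subtype_le _
    refine ⟨(Q₀ : Subgroup ↥X).map X.subtype, hQX, ?_, hQp, huniv⟩
    constructor
    intro n hn g
    have hzX : zpowers (g * n * g⁻¹) ≤ X := by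
      rw [Subgroup.zpowers_le]; exact hXn.conj_mem _ (hQX hn) g
    have hzp : IsPGroup p (zpowers (g * n * g⁻¹)) := by
      obtain ⟨k, hk⟩ := hQp ⟨n, hn⟩
      have hk' : n ^ p ^ k = 1 := by
        have := congrArg Subtype.val hk
        simpa using this
      have hd : orderOf (g * n * g⁻¹) ∣ p ^ k := by
        rw [orderOf_conj_eq]; exact orderOf_dvd_of_pow_eq_one hk'
      obtain ⟨a, _, ha⟩ := (Nat.dvd_prime_pow hpp).mp hd
      apply IsPGroup.of_card (n := a)
      rw [Nat.card_zpowers, ha]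
    exact huniv _ hzX hzp (Subgroup.mem_zpowers _)

/-- if `G` has no normal `p`-complement and a Sylow `p`-subgroup is not normal, then `G` has no
nontrivial normal `p'`-subgroup (induction step through the quotient). -/
theorem normal_pprime_eq_bot (hyp : Hyp p G)
    (ih : ∀ (H : Type u) [Group H] [Finite H], Nat.card H < Nat.card G → Hyp p H → Concl p H)
    (hnpc : ¬ HasNormalPComplement p G) (hPn : ∀ P : Sylow p G, ¬ (P : Subgroup G).Normal)
    (N : Subgroup G) (hNn : N.Normal) (hNc : (Nat.card N).Coprime p) : N = ⊥ := by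
  have hpp : p.Prime := hp.out
  by_contra hNb
  haveI := hNn
  have hB : ∀ P : Sylow p G, ¬ (normalizer ((P : Subgroup G) : Set G) ≤
      centralizer ((P : Subgroup G) : Set G)) := fun P h =>
    hnpc (Cfsg.Agent.Lib.Helper03.hasNormalPComplement_of_normalizer_le_centralizer P h)
  have hlt : Nat.card (G ⧸ N) < Nat.card G := by
    have h3 : Nat.card G = Nat.card (G ⧸ N) * Nat.card ↥N :=
      Subgroup.card_eq_card_quotient_mul_card_subgroup N
    have h4 : 1 < Nat.card ↥N := by
      rw [Finite.one_lt_card_iff_nontrivial]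
      exact (Subgroup.nontrivial_iff_ne_bot N).mpr hNb
    have h5 : 0 < Nat.card (G ⧸ N) := Nat.card_pos
    rw [h3]
    nlinarith
  rcases ih (G ⧸ N) hlt (hyp_quotient hyp N hNc) with hq | hq
  · exact hnpc (Cfsg.Agent.Lib.Helper97.pn_of_quotient_coprime N hNc hq)
  · obtain ⟨P⟩ : Nonempty (Sylow p G) := Sylow.nonempty
    have hcyc : IsCyclic ↥(P : Subgroup G) := hyp.1 P
    have hPcomm : ∀ a ∈ (P : Subgroup G), ∀ b ∈ (P : Subgroup G), a * b = b * a := by
      intro a ha b hb
      haveI := hcyc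
      have := (IsCyclic.isMulCommutative (α := ↥(P : Subgroup G))).is_comm.comm ⟨a, ha⟩ ⟨b, hb⟩
      exact congrArg Subtype.val this
    have hPab : (P : Subgroup G) ≤ centralizer ((P : Subgroup G) : Set G) := by
      intro a ha
      rw [Subgroup.mem_centralizer_iff]
      intro b hb
      exact hPcomm b hb a ha
    set M : Subgroup G :=
      ((P : Subgroup G).map (QuotientGroup.mk' N)).comap (QuotientGroup.mk' N) with hM
    have hMn : M.Normal := by
      have h1 : ((P.mapSurjective (QuotientGroup.mk'_surjective N) : Sylow p (G ⧸ N)) :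
          Subgroup (G ⧸ N)).Normal := hq _
      rw [Sylow.coe_mapSurjective] at h1
      exact h1.comap _
    have hPM : (P : Subgroup G) ≤ M := Subgroup.le_comap_map _ _
    have hMdec : ∀ m ∈ M, ∃ u ∈ (P : Subgroup G), ∃ n ∈ N, m = u * n := by
      intro m hm
      rw [hM, Subgroup.mem_comap, Subgroup.mem_map] at hm
      obtain ⟨u, hu, hum⟩ := hm
      refine ⟨u, hu, u⁻¹ * m, ?_, by group⟩
      exact QuotientGroup.eq.mp hum
    -- every `p'`-element centralizes `N`
    have hyN : ∀ y : G, (orderOf y).Coprime p → ∀ n ∈ N, y * n = n * y := by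
      intro y hy n hn
      have hcard : ¬ p ∣ Nat.card ↥(zpowers y ⊔ N) := by
        have h1 : (Nat.card ↥(zpowers y ⊔ N)).Coprime p :=
          card_sup_coprime p (zpowers y) N (by rw [Nat.card_zpowers]; exact hy) hNc
        exact (Nat.Prime.coprime_iff_not_dvd hpp).mp h1.symm
      have hab := hyp.2 _ hcard
      have h3 := hab.is_comm.comm (⟨y, Subgroup.mem_sup_left (Subgroup.mem_zpowers y)⟩ :
        ↥(zpowers y ⊔ N)) ⟨n, Subgroup.mem_sup_right hn⟩
      exact congrArg Subtype.val h3
    by_cases hall : ∀ y ∈ normalizer ((P : Subgroup G) : Set G), (orderOf y).Coprime p →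
        y ∈ centralizer ((P : Subgroup G) : Set G)
    · exact hB P (normalizer_le_centralizer_of_pprime P hPab hall)
    · push Not at hall
      obtain ⟨y, hyNP, hyo, hyC⟩ := hall
      have hfix : ∀ c ∈ (P : Subgroup G), y * c * y⁻¹ = c → c = 1 := by
        intro c hc hyc
        by_contra hc1
        exact hyC (centralizes_of_fixed (P : Subgroup G) hcyc P.2 y hyNP hyo c hc hc1 hyc)
      have hconj : ∀ u ∈ (P : Subgroup G), y * u * y⁻¹ ∈ (P : Subgroup G) := fun u hu =>
        (hyNP u).mp hu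
      -- `P` centralizes `N`
      have hPN : ∀ u ∈ (P : Subgroup G), ∀ n ∈ N, u * n = n * u := by
        let φ : ↥(P : Subgroup G) → ↥(P : Subgroup G) := fun u =>
          ⟨(u : G)⁻¹ * (y * (u : G) * y⁻¹),
            Subgroup.mul_mem _ (Subgroup.inv_mem _ u.2) (hconj _ u.2)⟩
        have hφinj : Function.Injective φ := by
          intro u v huv
          have h1 : (u : G)⁻¹ * (y * (u : G) * y⁻¹) = (v : G)⁻¹ * (y * (v : G) * y⁻¹) :=
            congrArg Subtype.val huv
          have hc1 : (v : G) * (u : G)⁻¹ * (y * (u : G) * y⁻¹) = y * (v : G) * y⁻¹ := by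
            calc (v : G) * (u : G)⁻¹ * (y * (u : G) * y⁻¹)
                = (v : G) * ((u : G)⁻¹ * (y * (u : G) * y⁻¹)) := by group
              _ = (v : G) * ((v : G)⁻¹ * (y * (v : G) * y⁻¹)) := by rw [h1]
              _ = y * (v : G) * y⁻¹ := by group
          have hc2 : y * ((v : G) * (u : G)⁻¹) * y⁻¹ = (v : G) * (u : G)⁻¹ := by
            have hvu : (v : G) * (u : G)⁻¹ ∈ (P : Subgroup G) :=
              Subgroup.mul_mem _ v.2 (Subgroup.inv_mem _ u.2)
            have hcm := hPcomm _ hvu _ (hconj _ u.2)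
            -- (v u⁻¹) (y u y⁻¹) = y v y⁻¹, so v u⁻¹ = (y v y⁻¹)(y u y⁻¹)⁻¹
            calc y * ((v : G) * (u : G)⁻¹) * y⁻¹
                = (y * (v : G) * y⁻¹) * (y * (u : G) * y⁻¹)⁻¹ := by group
              _ = ((v : G) * (u : G)⁻¹ * (y * (u : G) * y⁻¹)) * (y * (u : G) * y⁻¹)⁻¹ := by
                  rw [hc1]
              _ = (v : G) * (u : G)⁻¹ := by group
          have h2 := hfix _ (Subgroup.mul_mem _ v.2 (Subgroup.inv_mem _ u.2)) hc2
          apply Subtype.ext
          have h3 : (v : G) = (u : G) := by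
            calc (v : G) = (v : G) * (u : G)⁻¹ * (u : G) := by group
              _ = (u : G) := by rw [h2, one_mul]
          exact h3.symm
        have hφsurj : Function.Surjective φ := Finite.surjective_of_injective hφinj
        intro u hu n hn
        obtain ⟨w, hw⟩ := hφsurj ⟨u, hu⟩
        have hw' : (w : G)⁻¹ * (y * (w : G) * y⁻¹) = u := congrArg Subtype.val hw
        have h2 : y * ((w : G)⁻¹ * n * (w : G)) = ((w : G)⁻¹ * n * (w : G)) * y := by
          have := hNn.conj_mem n hn (w : G)⁻¹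
          rw [inv_inv] at this
          exact hyN y hyo _ this
        have h3 : y⁻¹ * n = n * y⁻¹ := by
          have := hyN y hyo n hn
          calc y⁻¹ * n = y⁻¹ * (n * y) * y⁻¹ := by group
            _ = y⁻¹ * (y * n) * y⁻¹ := by rw [this]
            _ = n * y⁻¹ := by group
        rw [← hw']
        calc (w : G)⁻¹ * (y * (w : G) * y⁻¹) * n
            = (w : G)⁻¹ * y * (w : G) * (y⁻¹ * n) := by group
          _ = (w : G)⁻¹ * y * (w : G) * (n * y⁻¹) := by rw [h3]
          _ = (w : G)⁻¹ * (y * ((w : G) * n * (w : G)⁻¹)) * (w : G) * y⁻¹ := by group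
          _ = n * ((w : G)⁻¹ * (y * (w : G) * y⁻¹)) := by
              have h4 : y * ((w : G) * n * (w : G)⁻¹) = ((w : G) * n * (w : G)⁻¹) * y :=
                hyN y hyo _ (hNn.conj_mem n hn (w : G))
              rw [h4]; group
      -- `M` normalizes `P`
      have hMN : M ≤ normalizer ((P : Subgroup G) : Set G) := by
        intro m hm
        obtain ⟨u, hu, n, hn, rfl⟩ := hMdec m hm
        refine Subgroup.mul_mem _ (Subgroup.le_normalizer hu) ?_
        apply Subgroup.centralizer_le_normalizer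
        rw [Subgroup.mem_centralizer_iff]
        intro c hc
        exact hPN c hc n hn
      -- `P` is normal in `G`
      apply hPn P
      rw [← Subgroup.normalizer_eq_top_iff, eq_top_iff]
      intro g _
      refine Sylow.smul_eq_iff_mem_normalizer.mp ?_
      have hgP : ((g • P : Sylow p G) : Subgroup G) ≤ M := by
        intro z hz
        rw [Sylow.coe_subgroup_smul, Subgroup.mem_pointwise_smul_iff_inv_smul_mem] at hz
        have h0 : (MulAut.conj g)⁻¹ • z = g⁻¹ * z * g := by
          rw [MulAut.smul_def, MulAut.conj_inv_apply]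
        rw [h0] at hz
        have h1 : g⁻¹ * z * g ∈ M := hPM hz
        have h2 := hMn.conj_mem _ h1 g
        have h3 : g * (g⁻¹ * z * g) * g⁻¹ = z := by group
        rwa [h3] at h2
      have hsup : IsPGroup p (((g • P : Sylow p G) : Subgroup G) ⊔ (P : Subgroup G) :
          Subgroup G) := IsPGroup.to_sup_of_normal_right' (g • P).2 P.2 (hgP.trans hMN)
      have h1 := P.is_maximal' hsup le_sup_right
      have h2 : ((g • P : Sylow p G) : Subgroup G) ≤ (P : Subgroup G) := by
        rw [← h1]; exact le_sup_left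
      exact Sylow.ext ((g • P).is_maximal' P.2 h2).symm

/-- **K-S4016-A** (reduction to the simple case). -/
theorem concl_of_not_isSimpleGroup {G : Type u} [Group G] [Finite G] {p : ℕ} [Fact p.Prime]
    (hyp : Hyp p G)
    (ih : ∀ (H : Type u) [Group H] [Finite H], Nat.card H < Nat.card G → Hyp p H → Concl p H)
    (hns : ¬ IsSimpleGroup G) : Concl p G := by
  have hpp : p.Prime := Fact.out
  by_contra hcon
  have hnpc : ¬ HasNormalPComplement p G := fun h => hcon (Or.inl h)
  have hnorm : ¬ ∀ P : Sylow p G, (P : Subgroup G).Normal := fun h => hcon (Or.inr h)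
  have hPn : ∀ P : Sylow p G, ¬ (P : Subgroup G).Normal := by
    intro P hP
    apply hnorm
    intro P'
    obtain ⟨g, rfl⟩ := MulAction.exists_smul_eq G P P'
    haveI := hP
    rw [Sylow.smul_eq_of_normal]
    exact hP
  have hB : ∀ P : Sylow p G, ¬ (normalizer ((P : Subgroup G) : Set G) ≤
      centralizer ((P : Subgroup G) : Set G)) := fun P h =>
    hnpc (Cfsg.Agent.Lib.Helper03.hasNormalPComplement_of_normalizer_le_centralizer P h)
  have hA : ∀ N : Subgroup G, N.Normal → (Nat.card N).Coprime p → N = ⊥ :=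
    normal_pprime_eq_bot hyp ih hnpc hPn
  -- `G` is nontrivial
  have hnt : Nontrivial G := by
    by_contra h
    rw [not_nontrivial_iff_subsingleton] at h
    apply hnorm
    intro P
    constructor
    intro n hn g
    have : g * n * g⁻¹ = n := Subsingleton.elim _ _
    rwa [this]
  -- a proper nontrivial normal subgroup
  obtain ⟨N, hNn, hNb, hNt⟩ : ∃ N : Subgroup G, N.Normal ∧ N ≠ ⊥ ∧ N ≠ ⊤ := by
    by_contra h
    push Not at h
    apply hns
    exact ⟨fun N hN => by
      by_cases hb : N = ⊥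
      · exact Or.inl hb
      · exact Or.inr (h N hN hb)⟩
  obtain ⟨R, hRN, hRn, hRp, hRuniv⟩ := exists_normal_sylow_of_normal hyp ih hA N hNn hNt
  have hRb : R ≠ ⊥ := by
    intro hR
    apply hNb
    apply hA N hNn
    rw [Nat.coprime_comm, Nat.Prime.coprime_iff_not_dvd hpp]
    intro hdvd
    obtain ⟨x, hx⟩ := exists_prime_orderOf_dvd_card' (G := ↥N) p hdvd
    have hzp : IsPGroup p (zpowers (x : G)) := by
      apply IsPGroup.of_card (n := 1)
      rw [Nat.card_zpowers, Subgroup.orderOf_coe, hx, pow_one]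
    have hzN : zpowers (x : G) ≤ N := by
      rw [Subgroup.zpowers_le]; exact x.2
    have h1 : zpowers (x : G) ≤ R := hRuniv _ hzN hzp
    rw [hR] at h1
    have h2 : (x : G) = 1 := by
      have := h1 (Subgroup.mem_zpowers (x : G))
      exact Subgroup.mem_bot.mp this
    have h3 : orderOf (x : G) = p := by rw [Subgroup.orderOf_coe, hx]
    rw [h2, orderOf_one] at h3
    exact hpp.one_lt.ne h3
  obtain ⟨P, hRP⟩ := hRp.exists_le_sylow
  have hcyc : IsCyclic ↥(P : Subgroup G) := hyp.1 P
  have hPcomm : ∀ a ∈ (P : Subgroup G), ∀ b ∈ (P : Subgroup G), a * b = b * a := by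
    intro a ha b hb
    haveI := hcyc
    have := (IsCyclic.isMulCommutative (α := ↥(P : Subgroup G))).is_comm.comm ⟨a, ha⟩ ⟨b, hb⟩
    exact congrArg Subtype.val this
  obtain ⟨x, hxR, hx1⟩ : ∃ x ∈ R, x ≠ 1 := (Subgroup.ne_bot_iff_exists_ne_one).mp hRb |>.elim
    (fun x hx => ⟨(x : G), x.2, fun h => hx (Subtype.ext h)⟩)
  have hCn : (centralizer (R : Set G)).Normal := by
    haveI := hRn
    infer_instance
  have hPC : (P : Subgroup G) ≤ centralizer (R : Set G) := by
    intro a ha
    rw [Subgroup.mem_centralizer_iff]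
    intro b hb
    exact hPcomm b (hRP hb) a ha
  by_cases hCt : centralizer (R : Set G) = ⊤
  · apply hB P
    apply Cfsg.Agent.Lib.Helper57.normalizer_le_centralizer_of_cyclic_of_fixed P hcyc x (hRP hxR)
      hx1
    intro n _
    have hn : n ∈ centralizer (R : Set G) := by rw [hCt]; exact Subgroup.mem_top n
    rw [Subgroup.mem_centralizer_iff] at hn ⊢
    intro z hz
    rw [Set.mem_singleton_iff] at hz
    rw [hz]
    exact hn x hxR
  · obtain ⟨Q, _, hQn, hQp, hQuniv⟩ :=
      exists_normal_sylow_of_normal hyp ih hA (centralizer (R : Set G)) hCn hCt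
    have h1 : (P : Subgroup G) ≤ Q := hQuniv _ hPC P.2
    have h2 : Q = (P : Subgroup G) := P.is_maximal' hQp h1
    exact hPn P (h2 ▸ hQn)

end Cfsg.Agent.Lib.Helper42.CycSyl
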