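import Mathlib
import Cfsg.Agent.Lib.Helper96.FC91Defs

/-!
# K-S4291-REC0: a normal self-centralizing four-group `V` of `Y`: `|Y|` divides `24`, elements of order `3` act freely
-/

set_option autoImplicit false

namespace Cfsg.Agent.Lib.Helper42.FC91

universe u

/-- restriction of an automorphism to the non-identity elements -/
def restrHom (V : Type u) [Group V] : MulAut V →* Equiv.Perm {v : V // v ≠ 1} where
  toFun f := f.toEquiv.subtypeEquiv (fun v => by simp)
  map_one' := by
    ext v
    rfl
  map_mul' f g := by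
    ext v
    rfl

theorem restrHom_apply (V : Type u) [Group V] (f : MulAut V) (v : {v : V // v ≠ 1}) :
    ((restrHom V f v : {v : V // v ≠ 1}) : V) = f v := rfl

/-- a permutation of a three-element set of order dividing three with a fixed point is trivial -/
theorem perm_eq_one_of_fixed {X : Type u} [Fintype X] [DecidableEq X] (hX : Fintype.card X = 3)
    (σ : Equiv.Perm X) (h3 : σ ^ 3 = 1) (x₀ : X) (hx₀ : σ x₀ = x₀) : σ = 1 := by
  haveI : Fact (Nat.Prime 3) := ⟨by norm_num⟩
  have h1 := Equiv.Perm.card_compl_support_modEq (p := 3) (n := 1) (σ := σ) (by simpa using h3)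
  rw [hX] at h1
  have h2 : x₀ ∈ σ.supportᶜ := by
    rw [Finset.mem_compl, Equiv.Perm.mem_support, not_not]
    exact hx₀
  have h3' : 0 < σ.supportᶜ.card := Finset.card_pos.2 ⟨x₀, h2⟩
  have h4 : σ.supportᶜ.card ≤ 3 := by
    rw [← hX]
    exact Finset.card_le_univ _
  have h5 : σ.supportᶜ.card = 3 := by
    have : σ.supportᶜ.card % 3 = 3 % 3 := h1
    omega
  have h6 : σ.supportᶜ = Finset.univ := by
    apply Finset.eq_univ_of_card
    rw [h5, hX]
  have h7 : σ.support = ∅ := by
    rw [← compl_compl σ.support, h6, Finset.compl_univ]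
  exact Equiv.Perm.support_eq_empty_iff.1 h7

theorem rec_basic {Y : Type u} [Group Y] [Finite Y] (V : Subgroup Y) [V.Normal] (hV4 : Nat.card V = 4)
    (hVexp : ∀ v ∈ V, v ^ 2 = 1) (hCV : Subgroup.centralizer (V : Set Y) ≤ V) :
    Nat.card Y ∣ 24 ∧ ∀ g : Y, orderOf g = 3 → ∀ v ∈ V, g * v = v * g → v = 1 := by
  classical
  -- V is abelian
  have hinv : ∀ a ∈ V, a⁻¹ = a := by
    intro a ha
    have := hVexp a ha
    rw [pow_two] at this
    exact inv_eq_of_mul_eq_one_left this
  have hVcomm : ∀ a ∈ V, ∀ b ∈ V, a * b = b * a := by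
    intro a ha b hb
    have h1 := hinv (a * b) (V.mul_mem ha hb)
    rw [mul_inv_rev, hinv a ha, hinv b hb] at h1
    exact h1.symm
  have hVle : V ≤ Subgroup.centralizer (V : Set Y) := by
    intro a ha
    rw [Subgroup.mem_centralizer_iff]
    intro b hb
    exact hVcomm b hb a ha
  have hCeq : Subgroup.centralizer (V : Set Y) = V := le_antisymm hCV hVle
  -- the action on the three non-identity elements
  let X := {v : V // v ≠ 1}
  haveI : Fintype V := Fintype.ofFinite V
  haveI : Fintype X := Fintype.ofFinite X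
  have hX3' : Nat.card X = 3 := by
    have h1 : Nat.card X = Nat.card V - 1 := by
      have := Set.card_ne_eq (1 : V)
      rw [← Nat.card_eq_fintype_card, ← Nat.card_eq_fintype_card] at this
      exact this
    rw [h1, hV4]
  have hX3 : Fintype.card X = 3 := by rw [← Nat.card_eq_fintype_card, hX3']
  let Φ : Y →* Equiv.Perm X := (restrHom V).comp (MulAut.conjNormal (H := V))
  have hΦ : ∀ (g : Y) (v : X), (((Φ g v : X) : V) : Y) = g * ((v : V) : Y) * g⁻¹ := by
    intro g v
    rfl
  have hker : Φ.ker = V := by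
    rw [← hCeq]
    ext g
    rw [MonoidHom.mem_ker, Subgroup.mem_centralizer_iff]
    constructor
    · intro hg v hv
      by_cases hv1 : v = 1
      · subst hv1; simp
      · have hv1' : (⟨v, hv⟩ : V) ≠ 1 := by
          intro h
          exact hv1 (congrArg Subtype.val h)
        have h1 := hΦ g ⟨⟨v, hv⟩, hv1'⟩
        rw [hg] at h1
        simp only [Equiv.Perm.coe_one, id_eq] at h1
        -- v = g v g⁻¹
        calc v * g = (g * v * g⁻¹) * g := by rw [← h1]
          _ = g * v := by group
    · intro hg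
      ext v
      rw [hΦ g v]
      have := hg ((v : V) : Y) (v : V).2
      simp only [Equiv.Perm.coe_one, id_eq]
      rw [← this]
      group
  refine ⟨?_, ?_⟩
  · have h1 := Subgroup.card_mul_index Φ.ker
    rw [Subgroup.index_ker, hker, hV4] at h1
    have h2 : Nat.card Φ.range ∣ 6 := by
      have := Subgroup.card_subgroup_dvd_card Φ.range
      rw [Nat.card_perm, hX3'] at this
      exact this
    rw [← h1]
    exact Nat.mul_dvd_mul_left 4 h2
  · intro g hg v hv hgv
    by_contra hv1
    have hv1' : (⟨v, hv⟩ : V) ≠ 1 := by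
      intro h
      exact hv1 (congrArg Subtype.val h)
    have hg3 : g ^ 3 = 1 := by rw [← hg]; exact pow_orderOf_eq_one g
    have hfix : Φ g ⟨⟨v, hv⟩, hv1'⟩ = ⟨⟨v, hv⟩, hv1'⟩ := by
      apply Subtype.ext
      apply Subtype.ext
      rw [hΦ]
      show g * v * g⁻¹ = v
      rw [hgv, mul_inv_cancel_right]
    have hΦ3 : (Φ g) ^ 3 = 1 := by rw [← map_pow, hg3, map_one]
    have hone : Φ g = 1 := perm_eq_one_of_fixed hX3 (Φ g) hΦ3 _ hfix
    have hgV : g ∈ V := by rw [← hker]; exact hone
    have hg2 : g ^ 2 = 1 := hVexp g hgV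
    have hg1 : g = 1 := by
      calc g = g ^ 3 * (g ^ 2)⁻¹ := by group
        _ = 1 := by rw [hg3, hg2]; simp
    rw [hg1, orderOf_one] at hg
    omega

end Cfsg.Agent.Lib.Helper42.FC91
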