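import Cfsg.Agent.Lib.Helper37.G2InvDefs
import Cfsg.Agent.Lib.Helper26.G2InvC2
import Cfsg.Agent.Lib.Helper86.G2InvZ
import Cfsg.Agent.Lib.Helper81.G2InvI1
import Cfsg.Agent.Lib.Helper54.G2InvB1
import Cfsg.Agent.Lib.Helper93.G2InvC3

set_option autoImplicit false
set_option linter.unusedSectionVars false
set_option linter.unusedVariables false

namespace Cfsg.Agent.Lib.Helper42.G2Inv

open Cfsg.Agent.Lib.Helper37.G2Inv

variable {F : Type*} [Field F] [CharP F 2] {G : Type*} [Group G] (D : UData F G)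

theorem a_x9 (a : F) : D.x 9 a = D.z a 0 0 := by
  unfold UData.z; rw [D.x_zero, D.x_zero, mul_one, mul_one]

theorem a_x10 (b : F) : D.x 10 b = D.z 0 b 0 := by
  unfold UData.z; rw [D.x_zero, D.x_zero, mul_one, one_mul]

theorem a_x11 (c : F) : D.x 11 c = D.z 0 0 c := by
  unfold UData.z; rw [D.x_zero, D.x_zero, one_mul, one_mul]

theorem a_x10x11 (b c : F) : D.x 10 b * D.x 11 c = D.z 0 b c := by
  unfold UData.z; rw [D.x_zero, one_mul]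

theorem a_zx8 (a b g t : F) : D.z a b g * D.x 8 t = D.x 8 t * D.z a b (g + t * a) := by
  have h := Cfsg.Agent.Lib.Helper86.G2Inv.z_conj8 D t a b (g + t * a)
  have e : g + t * a + t * a = g := by
    rw [add_assoc, CharTwo.add_self_eq_zero, add_zero]
  rw [e] at h
  rw [← h]; group

theorem a_c106 (c s : F) : D.x 10 c * D.x 6 s * (D.x 10 c)⁻¹ = D.x 6 s * D.x 11 (c * s) := by
  rw [D.r610, mul_assoc, mul_assoc, ← mul_assoc (D.x 10 c), D.c1011, mul_assoc, mul_inv_cancel,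
    mul_one, mul_comm s c]

theorem a_conj_mul (k a b : G) : k * (a * b) * k⁻¹ = (k * a * k⁻¹) * (k * b * k⁻¹) := by group

theorem a_step2 (s t8 α β γ c : F) (hcs : c * s = t8) :
    ∃ α' β' γ' : F, D.x 7 c * (D.x 6 s * (D.x 8 t8 * D.z α β γ)) * (D.x 7 c)⁻¹ =
      D.x 6 s * D.z α' β' γ' := by
  refine ⟨c ^ 2 * s + (0 + α), c ^ 3 * s + (c ^ 2 * t8 + (β + c * α)),
    c ^ 3 * s ^ 2 + t8 * (c ^ 2 * s) + (c * t8 ^ 2 + γ), ?_⟩
  rw [a_conj_mul, a_conj_mul, Cfsg.Agent.Lib.Helper93.G2Inv.c76, Cfsg.Agent.Lib.Helper26.G2Inv.c78,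
    Cfsg.Agent.Lib.Helper86.G2Inv.z_conj7]
  have e0 : D.x 9 (c ^ 2 * s) * (D.x 10 (c ^ 3 * s) * D.x 11 (c ^ 3 * s ^ 2)) =
      D.z (c ^ 2 * s) (c ^ 3 * s) (c ^ 3 * s ^ 2) := rfl
  rw [e0, a_x10x11]
  have e1 : D.x 8 (c * s) * D.x 8 t8 = 1 := by
    rw [D.add, hcs, CharTwo.add_self_eq_zero, D.x_zero]
  calc D.x 6 s * (D.x 8 (c * s) * D.z (c ^ 2 * s) (c ^ 3 * s) (c ^ 3 * s ^ 2)) *
        (D.x 8 t8 * D.z 0 (c ^ 2 * t8) (c * t8 ^ 2) * D.z α (β + c * α) γ)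
      = D.x 6 s * (D.x 8 (c * s) * (D.z (c ^ 2 * s) (c ^ 3 * s) (c ^ 3 * s ^ 2) * D.x 8 t8) *
        (D.z 0 (c ^ 2 * t8) (c * t8 ^ 2) * D.z α (β + c * α) γ)) := by simp only [mul_assoc]
    _ = D.x 6 s * ((D.x 8 (c * s) * D.x 8 t8) *
        (D.z (c ^ 2 * s) (c ^ 3 * s) (c ^ 3 * s ^ 2 + t8 * (c ^ 2 * s)) *
        (D.z 0 (c ^ 2 * t8) (c * t8 ^ 2) * D.z α (β + c * α) γ))) := by
        rw [a_zx8]; simp only [mul_assoc]
    _ = _ := by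
        rw [e1, one_mul, Cfsg.Agent.Lib.Helper86.G2Inv.z_mul, Cfsg.Agent.Lib.Helper86.G2Inv.z_mul]

/-- K-G2I-A -/
theorem good_68z (s t8 α β γ : F) (hs : s ≠ 0)
    (h : D.x 6 s * (D.x 8 t8 * D.z α β γ) * (D.x 6 s * (D.x 8 t8 * D.z α β γ)) = 1) :
    D.Good (D.x 6 s * (D.x 8 t8 * D.z α β γ)) := by
  have hcs : (t8 / s) * s = t8 := by field_simp
  obtain ⟨α', β', γ', hk⟩ := a_step2 D s t8 α β γ (t8 / s) hcs
  apply D.good_of_conj (D.x 7 (t8 / s))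
  rw [hk]
  have hinv : D.x 6 s * D.z α' β' γ' * (D.x 6 s * D.z α' β' γ') = 1 := by
    rw [← hk]
    have e : ∀ k u : G, k * u * k⁻¹ * (k * u * k⁻¹) = k * (u * u) * k⁻¹ := by intros; group
    rw [e, h]; group
  have hβ : β' = 0 := by
    have := Cfsg.Agent.Lib.Helper81.G2Inv.inv6z D s α' β' γ' hinv
    rcases mul_eq_zero.1 this with h0 | h0
    · exact absurd h0 hs
    · exact h0
  subst hβ
  apply D.good_of_conj (D.x 10 (γ' / s))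
  have e4 : D.x 10 (γ' / s) * (D.x 6 s * D.z α' 0 γ') * (D.x 10 (γ' / s))⁻¹ =
      D.x 6 s * D.z α' 0 0 := by
    rw [a_conj_mul, a_c106, Cfsg.Agent.Lib.Helper86.G2Inv.z_conj10, a_x11, mul_assoc,
      Cfsg.Agent.Lib.Helper86.G2Inv.z_mul]
    have : γ' / s * s = γ' := by field_simp
    rw [this, zero_add, zero_add, CharTwo.add_self_eq_zero]
  rw [e4]
  by_cases hα : α' = 0
  · subst hα
    have e5 : D.x 6 s * D.z 0 0 0 = D.x 6 s := by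
      rw [← a_x11, D.x_zero, mul_one]
    rw [e5]
    obtain ⟨g, hg⟩ := D.w6_11 s
    apply D.good_of_conj g
    rw [hg]
    obtain ⟨g', hg'⟩ := D.torus11 s hs
    exact ⟨g', Or.inl hg'⟩
  · obtain ⟨c₂, hc₂⟩ := D.sqrt (α' / s)
    have hc2s : c₂ ^ 2 * s = α' := by rw [sq, hc₂]; field_simp
    apply D.good_of_conj (D.x 7 c₂)
    have e6 : D.x 7 c₂ * (D.x 6 s * D.z α' 0 0) * (D.x 7 c₂)⁻¹ =
        D.x 6 s * (D.x 8 (c₂ * s) * D.x 11 (c₂ ^ 3 * s ^ 2)) := by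
      rw [a_conj_mul, Cfsg.Agent.Lib.Helper93.G2Inv.c76, Cfsg.Agent.Lib.Helper86.G2Inv.z_conj7]
      have e0 : D.x 9 (c₂ ^ 2 * s) * (D.x 10 (c₂ ^ 3 * s) * D.x 11 (c₂ ^ 3 * s ^ 2)) =
          D.z (c₂ ^ 2 * s) (c₂ ^ 3 * s) (c₂ ^ 3 * s ^ 2) := rfl
      rw [e0]
      simp only [mul_assoc]
      rw [Cfsg.Agent.Lib.Helper86.G2Inv.z_mul, a_x11]
      have h1 : c₂ ^ 2 * s + α' = 0 := by rw [hc2s, CharTwo.add_self_eq_zero]
      have h2 : c₂ ^ 3 * s + (0 + c₂ * α') = 0 := by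
        have : c₂ ^ 3 * s = c₂ * α' := by rw [← hc2s]; ring
        rw [this, zero_add, CharTwo.add_self_eq_zero]
      rw [h1, h2, add_zero]
    rw [e6]
    apply D.good_of_conj (D.x 10 (c₂ ^ 3 * s))
    have e7 : D.x 10 (c₂ ^ 3 * s) * (D.x 6 s * (D.x 8 (c₂ * s) * D.x 11 (c₂ ^ 3 * s ^ 2))) *
        (D.x 10 (c₂ ^ 3 * s))⁻¹ = D.x 6 s * D.x 8 (c₂ * s) := by
      rw [a_conj_mul, a_conj_mul, a_c106]
      have e8 : D.x 10 (c₂ ^ 3 * s) * D.x 8 (c₂ * s) * (D.x 10 (c₂ ^ 3 * s))⁻¹ =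
          D.x 8 (c₂ * s) := by
        rw [← D.c810, mul_inv_cancel_right]
      have e11 : D.x 10 (c₂ ^ 3 * s) * D.x 11 (c₂ ^ 3 * s ^ 2) * (D.x 10 (c₂ ^ 3 * s))⁻¹ =
          D.x 11 (c₂ ^ 3 * s ^ 2) := by
        rw [D.c1011, mul_inv_cancel_right]
      rw [e8, e11]
      have : c₂ ^ 3 * s * s = c₂ ^ 3 * s ^ 2 := by ring
      rw [this]
      rw [mul_assoc, ← mul_assoc (D.x 11 _) (D.x 8 _), ← D.c811, mul_assoc (D.x 8 _), D.x_sq,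
        mul_one]
    rw [e7]
    obtain ⟨g, hg⟩ := D.w68 s (c₂ * s)
    apply D.good_of_conj g
    rw [hg]
    have e9 : D.x 10 s * D.x 9 (c₂ * s) = D.z (c₂ * s) s 0 := by
      rw [← D.c910]; unfold UData.z; rw [D.x_zero, mul_one]
    rw [e9]
    apply Cfsg.Agent.Lib.Helper54.G2Inv.good_z
    intro h1
    rw [Cfsg.Agent.Lib.Helper86.G2Inv.z_eq_one_iff] at h1
    exact hs h1.2.1

end Cfsg.Agent.Lib.Helper42.G2Inv
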