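import Mathlib
import Cfsg.Prelude.Def_Solvable
import Cfsg.Agent.Lib.Helper01.SolvableNP

/-!
# K-G42 leaf 255301 (L1): trivial `O_2` and `O_{2'}` => no nontrivial solvable normal subgroup
-/

set_option autoImplicit false

namespace Cfsg.Agent.Lib.Helper42.G42

/-- A nontrivial solvable normal subgroup contains a nontrivial normal `p`-subgroup of `G`
(same argument as `Helper33.exists_normal_pgroup_le`, restated here to keep the import closure small). -/
theorem l1_exists_normal_pgroup_le {G : Type*} [Group G] [Finite G] (H : Subgroup G) [hHn : H.Normal]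
    (hs : Group.IsSolvable H) (hne : H ≠ ⊥) :
    ∃ (p : ℕ) (A : Subgroup G), p.Prime ∧ A.Normal ∧ A ≤ H ∧ A ≠ ⊥ ∧ IsPGroup p A := by
  haveI : Nontrivial H := (Subgroup.nontrivial_iff_ne_bot H).mpr hne
  obtain ⟨A0, hA0char, hA0comm, hA0ne⟩ := Cfsg.Agent.Lib.Helper01.exists_char_abelian_of_solvable hs
  let B : Subgroup G := A0.map H.subtype
  haveI hBn : B.Normal := ConjAct.normal_of_characteristic_of_normal
  haveI hBcomm : IsMulCommutative B := inferInstance
  have hBH : B ≤ H := Subgroup.map_subtype_le A0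
  have hBne : B ≠ ⊥ := by
    intro hbot
    rw [Subgroup.map_eq_bot_iff_of_injective _ H.subtype_injective] at hbot
    exact hA0ne hbot
  have hcard : Nat.card B ≠ 1 := fun h => hBne (Subgroup.card_eq_one.mp h)
  obtain ⟨p, hp, hpdvd⟩ := Nat.exists_prime_and_dvd hcard
  haveI : Fact p.Prime := ⟨hp⟩
  let S : Sylow p B := default
  have hSnormal : (S : Subgroup B).Normal := inferInstance
  haveI hSchar : (S : Subgroup B).Characteristic := Sylow.characteristic_of_normal S hSnormal
  refine ⟨p, (S : Subgroup B).map B.subtype, hp, ConjAct.normal_of_characteristic_of_normal,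
    (Subgroup.map_subtype_le _).trans hBH, ?_, S.isPGroup'.map _⟩
  intro hbot
  rw [Subgroup.map_eq_bot_iff_of_injective _ B.subtype_injective] at hbot
  exact Sylow.ne_bot_of_dvd_card S hpdvd hbot

/-- 255301 L1: trivial `O_2` and `O_{2'}` => no nontrivial solvable normal subgroup. -/
theorem noSolvNormal {H : Type*} [Group H] [Finite H] (hO : Cfsg.pPrimeCore 2 H = ⊥) (hO2 : Cfsg.pCore 2 H = ⊥)
    (M : Subgroup H) (hM : M.Normal) (hs : Group.IsSolvable ↥M) : M = ⊥ := by
  by_contra hne
  obtain ⟨p, A, hp, hAn, _, hAne, hAp⟩ := l1_exists_normal_pgroup_le M hs hne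
  haveI : Fact p.Prime := ⟨hp⟩
  by_cases h2 : p = 2
  · subst h2
    have hle : A ≤ Cfsg.pCore 2 H := le_sSup ⟨hAn, hAp⟩
    rw [hO2] at hle
    exact hAne (le_bot_iff.mp hle)
  · obtain ⟨n, hn⟩ := IsPGroup.iff_card.mp hAp
    have hcop : (Nat.card A).Coprime 2 := by
      rw [hn]
      apply Nat.Coprime.pow_left
      exact (Nat.coprime_primes hp Nat.prime_two).mpr h2
    have hle : A ≤ Cfsg.pPrimeCore 2 H := le_sSup ⟨hAn, hcop⟩
    rw [hO] at hle
    exact hAne (le_bot_iff.mp hle)

end Cfsg.Agent.Lib.Helper42.G42
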