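import Mathlib
import Cfsg.Prelude.Def_HallClasses
import Cfsg.Agent.Lib.Helper06.HallSym.Defs

/-!
# K-S2536-G2 (helper42, architect helper6): a `π`-subgroup of a Young subgroup with full `p`-parts projects onto Hall
`π`-subgroups of both factors
-/

set_option autoImplicit false
open Cfsg
open scoped Pointwise

namespace Cfsg.Agent.Lib.Helper42.HallSym

/-- divisibility gives an inequality of `p`-adic valuations -/
theorem padicValNat_le_of_dvd' {p a b : ℕ} [Fact p.Prime] (hb : b ≠ 0) (h : a ∣ b) :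
    padicValNat p a ≤ padicValNat p b :=
  (padicValNat_dvd_iff_le hb).1 (pow_padicValNat_dvd.trans h)

/-- two jointly injective homomorphisms from a `π`-group whose order has the full `p`-part of `|G₁| |G₂|` for `p ∈ π`:
the image in `G₁` is a Hall `π`-subgroup -/
theorem isPiHall_range_of_joint_injective (π : Set ℕ) {K G₁ G₂ : Type*} [Group K] [Group G₁] [Group G₂]
    [Finite K] [Finite G₁] [Finite G₂] (f₁ : K →* G₁) (f₂ : K →* G₂)
    (hinj : ∀ k, f₁ k = 1 → f₂ k = 1 → k = 1)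
    (hπ : ∀ p : ℕ, p.Prime → p ∣ Nat.card K → p ∈ π)
    (hval : ∀ p : ℕ, p.Prime → p ∈ π →
      padicValNat p (Nat.card G₁ * Nat.card G₂) ≤ padicValNat p (Nat.card K)) :
    IsPiHall π f₁.range := by
  have h1 : Nat.card f₁.ker * Nat.card f₁.range = Nat.card K := by
    rw [← Subgroup.index_ker]
    exact Subgroup.card_mul_index _
  have h2 : Nat.card f₁.ker ∣ Nat.card G₂ := by
    apply Subgroup.card_dvd_of_injective (f₂.comp f₁.ker.subtype)
    intro a b hab
    have hab' : f₂ (a : K) = f₂ (b : K) := hab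
    have h3 : (a : K) * (b : K)⁻¹ = 1 := by
      apply hinj
      · rw [map_mul, map_inv, (MonoidHom.mem_ker).1 a.2, (MonoidHom.mem_ker).1 b.2, inv_one, mul_one]
      · rw [map_mul, map_inv, hab', mul_inv_cancel]
    exact Subtype.ext (mul_inv_eq_one.1 h3)
  have h3 : Nat.card f₁.range ∣ Nat.card G₁ := Subgroup.card_subgroup_dvd_card _
  have hK0 : Nat.card K ≠ 0 := Nat.card_pos.ne'
  have hG1 : Nat.card G₁ ≠ 0 := Nat.card_pos.ne'
  have hG2 : Nat.card G₂ ≠ 0 := Nat.card_pos.ne'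
  have hker0 : Nat.card f₁.ker ≠ 0 := Nat.card_pos.ne'
  have hran0 : Nat.card f₁.range ≠ 0 := Nat.card_pos.ne'
  refine ⟨?_, ?_⟩
  · intro p hp hpd
    apply hπ p hp
    exact hpd.trans (Dvd.intro_left _ h1)
  · intro p hp hpπ hpd
    haveI : Fact p.Prime := ⟨hp⟩
    have hv := hval p hp hpπ
    rw [padicValNat.mul hG1 hG2, ← h1, padicValNat.mul hker0 hran0] at hv
    have hv2 : padicValNat p (Nat.card f₁.ker) ≤ padicValNat p (Nat.card G₂) := padicValNat_le_of_dvd' hG2 h2
    have hidx : Nat.card f₁.range * f₁.range.index = Nat.card G₁ := Subgroup.card_mul_index _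
    have hidx0 : f₁.range.index ≠ 0 := by
      intro h0
      rw [h0, mul_zero] at hidx
      exact hG1 hidx.symm
    have hv3 : padicValNat p (Nat.card G₁) =
        padicValNat p (Nat.card f₁.range) + padicValNat p f₁.range.index := by
      rw [← hidx, padicValNat.mul hran0 hidx0]
    have hv4 : padicValNat p f₁.range.index ≠ 0 := (dvd_iff_padicValNat_ne_zero hidx0).1 hpd
    omega

/-- **K-G2.** -/
theorem young_hall (π : Set ℕ) {α : Type} [Finite α] (K : Subgroup (Equiv.Perm α)) (Δ : Set α)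
    (hK : K ≤ MulAction.stabilizer (Equiv.Perm α) Δ)
    (hπ : ∀ p : ℕ, p.Prime → p ∣ Nat.card K → p ∈ π)
    (hval : ∀ p : ℕ, p.Prime → p ∈ π →
      padicValNat p ((Δ.ncard).factorial * (Nat.card α - Δ.ncard).factorial) ≤
        padicValNat p (Nat.card K)) :
    IsEPiGroup π (Equiv.Perm ↥Δ) ∧ IsEPiGroup π (Equiv.Perm ↥(Δᶜ : Set α)) := by
  classical
  -- the two restriction maps
  have hmem : ∀ k : K, ∀ x : α, (k : Equiv.Perm α) x ∈ Δ ↔ x ∈ Δ := fun k x =>
    (MulAction.mem_stabilizer_set.1 (hK k.2)) x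
  have hmemc : ∀ k : K, ∀ x : α, (k : Equiv.Perm α) x ∈ (Δᶜ : Set α) ↔ x ∈ (Δᶜ : Set α) := fun k x => by
    rw [Set.mem_compl_iff, Set.mem_compl_iff, hmem k x]
  let f₁ : K →* Equiv.Perm ↥Δ :=
    { toFun := fun k => (k : Equiv.Perm α).subtypePerm (hmem k)
      map_one' := by
        ext x
        simp
      map_mul' := fun a b => by
        ext x
        rfl }
  let f₂ : K →* Equiv.Perm ↥(Δᶜ : Set α) :=
    { toFun := fun k => (k : Equiv.Perm α).subtypePerm (hmemc k)
      map_one' := by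
        ext x
        simp
      map_mul' := fun a b => by
        ext x
        rfl }
  have hinj : ∀ k : K, f₁ k = 1 → f₂ k = 1 → k = 1 := by
    intro k h1 h2
    apply Subtype.ext
    ext x
    by_cases hx : x ∈ Δ
    · have := congrArg (fun σ : Equiv.Perm ↥Δ => ((σ ⟨x, hx⟩ : ↥Δ) : α)) h1
      simpa [f₁] using this
    · have := congrArg (fun σ : Equiv.Perm ↥(Δᶜ : Set α) => ((σ ⟨x, hx⟩ : ↥(Δᶜ : Set α)) : α)) h2
      simpa [f₂] using this
  have hc1 : Nat.card (Equiv.Perm ↥Δ) = (Δ.ncard).factorial := by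
    rw [Nat.card_perm]
    rfl
  have hc2 : Nat.card (Equiv.Perm ↥(Δᶜ : Set α)) = (Nat.card α - Δ.ncard).factorial := by
    rw [Nat.card_perm, ← Set.ncard_compl Δ (Set.toFinite _) (Set.toFinite _)]
    rfl
  refine ⟨⟨f₁.range, ?_⟩, ⟨f₂.range, ?_⟩⟩
  · apply isPiHall_range_of_joint_injective π f₁ f₂ hinj hπ
    intro p hp hpπ
    rw [hc1, hc2]
    exact hval p hp hpπ
  · apply isPiHall_range_of_joint_injective π f₂ f₁ (fun k h2 h1 => hinj k h1 h2) hπ
    intro p hp hpπ
    rw [hc1, hc2, mul_comm]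
    exact hval p hp hpπ

end Cfsg.Agent.Lib.Helper42.HallSym
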