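import Mathlib
import Cfsg.Agent.S1140

/-!
# Keystone K-S1138-A (`pure_span`) for S1138 (Higman, Suzuki 2-groups); architect helper68.

An additive group `D` of additive endomorphisms of a finite field `F` of characteristic 2, stable under the
twist by a generator `lam` of the multiplicative group and with no non-identity power of the twist fixing
a non-zero element, is additively generated by its pure elements `x ↦ c * σ x`.
-/

set_option autoImplicit false
set_option linter.unusedSectionVars false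
set_option linter.unusedVariables false
set_option linter.style.haveILetI false

namespace Cfsg.Agent.Lib.Helper42.Hig

open Polynomial

section
variable {F : Type*} [Field F] [Fintype F] [CharP F 2] [Fintype (F ≃+* F)]

/-- Every additive endomorphism is a combination of the automorphisms (from S1140). -/
theorem exists_coeff (θ : F →+ F) : ∃ c : (F ≃+* F) → F, ∀ x, θ x = ∑ σ, c σ * σ x := by
  classical
  obtain ⟨s, c, hc⟩ := (Cfsg.Agent.S1140.result (F := F)).2.1 θ
  refine ⟨fun σ => if σ ∈ s then c σ else 0, fun x => ?_⟩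
  rw [hc x, ← Finset.sum_subset (Finset.subset_univ s)]
  · exact Finset.sum_congr rfl fun σ hσ => by simp [hσ]
  · intro σ _ hσ
    simp [hσ]

/-- Uniqueness of the coefficients (linear independence, from S1140). -/
theorem coeff_eq_zero (c : (F ≃+* F) → F) (h : ∀ x, ∑ σ, c σ * σ x = 0) : c = 0 := by
  have hli := (Cfsg.Agent.S1140.result (F := F)).1
  rw [Fintype.linearIndependent_iff] at hli
  funext σ
  refine hli c ?_ σ
  funext x
  simp only [Finset.sum_apply, Pi.smul_apply, smul_eq_mul, Pi.zero_apply]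
  exact h x

theorem coeff_ext (c c' : (F ≃+* F) → F)
    (h : ∀ x, ∑ σ, c σ * σ x = ∑ σ, c' σ * σ x) : c = c' := by
  have h0 : c - c' = 0 := coeff_eq_zero _ fun x => by
    simp only [Pi.sub_apply, sub_mul, Finset.sum_sub_distrib, h x, sub_self]
  exact sub_eq_zero.mp h0

/-- The twisting multiplier `ρ_σ = lam / σ lam`. -/
def rho (lam : F) (σ : F ≃+* F) : F := lam * (σ lam)⁻¹

/-- A multiplier function `m` is good for `D` when multiplying the coefficients of an element of `D`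
by `m` stays in `D`. -/
def Good (D : AddSubgroup (F →+ F)) (m : (F ≃+* F) → F) : Prop :=
  ∀ θ ∈ D, ∀ c : (F ≃+* F) → F, (∀ x, θ x = ∑ σ, c σ * σ x) →
    ∃ θ' ∈ D, ∀ x, θ' x = ∑ σ, (c σ * m σ) * σ x

theorem good_zero (D : AddSubgroup (F →+ F)) : Good D (fun _ => 0) := by
  intro θ _ c _
  exact ⟨0, D.zero_mem, fun x => by simp⟩

theorem good_one (D : AddSubgroup (F →+ F)) : Good D (fun _ => 1) := by
  intro θ hθ c hc
  exact ⟨θ, hθ, fun x => by simp [hc x]⟩

theorem good_add (D : AddSubgroup (F →+ F)) {m₁ m₂ : (F ≃+* F) → F} (h₁ : Good D m₁)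
    (h₂ : Good D m₂) : Good D (fun σ => m₁ σ + m₂ σ) := by
  intro θ hθ c hc
  obtain ⟨θ₁, hθ₁, e₁⟩ := h₁ θ hθ c hc
  obtain ⟨θ₂, hθ₂, e₂⟩ := h₂ θ hθ c hc
  refine ⟨θ₁ + θ₂, D.add_mem hθ₁ hθ₂, fun x => ?_⟩
  rw [AddMonoidHom.add_apply, e₁ x, e₂ x, ← Finset.sum_add_distrib]
  exact Finset.sum_congr rfl fun σ _ => by ring

theorem good_mul (D : AddSubgroup (F →+ F)) {m₁ m₂ : (F ≃+* F) → F} (h₁ : Good D m₁)
    (h₂ : Good D m₂) : Good D (fun σ => m₁ σ * m₂ σ) := by
  intro θ hθ c hc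
  obtain ⟨θ₁, hθ₁, e₁⟩ := h₁ θ hθ c hc
  obtain ⟨θ₂, hθ₂, e₂⟩ := h₂ θ₁ hθ₁ _ e₁
  refine ⟨θ₂, hθ₂, fun x => ?_⟩
  rw [e₂ x]
  exact Finset.sum_congr rfl fun σ _ => by ring

theorem good_rho (lam : F) (hl : lam ≠ 0) (D : AddSubgroup (F →+ F))
    (hconj : ∀ θ ∈ D, ∃ θ' ∈ D, ∀ x, θ' (lam * x) = lam * θ x) : Good D (rho lam) := by
  intro θ hθ c hc
  obtain ⟨θ', hθ', h⟩ := hconj θ hθ
  obtain ⟨c', hc'⟩ := exists_coeff θ'
  refine ⟨θ', hθ', fun x => ?_⟩
  have key : (fun σ => c' σ * σ lam) = fun σ => lam * c σ := by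
    apply coeff_ext
    intro x
    have hx := h x
    rw [hc' (lam * x), hc x, Finset.mul_sum] at hx
    rw [show (∑ σ, c' σ * σ lam * σ x) = ∑ σ, c' σ * σ (lam * x) from
      Finset.sum_congr rfl fun σ _ => by rw [map_mul]; ring, hx]
    exact Finset.sum_congr rfl fun σ _ => by ring
  rw [hc' x]
  refine Finset.sum_congr rfl fun σ _ => ?_
  have hσ : σ lam ≠ 0 := (map_ne_zero σ).mpr hl
  have hk : c' σ * σ lam = lam * c σ := congrFun key σ
  have : c' σ = c σ * rho lam σ := by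
    unfold rho
    field_simp
    linear_combination hk
  rw [this]

theorem good_pow (D : AddSubgroup (F →+ F)) {m : (F ≃+* F) → F} (h : Good D m) (n : ℕ) :
    Good D (fun σ => m σ ^ n) := by
  induction n with
  | zero => simpa using good_one D
  | succ n ih =>
    have := good_mul D ih h
    simpa [pow_succ] using this

local instance algZ2 : Algebra (ZMod 2) F := ZMod.algebra F 2

theorem good_aeval (lam : F) (hl : lam ≠ 0) (D : AddSubgroup (F →+ F))
    (hconj : ∀ θ ∈ D, ∃ θ' ∈ D, ∀ x, θ' (lam * x) = lam * θ x) (f : (ZMod 2)[X]) :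
    Good D (fun σ => aeval (rho lam σ) f) := by
  induction f using Polynomial.induction_on' with
  | add p q hp hq =>
    have := good_add D hp hq
    simpa [map_add] using this
  | monomial n a =>
    have hpow := good_pow D (good_rho lam hl D hconj) n
    have hconst : Good D (fun _ => algebraMap (ZMod 2) F a) := by
      have ha : a = 0 ∨ a = 1 := by
        revert a
        decide
      rcases ha with rfl | rfl
      · simpa using good_zero D
      · simpa using good_one D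
    have := good_mul D hconst hpow
    simpa [aeval_monomial] using this

/-- The key field identity: `ρ_σ₁` and `ρ_σ₂` are conjugate only when `σ₁ = σ₂`. -/
theorem key_identity (lam : F) (hl : lam ≠ 0) (hlam : ∀ x : F, x ≠ 0 → ∃ i : ℕ, x = lam ^ i)
    (σ₁ σ₂ : F ≃+* F) (τ : F →+* F)
    (h : lam * (σ₁ lam)⁻¹ = τ (lam * (σ₂ lam)⁻¹)) : σ₁ = σ₂ := by
  have h1 : σ₁ lam ≠ 0 := (map_ne_zero σ₁).mpr hl
  have h2 : σ₂ lam ≠ 0 := (map_ne_zero σ₂).mpr hl
  have h3 : τ (σ₂ lam) ≠ 0 := (map_ne_zero τ).mpr h2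
  have hE0 : lam * τ (σ₂ lam) = τ lam * σ₁ lam := by
    rw [map_mul, map_inv₀] at h
    field_simp at h
    linear_combination h
  have hE : ∀ x, x * τ (σ₂ x) = τ x * σ₁ x := by
    intro x
    rcases eq_or_ne x 0 with rfl | hx
    · simp
    · obtain ⟨i, rfl⟩ := hlam x hx
      simp only [map_pow, ← mul_pow, hE0]
  have hP : ∀ y, y + τ (σ₂ y) = τ y + σ₁ y := by
    intro y
    have e1 := hE (y + 1)
    simp only [map_add, map_one] at e1
    linear_combination e1 - hE y
  have hQ : ∀ y, τ y = y ∨ σ₁ y = y := by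
    intro y
    have : (y - τ y) * (y - σ₁ y) = 0 := by linear_combination y * hP y - hE y
    rcases mul_eq_zero.mp this with h | h
    · left; exact (sub_eq_zero.mp h).symm
    · right; exact (sub_eq_zero.mp h).symm
  have hR : (∀ y, τ y = y) ∨ (∀ y, σ₁ y = y) := by
    by_contra hcon
    simp only [not_or, not_forall] at hcon
    obtain ⟨⟨x₀, hx₀⟩, ⟨y₀, hy₀⟩⟩ := hcon
    have hx₁ : σ₁ x₀ = x₀ := (hQ x₀).resolve_left hx₀
    have hy₁ : τ y₀ = y₀ := (hQ y₀).resolve_right hy₀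
    rcases hQ (x₀ + y₀) with h | h
    · rw [map_add, hy₁] at h; exact hx₀ (add_right_cancel h)
    · rw [map_add, hx₁] at h; exact hy₀ (add_left_cancel h)
  rcases hR with hτ | hσ
  · ext x
    rcases eq_or_ne x 0 with rfl | hx
    · simp
    · have := hE x
      rw [hτ, hτ] at this
      exact (mul_left_cancel₀ hx this).symm
  · ext x
    rcases eq_or_ne x 0 with rfl | hx
    · simp
    · have h4 := hE x
      rw [hσ x, mul_comm] at h4
      have h5 := mul_right_cancel₀ hx h4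
      have h6 := τ.injective h5
      rw [hσ x, h6]

theorem aeval_minpoly_ne_zero (lam : F) (hl : lam ≠ 0)
    (hlam : ∀ x : F, x ≠ 0 → ∃ i : ℕ, x = lam ^ i) (σ₁ σ₂ : F ≃+* F) (hne : σ₁ ≠ σ₂) :
    aeval (rho lam σ₁) (minpoly (ZMod 2) (rho lam σ₂)) ≠ 0 := by
  intro h0
  have hint : IsIntegral (ZMod 2) (rho lam σ₂) := Algebra.IsIntegral.isIntegral _
  have hconj := isConjRoot_of_aeval_eq_zero hint h0
  obtain ⟨τ, hτ⟩ := isConjRoot_iff_exists_algEquiv.mp hconj
  exact hne (key_identity lam hl hlam σ₂ σ₁ (τ : F →+* F) hτ.symm).symm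

/-- A non-zero element of `D` with a single automorphism in its support is pure. -/
theorem pure_of_single (lam : F) (hl : lam ≠ 0) (hlam : ∀ x : F, x ≠ 0 → ∃ i : ℕ, x = lam ^ i)
    (D : AddSubgroup (F →+ F))
    (hconj : ∀ θ ∈ D, ∃ θ' ∈ D, ∀ x, θ' (lam * x) = lam * θ x)
    (hfree : ∀ θ ∈ D, θ ≠ 0 → ∀ j : ℕ, (∀ x, θ (lam ^ j * x) = lam ^ j * θ x) → lam ^ j = 1)
    (θ : F →+ F) (hθ : θ ∈ D) (c : F) (hc : c ≠ 0) (σ : F ≃+* F) (h : ∀ x, θ x = c * σ x) :
    (∀ u : F, σ u = u → u = 0 ∨ u = 1) ∧ ∀ c' : F, ∃ θ' ∈ D, ∀ x, θ' x = c' * σ x := by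
  have hθ0 : θ ≠ 0 := by
    intro h0
    have h1 := h 1
    rw [h0] at h1
    simp at h1
    exact hc h1.symm
  have hH : ∀ j : ℕ, σ lam ^ j = lam ^ j → lam ^ j = 1 := by
    intro j hj
    apply hfree θ hθ hθ0 j
    intro x
    rw [h, h, map_mul, map_pow, hj]
    ring
  have hσl : σ lam ≠ 0 := (map_ne_zero σ).mpr hl
  constructor
  · intro u hu
    rcases eq_or_ne u 0 with rfl | hu0
    · left; rfl
    · right
      obtain ⟨j, rfl⟩ := hlam u hu0
      rw [map_pow] at hu
      exact hH j hu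
  · have hr0 : rho lam σ ≠ 0 := mul_ne_zero hl (inv_ne_zero hσl)
    have hpow : ∀ j : ℕ, ∃ θ' ∈ D, ∀ x, θ' x = (c * rho lam σ ^ j) * σ x := by
      intro j
      induction j with
      | zero => exact ⟨θ, hθ, fun x => by simp [h]⟩
      | succ j ih =>
        obtain ⟨θ₁, hθ₁, h₁⟩ := ih
        obtain ⟨θ₂, hθ₂, h₂⟩ := hconj θ₁ hθ₁
        refine ⟨θ₂, hθ₂, fun x => ?_⟩
        have h3 := h₂ (lam⁻¹ * x)
        rw [mul_inv_cancel_left₀ hl] at h3
        rw [h3, h₁, map_mul, map_inv₀]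
        unfold rho
        ring
    have hH' : ∀ j : ℕ, rho lam σ ^ j = 1 → lam ^ j = 1 := by
      intro j hj
      apply hH j
      unfold rho at hj
      rw [mul_pow, inv_pow] at hj
      have hne : σ lam ^ j ≠ 0 := pow_ne_zero _ hσl
      field_simp at hj
      exact hj.symm
    have hgen : ∀ y : F, y ≠ 0 → ∃ j : ℕ, y = rho lam σ ^ j := by
      set lu : Fˣ := Units.mk0 lam hl with hlu
      set ru : Fˣ := Units.mk0 (rho lam σ) hr0 with hru
      have hall : ∀ x : Fˣ, x ∈ Subgroup.zpowers lu := by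
        intro x
        obtain ⟨i, hi⟩ := hlam x x.ne_zero
        have : x = lu ^ i := Units.ext (by simp [hlu, hi])
        rw [this]
        exact Subgroup.npow_mem_zpowers lu i
      have hol : orderOf lu = Nat.card Fˣ := orderOf_eq_card_of_forall_mem_zpowers hall
      have hdvd : orderOf lu ∣ orderOf ru := by
        apply orderOf_dvd_of_pow_eq_one
        apply Units.ext
        have h1 : (ru ^ orderOf ru : Fˣ) = 1 := pow_orderOf_eq_one ru
        have h2 : rho lam σ ^ orderOf ru = 1 := by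
          have h3 := congrArg Units.val h1
          rwa [Units.val_pow_eq_pow_val, Units.val_one] at h3
        simpa [hlu] using hH' _ h2
      have hor : orderOf ru = Nat.card Fˣ :=
        Nat.dvd_antisymm (orderOf_dvd_natCard ru) (hol ▸ hdvd)
      have htop : Subgroup.zpowers ru = ⊤ := by
        apply Subgroup.eq_top_of_card_eq
        rw [Nat.card_zpowers, hor]
      intro y hy
      have hmem : Units.mk0 y hy ∈ Subgroup.zpowers ru := by rw [htop]; trivial
      rw [← mem_powers_iff_mem_zpowers] at hmem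
      obtain ⟨j, hj⟩ := hmem
      refine ⟨j, ?_⟩
      have := congrArg Units.val hj
      simpa [hru] using this.symm
    intro c'
    rcases eq_or_ne c' 0 with rfl | hc'
    · exact ⟨0, D.zero_mem, fun x => by simp⟩
    · obtain ⟨j, hj⟩ := hgen (c' / c) (div_ne_zero hc' hc)
      obtain ⟨θ', hθ', h'⟩ := hpow j
      refine ⟨θ', hθ', fun x => ?_⟩
      rw [h', ← hj]
      field_simp

end

/-- **Keystone K-S1138-A.** -/
theorem pure_span {F : Type*} [Field F] [Fintype F] [CharP F 2] (lam : F)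
    (hlam : ∀ x : F, x ≠ 0 → ∃ i : ℕ, x = lam ^ i)
    (D : AddSubgroup (F →+ F))
    (hconj : ∀ θ ∈ D, ∃ θ' ∈ D, ∀ x, θ' (lam * x) = lam * θ x)
    (hfree : ∀ θ ∈ D, θ ≠ 0 → ∀ j : ℕ, (∀ x, θ (lam ^ j * x) = lam ^ j * θ x) → lam ^ j = 1) :
    D ≤ AddSubgroup.closure {θ : F →+ F | θ ∈ D ∧ ∃ (c : F) (σ : F ≃+* F), c ≠ 0 ∧
      (∀ x, θ x = c * σ x) ∧ (∀ u : F, σ u = u → u = 0 ∨ u = 1) ∧
      ∀ c' : F, ∃ θ' ∈ D, ∀ x, θ' x = c' * σ x} := by
  classical
  haveI : Finite (F ≃+* F) :=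
    Finite.of_injective (fun σ : F ≃+* F => (σ : F → F)) DFunLike.coe_injective
  letI : Fintype (F ≃+* F) := Fintype.ofFinite _
  letI : Algebra (ZMod 2) F := ZMod.algebra F 2
  intro θ hθ
  rcases eq_or_ne lam 0 with rfl | hl
  · have h0 : θ = 0 := by
      by_contra h0
      have := hfree θ hθ h0 1 (fun x => by simp)
      simp at this
    rw [h0]
    exact AddSubgroup.zero_mem _
  obtain ⟨c, hc⟩ := exists_coeff θ
  have hcomp : ∀ σ : F ≃+* F, ∃ θσ ∈ AddSubgroup.closure {θ : F →+ F | θ ∈ D ∧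
      ∃ (c : F) (σ : F ≃+* F), c ≠ 0 ∧
      (∀ x, θ x = c * σ x) ∧ (∀ u : F, σ u = u → u = 0 ∨ u = 1) ∧
      ∀ c' : F, ∃ θ' ∈ D, ∀ x, θ' x = c' * σ x}, ∀ x, θσ x = c σ * σ x := by
    intro σ
    rcases eq_or_ne (c σ) 0 with h0 | h0
    · exact ⟨0, zero_mem _, fun x => by simp [h0]⟩
    · have hgood := good_aeval lam hl D hconj
        (∏ σ' ∈ Finset.univ.erase σ, minpoly (ZMod 2) (rho lam σ'))
      obtain ⟨θ₁, hθ₁, h₁⟩ := hgood θ hθ c hc
      beta_reduce at h₁
      have hv : aeval (rho lam σ)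
          (∏ σ' ∈ Finset.univ.erase σ, minpoly (ZMod 2) (rho lam σ')) ≠ 0 := by
        rw [map_prod]
        refine Finset.prod_ne_zero_iff.mpr fun σ' hσ' => ?_
        exact aeval_minpoly_ne_zero lam hl hlam σ σ' (Finset.ne_of_mem_erase hσ').symm
      have hz : ∀ σ', σ' ≠ σ → aeval (rho lam σ')
          (∏ σ'' ∈ Finset.univ.erase σ, minpoly (ZMod 2) (rho lam σ'')) = 0 := by
        intro σ' hσ'
        rw [map_prod]
        exact Finset.prod_eq_zero (Finset.mem_erase.mpr ⟨hσ', Finset.mem_univ _⟩)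
          (minpoly.aeval _ _)
      have h₁' : ∀ x, θ₁ x = (c σ * aeval (rho lam σ)
          (∏ σ' ∈ Finset.univ.erase σ, minpoly (ZMod 2) (rho lam σ'))) * σ x := by
        intro x
        rw [h₁ x, Finset.sum_eq_single σ]
        · intro σ' _ hσ'
          rw [hz σ' hσ']
          ring
        · intro h
          exact absurd (Finset.mem_univ _) h
      obtain ⟨hfix, hline⟩ := pure_of_single lam hl hlam D hconj hfree θ₁ hθ₁ _
        (mul_ne_zero h0 hv) σ h₁'
      obtain ⟨θ₂, hθ₂, h₂⟩ := hline (c σ)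
      exact ⟨θ₂, AddSubgroup.subset_closure ⟨hθ₂, c σ, σ, h0, h₂, hfix, hline⟩, h₂⟩
  choose g hg hg' using hcomp
  have hsum : θ = ∑ σ, g σ := by
    ext x
    rw [hc x, AddMonoidHom.finsetSum_apply]
    exact Finset.sum_congr rfl fun σ _ => (hg' σ x).symm
  rw [hsum]
  exact AddSubgroup.sum_mem _ fun σ _ => hg σ

end Cfsg.Agent.Lib.Helper42.Hig
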