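import Mathlib
import Cfsg.Prelude.Def_Blocks
import Cfsg.Agent.Lib.Helper70.IPDefs
import Cfsg.Agent.Lib.Helper83.Decompose
import Cfsg.Agent.Lib.Helper83.Linear
import Cfsg.Agent.Lib.Helper22.BlockRegular

/-!
# K-IP (S4463) CASE A leaf 446321 IPA-EXT `ext_of_degree_eq` (exact signature)
-/

set_option autoImplicit false

namespace Cfsg.Agent.Lib.Helper42.IPA

open Cfsg Cfsg.Agent.Lib.Helper70.IP

universe u

/-- 446321 IPA-EXT: a character of a subgroup whose degree reaches the bound extends. -/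
theorem ext_of_degree_eq {G : Type u} [Group G] [Finite G] (b : ℕ) (hb : DegLE G b) (H : Subgroup G)
    {σ : H → ℂ} (hσ : IsIrrCharacter H σ) (hdeg : b ≤ charDegree σ) :
    ∃ χ : G → ℂ, IsIrrCharacter G χ ∧ charDegree χ = b ∧ ∀ h : H, χ h = σ h := by
  classical
  haveI : Fintype G := Fintype.ofFinite G
  haveI : Fintype H := Fintype.ofFinite H
  haveI : Fintype (IrrCharacter H) := Fintype.ofFinite _
  set ψ : IrrCharacter H := ⟨σ, hσ⟩ with hψdef
  have hψσ : (ψ : H → ℂ) = σ := rfl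
  obtain ⟨χ, hχ⟩ := Cfsg.Agent.Lib.Helper22.exists_irr_over H ψ
  set φ : H → ℂ := fun h : H => (χ : G → ℂ) (h : G) with hφdef
  have hφ : IsCharacter H φ :=
    Cfsg.Agent.Lib.Helper83.isCharacter_restrict H (Cfsg.Agent.Lib.Helper83.IrrCharacter_isCharacter χ)
  have hdec := Cfsg.Agent.Lib.Helper83.char_eq_sum_irrMult hφ
  have hmψ : Cfsg.Agent.Lib.Helper83.irrMult φ ψ ≠ 0 := by
    intro h0
    apply hχ
    rw [← Cfsg.Agent.Lib.Helper83.irrMult_cast hφ ψ, h0, Nat.cast_zero]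
  have hdegχ : charDegree (χ : G → ℂ)
      = ∑ ξ : IrrCharacter H, Cfsg.Agent.Lib.Helper83.irrMult φ ξ * charDegree (ξ : H → ℂ) := by
    have h1 : (charDegree (χ : G → ℂ) : ℂ) = φ 1 := by
      rw [Cfsg.Agent.Lib.Helper83.charDegree_cast (Cfsg.Agent.Lib.Helper83.IrrCharacter_isCharacter χ)]
      simp [hφdef]
    have h2 : φ 1 = ∑ ξ : IrrCharacter H,
        (Cfsg.Agent.Lib.Helper83.irrMult φ ξ : ℂ) * (charDegree (ξ : H → ℂ) : ℂ) := by
      conv_lhs => rw [hdec]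
      rw [Finset.sum_apply]
      refine Finset.sum_congr rfl (fun ξ _ => ?_)
      rw [Pi.smul_apply, smul_eq_mul,
        Cfsg.Agent.Lib.Helper83.charDegree_cast (Cfsg.Agent.Lib.Helper83.IrrCharacter_isCharacter ξ)]
    have h3 : (charDegree (χ : G → ℂ) : ℂ)
        = ((∑ ξ : IrrCharacter H,
            Cfsg.Agent.Lib.Helper83.irrMult φ ξ * charDegree (ξ : H → ℂ) : ℕ) : ℂ) := by
      rw [h1, h2]; push_cast; rfl
    exact_mod_cast h3
  have hle : charDegree (χ : G → ℂ) ≤ b := hb χ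
  have hpos : ∀ ξ : IrrCharacter H, 0 < charDegree (ξ : H → ℂ) :=
    fun ξ => Cfsg.Agent.Lib.Helper83.irr_charDegree_pos ξ
  have hsplit : ∑ ξ : IrrCharacter H, Cfsg.Agent.Lib.Helper83.irrMult φ ξ * charDegree (ξ : H → ℂ)
      = Cfsg.Agent.Lib.Helper83.irrMult φ ψ * charDegree σ
        + ∑ ξ ∈ Finset.univ.erase ψ,
            Cfsg.Agent.Lib.Helper83.irrMult φ ξ * charDegree (ξ : H → ℂ) := by
    rw [← Finset.add_sum_erase Finset.univ _ (Finset.mem_univ ψ)]
  have hσpos : 0 < charDegree σ := hpos ψ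
  have h1m : 1 ≤ Cfsg.Agent.Lib.Helper83.irrMult φ ψ := Nat.one_le_iff_ne_zero.mpr hmψ
  have hge : charDegree σ ≤ Cfsg.Agent.Lib.Helper83.irrMult φ ψ * charDegree σ :=
    Nat.le_mul_of_pos_left _ h1m
  have htot : Cfsg.Agent.Lib.Helper83.irrMult φ ψ * charDegree σ
      + ∑ ξ ∈ Finset.univ.erase ψ,
          Cfsg.Agent.Lib.Helper83.irrMult φ ξ * charDegree (ξ : H → ℂ) ≤ b := by
    rw [← hsplit, ← hdegχ]; exact hle
  have hσb : charDegree σ = b := by omega
  have hrest : ∑ ξ ∈ Finset.univ.erase ψ,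
      Cfsg.Agent.Lib.Helper83.irrMult φ ξ * charDegree (ξ : H → ℂ) = 0 := by omega
  have hmb : Cfsg.Agent.Lib.Helper83.irrMult φ ψ * charDegree σ = charDegree σ := by omega
  have hm1 : Cfsg.Agent.Lib.Helper83.irrMult φ ψ = 1 := by
    have : Cfsg.Agent.Lib.Helper83.irrMult φ ψ * charDegree σ = 1 * charDegree σ := by
      rw [hmb, one_mul]
    exact Nat.eq_of_mul_eq_mul_right hσpos this
  have hzero : ∀ ξ : IrrCharacter H, ξ ≠ ψ → Cfsg.Agent.Lib.Helper83.irrMult φ ξ = 0 := by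
    intro ξ hξ
    have := (Finset.sum_eq_zero_iff.mp hrest) ξ (Finset.mem_erase.mpr ⟨hξ, Finset.mem_univ ξ⟩)
    rcases Nat.mul_eq_zero.mp this with h | h
    · exact h
    · exact absurd h (hpos ξ).ne'
  have hφψ : φ = σ := by
    rw [hdec]
    rw [← Finset.add_sum_erase Finset.univ _ (Finset.mem_univ ψ)]
    rw [Finset.sum_eq_zero (fun ξ hξ => by
      rw [hzero ξ (Finset.ne_of_mem_erase hξ), Nat.cast_zero, zero_smul])]
    rw [hm1, Nat.cast_one, one_smul, add_zero]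
  refine ⟨(χ : G → ℂ), χ.2, ?_, fun h => ?_⟩
  · rw [hdegχ, hsplit, hm1, hrest, hσb]; ring
  · have := congrFun hφψ h
    simpa [hφdef] using this

end Cfsg.Agent.Lib.Helper42.IPA
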