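import Mathlib
import Cfsg.Prelude.Def_Blocks
import Cfsg.Agent.Lib.Helper70.IPDefs
import Cfsg.Agent.Lib.Helper83.Decompose
import Cfsg.Agent.Lib.Helper83.Linear
import Cfsg.Agent.Lib.Helper22.BlockRegular

/-!
# K-IP (S4463) spare: a top-degree irreducible character of a subgroup extends to the group

`exists_extension_of_top_degree`: if all irreducible degrees of `G` are `≤ b` and `ψ ∈ Irr(H)` has
degree `b`, then some `χ ∈ Irr(G)` of degree `b` restricts to `ψ` on `H`.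
-/

set_option autoImplicit false

namespace Cfsg.Agent.Lib.Helper42.IP

open Cfsg Cfsg.Agent.Lib.Helper70.IP Cfsg.Agent.Lib.Helper83

universe u

theorem exists_extension_of_top_degree {G : Type u} [Group G] [Finite G] (b : ℕ) (hb : DegLE G b)
    (H : Subgroup G) (ψ : IrrCharacter H) (hψ : charDegree (ψ : H → ℂ) = b) :
    ∃ χ : IrrCharacter G, charDegree (χ : G → ℂ) = b ∧
      ∀ h : H, (χ : G → ℂ) (h : G) = (ψ : H → ℂ) h := by
  classical
  haveI : Fintype G := Fintype.ofFinite G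
  haveI : Fintype H := Fintype.ofFinite H
  haveI : Fintype (IrrCharacter H) := Fintype.ofFinite _
  obtain ⟨χ, hχ⟩ := Cfsg.Agent.Lib.Helper22.exists_irr_over H ψ
  set φ : H → ℂ := fun h : H => (χ : G → ℂ) (h : G) with hφdef
  have hφ : IsCharacter H φ := isCharacter_restrict H (IrrCharacter_isCharacter χ)
  have hdec := char_eq_sum_irrMult hφ
  -- multiplicity of ψ is nonzero
  have hmψ : irrMult φ ψ ≠ 0 := by
    intro h0
    apply hχ
    rw [← irrMult_cast hφ ψ, h0, Nat.cast_zero]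
  -- degrees
  have hdeg : charDegree (χ : G → ℂ) = ∑ ξ : IrrCharacter H, irrMult φ ξ * charDegree (ξ : H → ℂ) := by
    have h1 : (charDegree (χ : G → ℂ) : ℂ) = φ 1 := by
      rw [charDegree_cast (IrrCharacter_isCharacter χ)]; simp [hφdef]
    have h2 : φ 1 = ∑ ξ : IrrCharacter H, (irrMult φ ξ : ℂ) * (charDegree (ξ : H → ℂ) : ℂ) := by
      conv_lhs => rw [hdec]
      rw [Finset.sum_apply]
      refine Finset.sum_congr rfl (fun ξ _ => ?_)
      rw [Pi.smul_apply, smul_eq_mul, charDegree_cast (IrrCharacter_isCharacter ξ)]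
    have h3 : (charDegree (χ : G → ℂ) : ℂ)
        = ((∑ ξ : IrrCharacter H, irrMult φ ξ * charDegree (ξ : H → ℂ) : ℕ) : ℂ) := by
      rw [h1, h2]; push_cast; rfl
    exact_mod_cast h3
  have hle : charDegree (χ : G → ℂ) ≤ b := hb χ
  have hpos : ∀ ξ : IrrCharacter H, 0 < charDegree (ξ : H → ℂ) := fun ξ => irr_charDegree_pos ξ
  -- split off the ψ-term
  have hsplit : ∑ ξ : IrrCharacter H, irrMult φ ξ * charDegree (ξ : H → ℂ)
      = irrMult φ ψ * b + ∑ ξ ∈ Finset.univ.erase ψ, irrMult φ ξ * charDegree (ξ : H → ℂ) := by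
    rw [← Finset.add_sum_erase Finset.univ _ (Finset.mem_univ ψ), hψ]
  have hbpos : 0 < b := hψ ▸ hpos ψ
  have hm1 : irrMult φ ψ = 1 ∧ ∑ ξ ∈ Finset.univ.erase ψ, irrMult φ ξ * charDegree (ξ : H → ℂ) = 0 := by
    have h1 : 1 ≤ irrMult φ ψ := Nat.one_le_iff_ne_zero.mpr hmψ
    have hge : b ≤ irrMult φ ψ * b := Nat.le_mul_of_pos_left b h1
    have htot : irrMult φ ψ * b
        + ∑ ξ ∈ Finset.univ.erase ψ, irrMult φ ξ * charDegree (ξ : H → ℂ) ≤ b := by
      rw [← hsplit, ← hdeg]; exact hle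
    have hrest : ∑ ξ ∈ Finset.univ.erase ψ, irrMult φ ξ * charDegree (ξ : H → ℂ) = 0 := by omega
    have hmb : irrMult φ ψ * b = b := by omega
    refine ⟨?_, hrest⟩
    have : irrMult φ ψ * b = 1 * b := by rw [hmb, one_mul]
    exact Nat.eq_of_mul_eq_mul_right hbpos this
  have hzero : ∀ ξ : IrrCharacter H, ξ ≠ ψ → irrMult φ ξ = 0 := by
    intro ξ hξ
    have := (Finset.sum_eq_zero_iff.mp hm1.2) ξ (Finset.mem_erase.mpr ⟨hξ, Finset.mem_univ ξ⟩)
    rcases Nat.mul_eq_zero.mp this with h | h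
    · exact h
    · exact absurd h (hpos ξ).ne'
  have hφψ : φ = (ψ : H → ℂ) := by
    rw [hdec]
    rw [← Finset.add_sum_erase Finset.univ _ (Finset.mem_univ ψ)]
    rw [Finset.sum_eq_zero (fun ξ hξ => by
      rw [hzero ξ (Finset.ne_of_mem_erase hξ), Nat.cast_zero, zero_smul])]
    rw [hm1.1, Nat.cast_one, one_smul, add_zero]
  refine ⟨χ, ?_, fun h => ?_⟩
  · rw [hdeg, hsplit, hm1.1, hm1.2]; ring
  · have := congrFun hφψ h
    simpa [hφdef] using this

end Cfsg.Agent.Lib.Helper42.IP
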