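import Cfsg.Agent.Lib.Helper72.OQFDefs2
import Cfsg.Agent.Lib.Helper77.OQFA1
import Cfsg.Agent.Lib.Helper08.GOMinus

/-!
# K-OQF-A1m (keystone 597723, S5978, architect helper72)

The order of the isometry group of the diagonal form `⟨1, …, 1, c⟩` in `d` variables over the quadratic
extension `LL δ` (`q²` elements, `q` odd), where `c ≠ 0` is a non-square when `d` is even: it is
`oDotM q d` (minus type for `d` even, odd type for `d` odd).  Twin of helper77's `OQFA1.card_dot`.
-/

set_option autoImplicit false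
set_option linter.style.haveILetI false
set_option linter.unusedVariables false
set_option linter.unusedSimpArgs false

namespace Cfsg.Agent.Lib.Helper42.OQF

open Cfsg Cfsg.Geo Matrix Cfsg.Agent.Lib.Helper72.OQF Cfsg.Agent.Lib.Helper50
open Cfsg.Agent.Lib.Helper14.SpU (LL)
open scoped Matrix MatrixGroups

section field
variable {L : Type*} [Field L]

theorem a1m_nfW_ne_zero (d : ℕ) (c : L) (hc : c ≠ 0) (k : Fin d) : nfW d c k ≠ 0 := by
  unfold nfW
  split_ifs
  · exact one_ne_zero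
  · exact hc

theorem a1m_prod_nfW_succ (n : ℕ) (c : L) : ∏ k : Fin (n + 1), nfW (n + 1) c k = c := by
  rw [Fin.prod_univ_castSucc]
  have h1 : ∀ i : Fin n, nfW (n + 1) c (Fin.castSucc i) = 1 := by
    intro i
    unfold nfW
    rw [if_pos]
    show (i : ℕ) + 1 < n + 1
    have := i.isLt
    omega
  have h2 : nfW (n + 1) c (Fin.last n) = c := by
    unfold nfW
    rw [if_neg]
    show ¬ (n + 1 < n + 1)
    omega
  simp only [h1, Finset.prod_const_one, one_mul, h2]

theorem a1m_prod_nfW (n : ℕ) (hn : 1 ≤ n) (c : L) : ∏ k : Fin n, nfW n c k = c := by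
  obtain ⟨n', rfl⟩ : ∃ n', n = n' + 1 := ⟨n - 1, by omega⟩
  exact a1m_prod_nfW_succ n' c

/-- the polar form of a weighted sum of squares -/
theorem a1m_polar_wss (n : ℕ) (w : Fin n → L) (u v : Fin n → L) :
    QuadraticMap.polar (⇑(QuadraticMap.weightedSumSquares L w)) u v =
      ∑ i, 2 * w i * (u i * v i) := by
  unfold QuadraticMap.polar
  simp only [QuadraticMap.weightedSumSquares_apply, Pi.add_apply, smul_eq_mul]
  rw [← Finset.sum_sub_distrib, ← Finset.sum_sub_distrib]
  apply Finset.sum_congr rfl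
  intro i _
  ring

theorem a1m_wss_QND (h2 : (2 : L) ≠ 0) (n : ℕ) (w : Fin n → L) (hw : ∀ i, w i ≠ 0) :
    QND (QuadraticMap.weightedSumSquares L w) := by
  intro v hv
  funext i
  have h := hv (Pi.single i 1)
  rw [a1m_polar_wss, Finset.sum_eq_single i] at h
  · rw [Pi.single_eq_same, mul_one] at h
    rcases mul_eq_zero.mp h with h' | h'
    · exact absurd h' (mul_ne_zero h2 (hw i))
    · exact h'
  · intro j _ hji
    rw [Pi.single_eq_of_ne hji, mul_zero, mul_zero]
  · intro hi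
    exact absurd (Finset.mem_univ i) hi

/-- the Gram matrix of a weighted sum of squares in the standard basis -/
theorem a1m_wss_gram (n : ℕ) (w : Fin n → L) :
    (Matrix.of fun i j : Fin n =>
      QuadraticMap.polar (⇑(QuadraticMap.weightedSumSquares L w))
        ((Pi.basisFun L (Fin n)) i) ((Pi.basisFun L (Fin n)) j)) =
      Matrix.diagonal (fun i => 2 * w i) := by
  ext i j
  rw [Matrix.of_apply, a1m_polar_wss, Pi.basisFun_apply, Pi.basisFun_apply]
  by_cases hij : i = j
  · subst hij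
    rw [Matrix.diagonal_apply_eq, Finset.sum_eq_single i]
    · rw [Pi.single_eq_same, mul_one, mul_one]
    · intro k _ hki
      rw [Pi.single_eq_of_ne hki, zero_mul, mul_zero]
    · intro hi
      exact absurd (Finset.mem_univ i) hi
  · rw [Matrix.diagonal_apply_ne _ hij]
    apply Finset.sum_eq_zero
    intro k _
    by_cases hki : k = i
    · subst hki
      rw [Pi.single_eq_of_ne hij, mul_zero, mul_zero]
    · rw [Pi.single_eq_of_ne hki, zero_mul, mul_zero]

variable [Fintype L]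

/-- even number of variables, last weight a non-square: minus type -/
theorem a1m_card_wss_even {q : ℕ} (hq : Fintype.card L = q ^ 2) (hodd : Odd q) (m : ℕ) (hm : 1 ≤ m)
    (c : L) (hc : c ≠ 0) (hcs : ¬ IsSquare c) :
    Nat.card (Cfsg.isometryGroup L (⇑(QuadraticMap.weightedSumSquares L (nfW (2 * m) c)))) =
      gOminus (q ^ 2) m := by
  have hoddL : Odd (Fintype.card L) := by rw [hq]; exact hodd.pow
  have h2 : (2 : L) ≠ 0 := Cfsg.Agent.Lib.Helper77.OQF.two_ne_zero_of_odd_card hoddL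
  have hn : Module.finrank L (Fin (2 * m) → L) = 2 * m := Module.finrank_fin_fun L
  have hQND := a1m_wss_QND h2 (2 * m) (nfW (2 * m) c) (a1m_nfW_ne_zero _ c hc)
  have hnsq : ¬ IsSquare (Matrix.of fun i j : Fin (2 * m) =>
      QuadraticMap.polar (⇑(QuadraticMap.weightedSumSquares L (nfW (2 * m) c)))
        ((Pi.basisFun L (Fin (2 * m))) i) ((Pi.basisFun L (Fin (2 * m))) j)).det := by
    rw [a1m_wss_gram, Matrix.det_diagonal, Finset.prod_mul_distrib, Finset.prod_const,
      Finset.card_univ, Fintype.card_fin, a1m_prod_nfW (2 * m) (by omega) c]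
    rintro ⟨t, ht⟩
    apply hcs
    have h2m : (2 : L) ^ m ≠ 0 := pow_ne_zero _ h2
    refine ⟨t / 2 ^ m, ?_⟩
    rw [div_mul_div_comm, ← ht, ← pow_add, ← two_mul, mul_comm, mul_div_assoc,
      div_self (pow_ne_zero _ h2), mul_one]
  rcases witt_type (2 * m) (QuadraticMap.weightedSumSquares L (nfW (2 * m) c)) hn hQND with
    ⟨m', hm', hp⟩ | ⟨k, ζ, hk, hζ, hp⟩ | ⟨k, c', hk, -, -⟩
  · exfalso
    obtain rfl : m' = m := by omega
    apply hnsq
    rw [gram_isSquare_plus (QuadraticMap.weightedSumSquares L (nfW (2 * m') c)) m' hp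
      (Pi.basisFun L (Fin (2 * m')))]
    exact (Cfsg.Agent.Lib.Helper77.OQF.isSquare_neg_one_of_card_sq hq hodd).pow m'
  · obtain rfl : m = k + 1 := by omega
    obtain ⟨φ, hφ⟩ := hp
    have hab : ∀ z₁ z₂ : L, z₁ ^ 2 + 1 * z₁ * z₂ + ζ * z₂ ^ 2 = 0 → z₁ = 0 ∧ z₂ = 0 := by
      intro z₁ z₂ h
      by_cases hz : z₂ = 0
      · subst hz
        have h' : z₁ ^ 2 = 0 := by linear_combination h
        exact ⟨pow_eq_zero_iff (two_ne_zero) |>.mp h', rfl⟩
      · exfalso
        apply hζ (z₁ / z₂)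
        have hz2 : z₂ ^ 2 ≠ 0 := pow_ne_zero 2 hz
        have e : (z₁ / z₂) ^ 2 + z₁ / z₂ + ζ = (z₁ ^ 2 + 1 * z₁ * z₂ + ζ * z₂ ^ 2) / z₂ ^ 2 := by
          field_simp
        rw [e, h, zero_div]
    rw [Cfsg.Agent.Lib.Helper77.OQF.card_isometryGroup_congr φ _ (Cfsg.quadFormMinus k L 1 ζ) hφ,
      Cfsg.Agent.Lib.Helper08.card_GOminus' hq k 1 ζ hab]
    unfold gOminus
    simp only [Nat.add_sub_cancel]
  · omega

/-- odd number of variables -/
theorem a1m_card_wss_odd {q : ℕ} (hq : Fintype.card L = q ^ 2) (hodd : Odd q) (m : ℕ)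
    (c : L) (hc : c ≠ 0) :
    Nat.card (Cfsg.isometryGroup L (⇑(QuadraticMap.weightedSumSquares L (nfW (2 * m + 1) c)))) =
      gOodd (q ^ 2) m := by
  have hoddL : Odd (q ^ 2) := hodd.pow
  have hoddL' : Odd (Fintype.card L) := by rw [hq]; exact hoddL
  have h2 : (2 : L) ≠ 0 := Cfsg.Agent.Lib.Helper77.OQF.two_ne_zero_of_odd_card hoddL'
  have hn : Module.finrank L (Fin (2 * m + 1) → L) = 2 * m + 1 := Module.finrank_fin_fun L
  have hQND := a1m_wss_QND h2 (2 * m + 1) (nfW (2 * m + 1) c) (a1m_nfW_ne_zero _ c hc)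
  rcases witt_type (2 * m + 1) (QuadraticMap.weightedSumSquares L (nfW (2 * m + 1) c)) hn hQND with
    ⟨m', hm', -⟩ | ⟨k, ζ, hk, -, -⟩ | ⟨k, c', hk, hc', hp⟩
  · omega
  · omega
  · obtain rfl : k = m := by omega
    obtain ⟨φ, hφ⟩ := hp
    have hc'' : c'⁻¹ ≠ 0 := inv_ne_zero hc'
    have key : ∀ v, Cfsg.quadFormOdd k L
        ((φ.trans (Cfsg.Agent.Lib.Helper77.OQF.oddScale k c' hc')) v) =
        (fun v => c'⁻¹ * (QuadraticMap.weightedSumSquares L (nfW (2 * k + 1) c)) v) v := by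
      intro v
      rw [LinearEquiv.trans_apply, Cfsg.Agent.Lib.Helper77.OQF.quadFormOdd_oddScale, hφ]
    rw [← Cfsg.Agent.Lib.Helper77.OQF.isometryGroup_smul
        (⇑(QuadraticMap.weightedSumSquares L (nfW (2 * k + 1) c))) c'⁻¹ hc'',
      Cfsg.Agent.Lib.Helper77.OQF.card_isometryGroup_congr
        (φ.trans (Cfsg.Agent.Lib.Helper77.OQF.oddScale k c' hc')) _ (Cfsg.quadFormOdd k L) key,
      Cfsg.Agent.Lib.Helper08.card_GOodd hq hoddL k]
    rfl

end field

section main
variable {F : Type*} [Field F]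

/-- **K-OQF-A1m (597723).** -/
theorem card_wss [Fintype F] {q : ℕ} (hq : Fintype.card F = q) (hodd : Odd q) (d : ℕ) (hd : 2 ≤ d) (δ : F)
    [Fact (∀ r : F, r ^ 2 ≠ δ + 0 * r)] (c : LL δ) (hc : c ≠ 0) (hcs : Even d → ¬ IsSquare c) :
    Nat.card (Cfsg.isometryGroup (LL δ) (⇑(QuadraticMap.weightedSumSquares (LL δ) (nfW d c)))) = oDotM q d := by
  letI : Fintype (QuadraticAlgebra F δ 0) :=
    Fintype.ofEquiv (F × F) (QuadraticAlgebra.equivProd δ 0).symm
  have hL : Fintype.card (QuadraticAlgebra F δ 0) = q ^ 2 := by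
    rw [Fintype.card_congr (QuadraticAlgebra.equivProd δ 0), Fintype.card_prod, sq, hq]
  unfold oDotM
  rcases Nat.even_or_odd' d with ⟨m, rfl | rfl⟩
  · rw [if_pos (even_two_mul m),
      a1m_card_wss_even hL hodd m (by omega) c hc (hcs (even_two_mul m))]
    congr 1
    omega
  · rw [if_neg (by rw [Nat.not_even_iff_odd]; exact odd_two_mul_add_one m),
      a1m_card_wss_odd hL hodd m c hc]
    congr 1
    omega

end main

end Cfsg.Agent.Lib.Helper42.OQF
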