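import Mathlib
import Cfsg.Prelude.Def_Solvable
import Cfsg.Agent.S0035

/-!
# K-OTF leaf 399902 F1 `frob_order_dvd` (S3999 pack, exact signature)
-/

set_option autoImplicit false
open Cfsg

namespace Cfsg.Agent.Lib.Helper42.OTF

open scoped Pointwise

/-- LEAF F1. In a Frobenius group every element has order dividing the order of the kernel
(`H.index`) or the order of the complement. -/
theorem frob_order_dvd {L : Type*} [Group L] [Finite L] (H : Subgroup L)
    (hH : Cfsg.IsFrobeniusComplement H) (x : L) :
    orderOf x ∣ H.index ∨ orderOf x ∣ Nat.card H := by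
  obtain ⟨N, hNK, _, hcomp⟩ := Cfsg.Agent.S0035.result H hH
  by_cases hx : x ∈ N
  · left
    have h1 : orderOf x ∣ Nat.card N := Subgroup.orderOf_dvd_natCard N hx
    have h2 : H.index = Nat.card N := hcomp.index_eq_card
    rw [h2]; exact h1
  · right
    have hxK : x ∉ Cfsg.frobeniusKernel H := by
      rw [← hNK]; exact hx
    have hex : ∃ g : L, x ∈ MulAut.conj g • H := by
      by_contra hcon
      push_neg at hcon
      exact hxK (Or.inr hcon)
    obtain ⟨g, hg⟩ := hex
    rw [Subgroup.mem_pointwise_smul_iff_inv_smul_mem] at hg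
    have hord : orderOf ((MulAut.conj g)⁻¹ • x) = orderOf x := by
      rw [MulAut.smul_def]
      exact MulEquiv.orderOf_eq _ x
    rw [← hord]
    exact Subgroup.orderOf_dvd_natCard H hg

end Cfsg.Agent.Lib.Helper42.OTF
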