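import Mathlib

/-!
# K-PD core: the integer-combinatorics heart of S4466

`Cfsg.Agent.Lib.Helper42.PD.core`: there is no finite family of integer rows `u χ : Λ → ℤ`
(`χ ∈ s`) with positive weights `deg χ ≥ 2` on the non-zero rows such that
* (D) `∑ χ, u χ l * deg χ = -1` for every `l`,
* (G) `∑ χ, (u χ l - u χ m)^2 ≤ 2` for all `l m`,
* (NC) every constant row is zero.
-/

set_option autoImplicit false

namespace Cfsg.Agent.Lib.Helper42.PD

open Finset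

/-- An integer vector of square-norm `≤ 2`, orthogonal to a weight that is positive on its
support, is `±(e_x - e_y)` with `d x = d y`. -/
theorem two_support {X : Type*} [DecidableEq X] (s : Finset X) (a d : X → ℤ)
    (hd : ∀ x ∈ s, a x ≠ 0 → 0 < d x)
    (hn : ∑ x ∈ s, a x ^ 2 ≤ 2) (ho : ∑ x ∈ s, a x * d x = 0)
    {x : X} (hx : x ∈ s) (hax : a x ≠ 0) :
    (∑ y ∈ s, a y ^ 2 = 2) ∧ ∀ y ∈ s, a y ≠ 0 → d y = d x := by
  classical
  -- pairwise fact
  have key : ∀ y ∈ s, y ≠ x → a y ≠ 0 →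
      (∑ z ∈ s, a z ^ 2 = 2) ∧ d y = d x := by
    intro y hy hyx hay
    have hy' : y ∈ s.erase x := Finset.mem_erase.mpr ⟨hyx, hy⟩
    have e1 : a x ^ 2 + (a y ^ 2 + ∑ z ∈ (s.erase x).erase y, a z ^ 2) = ∑ z ∈ s, a z ^ 2 := by
      rw [Finset.add_sum_erase (s.erase x) (fun z => a z ^ 2) hy',
        Finset.add_sum_erase s (fun z => a z ^ 2) hx]
    have e2 : a x * d x + (a y * d y + ∑ z ∈ (s.erase x).erase y, a z * d z)
        = ∑ z ∈ s, a z * d z := by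
      rw [Finset.add_sum_erase (s.erase x) (fun z => a z * d z) hy',
        Finset.add_sum_erase s (fun z => a z * d z) hx]
    have hrest : 0 ≤ ∑ z ∈ (s.erase x).erase y, a z ^ 2 :=
      Finset.sum_nonneg (fun z _ => sq_nonneg _)
    have hx1 : 0 < a x ^ 2 := by positivity
    have hy1 : 0 < a y ^ 2 := by positivity
    have hx2 : a x ^ 2 = 1 := by omega
    have hy2 : a y ^ 2 = 1 := by omega
    have hr0 : ∑ z ∈ (s.erase x).erase y, a z ^ 2 = 0 := by omega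
    have hz0 : ∀ z ∈ (s.erase x).erase y, a z = 0 := by
      intro z hz
      have := (Finset.sum_eq_zero_iff_of_nonneg (fun z _ => sq_nonneg (a z))).mp hr0 z hz
      exact pow_eq_zero_iff (two_ne_zero) |>.mp this
    have hr0' : ∑ z ∈ (s.erase x).erase y, a z * d z = 0 :=
      Finset.sum_eq_zero (fun z hz => by rw [hz0 z hz, zero_mul])
    have hdx := hd x hx hax
    have hdy := hd y hy hay
    refine ⟨by omega, ?_⟩
    have hsum : a x * d x + a y * d y = 0 := by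
      have := e2; rw [hr0', add_zero, ho] at this; exact this
    rcases sq_eq_one_iff.mp hx2 with hxc | hxc <;>
      rcases sq_eq_one_iff.mp hy2 with hyc | hyc <;>
      rw [hxc, hyc] at hsum <;> omega
  -- existence of a second support point
  have ex : ∃ y ∈ s, y ≠ x ∧ a y ≠ 0 := by
    by_contra hcon
    push_neg at hcon
    have e2 : a x * d x + ∑ z ∈ s.erase x, a z * d z = ∑ z ∈ s, a z * d z :=
      Finset.add_sum_erase s (fun z => a z * d z) hx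
    have hr : ∑ z ∈ s.erase x, a z * d z = 0 :=
      Finset.sum_eq_zero (fun z hz => by
        rw [hcon z (Finset.mem_of_mem_erase hz) (Finset.ne_of_mem_erase hz), zero_mul])
    rw [hr, add_zero, ho] at e2
    have hdx := hd x hx hax
    rcases mul_eq_zero.mp e2 with h | h
    · exact hax h
    · omega
  obtain ⟨y0, hy0, hy0x, hay0⟩ := ex
  refine ⟨(key y0 hy0 hy0x hay0).1, ?_⟩
  intro y hy hay
  by_cases hyx : y = x
  · rw [hyx]
  · exact (key y hy hyx hay).2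

/-- **K-PD core.** -/
theorem core {X L : Type*} (s : Finset X) (u : X → L → ℤ) (deg : X → ℕ) (l0 : L)
    (hdeg : ∀ χ ∈ s, (∃ l, u χ l ≠ 0) → 2 ≤ deg χ)
    (hD : ∀ l, ∑ χ ∈ s, u χ l * (deg χ : ℤ) = -1)
    (hG : ∀ l m, ∑ χ ∈ s, (u χ l - u χ m) ^ 2 ≤ 2)
    (hNC : ∀ χ ∈ s, (∀ l m, u χ l = u χ m) → ∀ l, u χ l = 0) : False := by
  classical
  -- difference rows
  set w : L → X → ℤ := fun m χ => u χ l0 - u χ m with hw
  have wdeg : ∀ m, ∀ χ ∈ s, w m χ ≠ 0 → (0 : ℤ) < (deg χ : ℤ) := by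
    intro m χ hχ hne
    have : ∃ l, u χ l ≠ 0 := by
      by_contra hcon
      push_neg at hcon
      apply hne
      simp only [hw, hcon, sub_self]
    have := hdeg χ hχ this
    exact_mod_cast (by omega : 0 < deg χ)
  have wn : ∀ m, ∑ χ ∈ s, w m χ ^ 2 ≤ 2 := fun m => hG l0 m
  have wo : ∀ m, ∑ χ ∈ s, w m χ * (deg χ : ℤ) = 0 := by
    intro m
    have : ∑ χ ∈ s, w m χ * (deg χ : ℤ)
        = ∑ χ ∈ s, u χ l0 * (deg χ : ℤ) - ∑ χ ∈ s, u χ m * (deg χ : ℤ) := by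
      rw [← Finset.sum_sub_distrib]
      exact Finset.sum_congr rfl (fun χ _ => by simp only [hw]; ring)
    rw [this, hD, hD]; ring
  -- all nonzero rows have the same degree
  have same : ∀ χ₁ ∈ s, ∀ χ₂ ∈ s, ∀ m₁ m₂, w m₁ χ₁ ≠ 0 → w m₂ χ₂ ≠ 0 →
      (deg χ₁ : ℤ) = (deg χ₂ : ℤ) := by
    intro χ₁ h₁ χ₂ h₂ m₁ m₂ hne₁ hne₂
    by_contra hdne
    obtain ⟨n₁, s₁⟩ := two_support s (w m₁) (fun χ => (deg χ : ℤ)) (wdeg m₁) (wn m₁) (wo m₁) h₁ hne₁
    obtain ⟨n₂, s₂⟩ := two_support s (w m₂) (fun χ => (deg χ : ℤ)) (wdeg m₂) (wn m₂) (wo m₂) h₂ hne₂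
    have hprod : ∀ χ ∈ s, w m₁ χ * w m₂ χ = 0 := by
      intro χ hχ
      by_contra hne
      have ha : w m₁ χ ≠ 0 := left_ne_zero_of_mul hne
      have hb : w m₂ χ ≠ 0 := right_ne_zero_of_mul hne
      exact hdne ((s₁ χ hχ ha).symm.trans (s₂ χ hχ hb))
    have hdiff : ∑ χ ∈ s, (u χ m₂ - u χ m₁) ^ 2 = 4 := by
      have : ∀ χ ∈ s, (u χ m₂ - u χ m₁) ^ 2
          = w m₁ χ ^ 2 + w m₂ χ ^ 2 - 2 * (w m₁ χ * w m₂ χ) := by
        intro χ _; simp only [hw]; ring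
      rw [Finset.sum_congr rfl this, Finset.sum_sub_distrib, Finset.sum_add_distrib, n₁, n₂,
        ← Finset.mul_sum, Finset.sum_eq_zero hprod]
      norm_num
    have := hG m₂ m₁
    omega
  -- some row is nonzero at l0 (else the degree sum would vanish)
  have hne0 : ∃ χ ∈ s, u χ l0 ≠ 0 := by
    by_contra hcon
    push_neg at hcon
    have := hD l0
    rw [Finset.sum_eq_zero (fun χ hχ => by rw [hcon χ hχ, zero_mul])] at this
    omega
  obtain ⟨χ₀, hχ₀, hχ₀ne⟩ := hne0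
  -- every nonzero row has some m with w m χ ≠ 0
  have exm : ∀ χ ∈ s, (∃ l, u χ l ≠ 0) → ∃ m, w m χ ≠ 0 := by
    intro χ hχ hne
    by_contra hcon
    push_neg at hcon
    have hconst : ∀ l m, u χ l = u χ m := by
      intro l m
      have h1 := hcon l
      have h2 := hcon m
      simp only [hw] at h1 h2
      omega
    obtain ⟨l, hl⟩ := hne
    exact hl (hNC χ hχ hconst l)
  obtain ⟨m₀, hm₀⟩ := exm χ₀ hχ₀ ⟨l0, hχ₀ne⟩
  -- common degree q
  have hq : ∀ χ ∈ s, u χ l0 ≠ 0 → (deg χ : ℤ) = (deg χ₀ : ℤ) := by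
    intro χ hχ hne
    obtain ⟨m, hm⟩ := exm χ hχ ⟨l0, hne⟩
    exact same χ hχ χ₀ hχ₀ m m₀ hm hm₀
  have hsum : ∑ χ ∈ s, u χ l0 * (deg χ : ℤ) = (∑ χ ∈ s, u χ l0) * (deg χ₀ : ℤ) := by
    rw [Finset.sum_mul]
    refine Finset.sum_congr rfl (fun χ hχ => ?_)
    by_cases h : u χ l0 = 0
    · rw [h, zero_mul, zero_mul]
    · rw [hq χ hχ h]
  have h2 : 2 ≤ deg χ₀ := hdeg χ₀ hχ₀ ⟨l0, hχ₀ne⟩
  have hfin := hD l0
  rw [hsum] at hfin
  have hdvd : ((deg χ₀ : ℤ)) ∣ -1 := ⟨_, by rw [← hfin]; ring⟩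
  have hdvd1 : ((deg χ₀ : ℤ)) ∣ 1 := (dvd_neg).mp hdvd
  have := Int.le_of_dvd one_pos hdvd1
  omega

end Cfsg.Agent.Lib.Helper42.PD
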