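import Mathlib

/-!
K-RSU3 pack (S2283), leaf L15 `span_generic` (number theory): for `|F| = q^2`, `q ≥ 3`, `q ≠ 5, 8`, and `μ` of
order `q + 1`, a subset of `F` containing `1`, closed under addition and under multiplication by `μ ^ 3`, is
everything.
-/

set_option autoImplicit false

namespace Cfsg.Agent.Lib.Helper42.RSU3

variable {F : Type*} [Field F] [Fintype F] {q : ℕ}

/-- a subfield of `F` (`|F| = q^2`) containing `μ ^ 3`, `μ` of order `q + 1`, is everything
(`q ≥ 3`, `q ≠ 5, 8`) -/
theorem l15_subfield_eq_top (hq : 3 ≤ q) (hq5 : q ≠ 5) (hq8 : q ≠ 8) (hF : Fintype.card F = q ^ 2)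
    (μ : F) (hμ : orderOf μ = q + 1) (K : Subfield F) (hc : μ ^ 3 ∈ K) : ∀ x : F, x ∈ K := by
  classical
  have : Fintype K := Fintype.ofFinite K
  have hcard : q ^ 2 = Fintype.card K ^ Module.finrank K F := by
    rw [← hF]; exact Module.card_eq_pow_finrank (K := K) (V := F)
  have hr2 : 2 ≤ Fintype.card K := Fintype.one_lt_card
  have hμ0 : μ ≠ 0 := by
    rintro rfl
    rw [orderOf_zero] at hμ
    omega
  -- `(q + 1) ∣ 3 * (r - 1)`
  have hdvd : (q + 1) ∣ 3 * (Fintype.card K - 1) := by
    have h1 : (⟨μ ^ 3, hc⟩ : K) ^ (Fintype.card K - 1) = 1 :=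
      FiniteField.pow_card_sub_one_eq_one _ (by
        intro h
        have := congrArg Subtype.val h
        simp only [ZeroMemClass.coe_zero] at this
        exact hμ0 (pow_eq_zero_iff (by norm_num) |>.mp this))
    have h2 : (μ ^ 3) ^ (Fintype.card K - 1) = 1 := by
      have := congrArg Subtype.val h1
      simpa using this
    rw [← pow_mul] at h2
    rw [← hμ]
    exact orderOf_dvd_of_pow_eq_one h2
  set r := Fintype.card K with hr
  set m := Module.finrank K F with hm
  -- case analysis on `m`
  rcases Nat.lt_or_ge m 3 with hm3 | hm3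
  · interval_cases m
    · -- m = 0
      simp only [pow_zero] at hcard
      nlinarith
    · -- m = 1
      simp only [pow_one] at hcard
      have hKF : Fintype.card K = Fintype.card F := by rw [hF, hcard]
      have hbij : Function.Bijective (Subtype.val : K → F) :=
        (Fintype.bijective_iff_injective_and_card _).2 ⟨Subtype.val_injective, hKF⟩
      intro x
      obtain ⟨y, rfl⟩ := hbij.2 x
      exact y.2
    · -- m = 2
      have hrq : r = q := by
        have := Nat.pow_left_injective (n := 2) (by norm_num) hcard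
        exact this.symm
      exfalso
      rw [hrq] at hdvd
      have h6 : (q + 1) ∣ 6 := by
        have h3 : (q + 1) ∣ 3 * (q + 1) := Dvd.intro_left 3 rfl
        have : 3 * (q + 1) - 3 * (q - 1) = 6 := by omega
        rw [← this]
        exact Nat.dvd_sub h3 hdvd
      have hle : q + 1 ≤ 6 := Nat.le_of_dvd (by norm_num) h6
      have hle5 : q ≤ 5 := by omega
      clear hcard hdvd hrq hF hμ
      interval_cases q
      · omega
      · omega
      · exact hq5 rfl
  · -- m ≥ 3
    exfalso
    have hr3 : r ^ 3 ≤ q ^ 2 := by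
      rw [hcard]
      exact Nat.pow_le_pow_right (by omega) hm3
    have hpos : 0 < 3 * (r - 1) := by omega
    have hle : q + 1 ≤ 3 * (r - 1) := Nat.le_of_dvd hpos hdvd
    have h4 : q + 4 ≤ 3 * r := by omega
    have h4' : ((q : ℤ) + 4) ≤ 3 * (r : ℤ) := by exact_mod_cast h4
    have hr3' : (r : ℤ) ^ 3 ≤ (q : ℤ) ^ 2 := by exact_mod_cast hr3
    have hq0 : (0 : ℤ) ≤ q := Int.natCast_nonneg q
    have hcube : ((q : ℤ) + 4) ^ 3 ≤ (3 * (r : ℤ)) ^ 3 := by
      apply pow_le_pow_left₀ (by linarith) h4'
    have hfin : ((q : ℤ) - 8) ^ 2 * ((q : ℤ) + 1) ≤ 0 := by nlinarith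
    have hsq : ((q : ℤ) - 8) ^ 2 ≤ 0 := by
      by_contra hcon
      rw [not_le] at hcon
      have : 0 < ((q : ℤ) - 8) ^ 2 * ((q : ℤ) + 1) := by positivity
      linarith
    have : (q : ℤ) - 8 = 0 := by
      have := sq_nonneg ((q : ℤ) - 8)
      have h0 : ((q : ℤ) - 8) ^ 2 = 0 := le_antisymm hsq this
      exact pow_eq_zero_iff (by norm_num) |>.mp h0
    exact hq8 (by omega)

/-- L15 -/
theorem span_generic (hq : 3 ≤ q) (hq5 : q ≠ 5) (hq8 : q ≠ 8) (hF : Fintype.card F = q ^ 2)
    (μ : F) (hμ : orderOf μ = q + 1) (S : Set F) (h1 : (1 : F) ∈ S)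
    (hadd : ∀ a ∈ S, ∀ b ∈ S, a + b ∈ S) (hmul : ∀ a ∈ S, μ ^ 3 * a ∈ S) : ∀ c : F, c ∈ S := by
  classical
  obtain ⟨p, hp⟩ := CharP.exists F
  have := hp
  have : Fact p.Prime := ⟨CharP.char_is_prime F p⟩
  have hp2 : 2 ≤ p := (Fact.out : p.Prime).two_le
  -- closure under positive multiples
  have hnsmul : ∀ n : ℕ, ∀ a ∈ S, ((n + 1 : ℕ) : F) * a ∈ S := by
    intro n
    induction n with
    | zero => intro a ha; simpa using ha
    | succ k ih =>
      intro a ha
      have := hadd _ (ih a ha) _ ha
      have e : ((k + 1 + 1 : ℕ) : F) * a = ((k + 1 : ℕ) : F) * a + a := by push_cast; ring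
      rw [e]; exact this
  have hp0 : (p : F) = 0 := CharP.cast_eq_zero F p
  have hzero : (0 : F) ∈ S := by
    have := hnsmul (p - 1) 1 h1
    have e : ((p - 1 + 1 : ℕ) : F) = 0 := by
      rw [Nat.sub_add_cancel (by omega)]; exact hp0
    rw [e] at this
    simpa using this
  have hneg : ∀ a ∈ S, -a ∈ S := by
    intro a ha
    have := hnsmul (p - 2) a ha
    have e : ((p - 2 + 1 : ℕ) : F) = -1 := by
      have : p - 2 + 1 = p - 1 := by omega
      rw [this, Nat.cast_sub (by omega), hp0]; simp
    rw [e] at this
    simpa using this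
  -- the multiplier subfield
  let K : Subfield F :=
    { carrier := {x | ∀ a ∈ S, x * a ∈ S}
      mul_mem' := by
        intro x y hx hy a ha
        rw [mul_assoc]; exact hx _ (hy a ha)
      one_mem' := by intro a ha; simpa using ha
      add_mem' := by
        intro x y hx hy a ha
        rw [add_mul]; exact hadd _ (hx a ha) _ (hy a ha)
      zero_mem' := by intro a ha; simpa using hzero
      neg_mem' := by
        intro x hx a ha
        rw [neg_mul]; exact hneg _ (hx a ha)
      inv_mem' := by
        intro x hx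
        by_cases hx0 : x = 0
        · subst hx0
          intro a ha; simpa using hzero
        · have hpow : ∀ n : ℕ, ∀ a ∈ S, x ^ n * a ∈ S := by
            intro n
            induction n with
            | zero => intro a ha; simpa using ha
            | succ k ih =>
              intro a ha
              rw [pow_succ, mul_assoc]; exact ih _ (hx a ha)
          have hone : x ^ (Fintype.card F - 1) = 1 := FiniteField.pow_card_sub_one_eq_one x hx0
          have hcardF : 2 ≤ Fintype.card F := Fintype.one_lt_card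
          have hinv : x⁻¹ = x ^ (Fintype.card F - 2) := by
            have e : x ^ (Fintype.card F - 2) * x = 1 := by
              rw [← pow_succ]
              have : Fintype.card F - 2 + 1 = Fintype.card F - 1 := by omega
              rw [this]; exact hone
            exact (eq_inv_of_mul_eq_one_left e).symm
          intro a ha
          show x⁻¹ * a ∈ S
          rw [hinv]; exact hpow _ a ha }
  have hcK : μ ^ 3 ∈ K := fun a ha => hmul a ha
  intro c
  have hcmem : c ∈ K := l15_subfield_eq_top hq hq5 hq8 hF μ hμ K hcK c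
  have := hcmem 1 h1
  simpa using this

end Cfsg.Agent.Lib.Helper42.RSU3
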