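import Mathlib

/-!
# K-S0459-D1 (keystone 45906, S0459, architect helper95)

Cardinalities of filtered finsets of `Fin n` (and of Boolean subtypes of `Fin n`) as lengths of
filtered `List.range n`.  Pure Mathlib.
-/

set_option autoImplicit false

namespace Cfsg.Agent.Lib.Helper42.RuKey

/-- auxiliary: the same for `Finset.range` -/
theorem d1_card_filter_range (n : ℕ) (q : ℕ → Bool) :
    ((Finset.range n).filter (fun k => q k = true)).card = ((List.range n).filter q).length := by
  induction n with
  | zero => simp
  | succ n ih =>
    rw [Finset.range_add_one, Finset.filter_insert, List.range_succ, List.filter_append,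
      List.length_append, ← ih]
    by_cases hq : q n = true
    · rw [if_pos hq, Finset.card_insert_of_notMem (by simp)]
      simp [hq]
    · rw [if_neg hq]
      simp [hq]

theorem card_filter_fin (n : ℕ) (q : ℕ → Bool) :
    (Finset.univ.filter (fun x : Fin n => q x.val = true)).card = ((List.range n).filter q).length := by
  have h1 : ((Finset.univ.filter (fun x : Fin n => q x.val = true)).map Fin.valEmbedding) =
      (Finset.range n).filter (fun k => q k = true) := by
    ext k
    simp only [Finset.mem_map, Finset.mem_filter, Finset.mem_univ, true_and,
      Fin.valEmbedding_apply, Finset.mem_range]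
    constructor
    · rintro ⟨x, hx, rfl⟩
      exact ⟨x.isLt, hx⟩
    · rintro ⟨hk, hq⟩
      exact ⟨⟨k, hk⟩, hq, rfl⟩
  rw [← Finset.card_map Fin.valEmbedding, h1, d1_card_filter_range]

theorem card_filter_sub (n : ℕ) (p q : ℕ → Bool) (hqp : ∀ x, q x = true → p x = true)
    [Fintype {x : Fin n // p x.val = true}] [DecidablePred fun x : {x : Fin n // p x.val = true} => q x.val.val = true] :
    (Finset.univ.filter (fun x : {x : Fin n // p x.val = true} => q x.val.val = true)).card =
      ((List.range n).filter q).length := by
  rw [← card_filter_fin n q, ← Finset.card_map (Function.Embedding.subtype _)]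
  congr 1
  ext x
  simp only [Finset.mem_map, Finset.mem_filter, Finset.mem_univ, true_and,
    Function.Embedding.coe_subtype]
  constructor
  · rintro ⟨y, hy, rfl⟩
    exact hy
  · intro hx
    exact ⟨⟨x, hqp _ hx⟩, hx, rfl⟩

theorem card_sub (n : ℕ) (p : ℕ → Bool) [Fintype {x : Fin n // p x.val = true}] :
    Fintype.card {x : Fin n // p x.val = true} = ((List.range n).filter p).length := by
  rw [Fintype.card_of_subtype (Finset.univ.filter (fun x : Fin n => p x.val = true)) (by simp),
    card_filter_fin]

end Cfsg.Agent.Lib.Helper42.RuKey
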