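import Mathlib
import Cfsg.Agent.Lib.Helper89.RkTwoDefs

/-!
# K-S5289-D1a (part): `orderOf z = p ^ (n - 2)` and `z ^ p` central, for `G(p,n;s)`
-/

set_option autoImplicit false

namespace Cfsg.Agent.Lib.Helper42.S5289

open Cfsg Cfsg.Agent.Lib.Helper89
open scoped Pointwise

variable {Ω : Type*} [Group Ω] {S : Subgroup Ω} {p n s : ℕ} {x y z : Ω}

/-- `z ^ m` is central in `S` as soon as `y ^ m = 1`. -/
theorem zpow_central_of (D : DData S p n s x y z) (m : ℕ) (hm : y ^ m = 1) :
    ∀ g ∈ S, g * z ^ m = z ^ m * g := by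
  have hle : Subgroup.closure ({x, y, z} : Set Ω) ≤ Subgroup.centralizer {z ^ m} := by
    rw [Subgroup.closure_le]
    intro g hg
    rw [SetLike.mem_coe, Subgroup.mem_centralizer_iff]
    intro c hc
    rw [Set.mem_singleton_iff] at hc
    subst hc
    rcases hg with rfl | rfl | rfl
    · have h1 : g⁻¹ * z ^ m * g = (g⁻¹ * z * g) ^ m := by
        have := conj_pow (a := g⁻¹) (b := z) (i := m)
        rw [inv_inv] at this
        exact this.symm
      rw [D.rel2, (show Commute y z from D.yz).mul_pow, hm, one_mul] at h1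
      calc z ^ m * g = g * (g⁻¹ * z ^ m * g) := by group
        _ = g * z ^ m := by rw [h1]
    · exact ((show Commute g z from D.yz).pow_right _).eq.symm
    · exact ((Commute.refl g).pow_right _).eq.symm
  intro g hg
  rw [← D.gen] at hg
  have := hle hg
  rw [Subgroup.mem_centralizer_iff] at this
  exact (this _ rfl).symm

theorem zp_central_of (D : DData S p n s x y z) : ∀ g ∈ S, g * z ^ p = z ^ p * g :=
  zpow_central_of D p D.yp

/-- conjugation by `x⁻¹` preserves `A = ⟨y, z⟩`. -/
theorem conj_mem_A (D : DData S p n s x y z) :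
    ∀ a ∈ Subgroup.closure ({y, z} : Set Ω), x⁻¹ * a * x ∈ Subgroup.closure ({y, z} : Set Ω) := by
  intro a ha
  have hy : y ∈ Subgroup.closure ({y, z} : Set Ω) := Subgroup.subset_closure (by simp)
  have hz : z ∈ Subgroup.closure ({y, z} : Set Ω) := Subgroup.subset_closure (by simp)
  induction ha using Subgroup.closure_induction with
  | mem v hv =>
    rcases hv with rfl | rfl
    · rw [D.rel1]
      exact mul_mem hy (pow_mem hz _)
    · rw [D.rel2]
      exact mul_mem hy hz
  | one => simp
  | mul a b _ _ iha ihb =>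
    have : x⁻¹ * (a * b) * x = (x⁻¹ * a * x) * (x⁻¹ * b * x) := by group
    rw [this]
    exact mul_mem iha ihb
  | inv a _ iha =>
    have : x⁻¹ * a⁻¹ * x = (x⁻¹ * a * x)⁻¹ := by group
    rw [this]
    exact inv_mem iha

theorem card_le_of (D : DData S p n s x y z) [Fact p.Prime] :
    Nat.card S ≤ p * (p * orderOf z) := by
  have hp : p.Prime := Fact.out
  have hSfin : Finite S := Nat.finite_of_card_ne_zero (by rw [D.card]; exact (pow_pos hp.pos _).ne')
  set A : Subgroup Ω := Subgroup.closure ({y, z} : Set Ω) with hA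
  have hAS : A ≤ S := by
    rw [hA, Subgroup.closure_le]
    rintro g (rfl | rfl)
    · exact D.hyS
    · exact D.hzS
  have hAfin : Finite A := Finite.of_injective (Subgroup.inclusion hAS) (Subgroup.inclusion_injective hAS)
  -- A = zpowers y ⊔ zpowers z
  have hAsup : A = Subgroup.zpowers y ⊔ Subgroup.zpowers z := by
    rw [hA, Subgroup.zpowers_eq_closure, Subgroup.zpowers_eq_closure, ← Subgroup.closure_union]
    rfl
  have hyn : Subgroup.zpowers y ≤ Subgroup.normalizer (Subgroup.zpowers z : Set Ω) := by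
    refine le_trans ?_ (Subgroup.centralizer_le_normalizer (Subgroup.zpowers z : Set Ω))
    rw [Subgroup.zpowers_le, Subgroup.mem_centralizer_iff]
    intro h hh
    obtain ⟨k, rfl⟩ := Subgroup.mem_zpowers_iff.1 hh
    exact ((show Commute y z from D.yz).zpow_right k).eq.symm
  have hAset : (A : Set Ω) = (Subgroup.zpowers y : Set Ω) * (Subgroup.zpowers z : Set Ω) := by
    rw [hAsup]
    exact Subgroup.coe_mul_of_left_le_normalizer_right _ _ hyn
  have hcardA : Nat.card A ≤ p * orderOf z := by
    have h1 : Nat.card A = Nat.card (A : Set Ω) := rfl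
    rw [h1, hAset]
    refine le_trans Set.natCard_mul_le ?_
    have h2 : Nat.card (Subgroup.zpowers y : Set Ω) = orderOf y := Nat.card_zpowers y
    have h3 : Nat.card (Subgroup.zpowers z : Set Ω) = orderOf z := Nat.card_zpowers z
    rw [h2, h3]
    exact Nat.mul_le_mul_right _ (orderOf_le_of_pow_eq_one hp.pos D.yp)
  -- x normalizes A
  have hxn : Subgroup.zpowers x ≤ Subgroup.normalizer (A : Set Ω) := by
    rw [Subgroup.zpowers_le]
    have hfinA : Finite (A : Set Ω) := hAfin
    have : x⁻¹ ∈ Subgroup.normalizer (A : Set Ω) := by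
      apply Subgroup.mem_normalizer_fintype
      intro a ha
      rw [inv_inv]
      exact conj_mem_A D a ha
    simpa using inv_mem this
  have hSsup : S = Subgroup.zpowers x ⊔ A := by
    rw [← D.gen, hA, Subgroup.zpowers_eq_closure, ← Subgroup.closure_union]
    rfl
  have hSset : (S : Set Ω) = (Subgroup.zpowers x : Set Ω) * (A : Set Ω) := by
    rw [hSsup]
    exact Subgroup.coe_mul_of_left_le_normalizer_right _ _ hxn
  have h1 : Nat.card S = Nat.card (S : Set Ω) := rfl
  rw [h1, hSset]
  refine le_trans Set.natCard_mul_le ?_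
  have h2 : Nat.card (Subgroup.zpowers x : Set Ω) = orderOf x := Nat.card_zpowers x
  rw [h2]
  exact Nat.mul_le_mul (orderOf_le_of_pow_eq_one hp.pos D.xp) hcardA

theorem orderOf_z_of (D : DData S p n s x y z) [Fact p.Prime] : orderOf z = p ^ (n - 2) := by
  have hp : p.Prime := Fact.out
  have hn := D.hn
  obtain ⟨k, hk, hkz⟩ := (Nat.dvd_prime_pow hp).1 (orderOf_dvd_of_pow_eq_one D.zp)
  have h1 := card_le_of D
  rw [D.card, hkz] at h1
  have h2 : p * (p * p ^ k) = p ^ (k + 2) := by ring
  rw [h2] at h1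
  have h3 : n ≤ k + 2 := (Nat.pow_le_pow_iff_right hp.one_lt).1 h1
  have : k = n - 2 := by omega
  rw [hkz, this]

end Cfsg.Agent.Lib.Helper42.S5289
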