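import Mathlib
import Cfsg.Agent.Lib.Helper89.RkTwoDefs

/-!
# K-S5289-D1b: `Ω₁` of `G(p,n;s)` (conditional on the D1a facts)
-/

set_option autoImplicit false

namespace Cfsg.Agent.Lib.Helper42.S5289

open Cfsg Cfsg.Agent.Lib.Helper89

variable {Ω : Type*} [Group Ω] {S : Subgroup Ω} {p n s : ℕ} {x y z : Ω}

/-- the D1a facts used below -/
structure D1aFacts (S : Subgroup Ω) (p n : ℕ) (z : Ω) : Prop where
  pabel : ∀ a ∈ S, ∀ b ∈ S, (a * b) ^ p = a ^ p * b ^ p
  pow_mem : ∀ a ∈ S, a ^ p ∈ Subgroup.zpowers (z ^ p)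
  orderOf_z : orderOf z = p ^ (n - 2)

/-- the `p`-power map as an endomorphism of `S` -/
def powHom (h : D1aFacts S p n z) : S →* S where
  toFun u := ⟨(u : Ω) ^ p, S.pow_mem u.2 p⟩
  map_one' := by ext; simp
  map_mul' a b := by ext; simpa using h.pabel a a.2 b b.2

theorem mem_omSub_of (h : D1aFacts S p n z) {u : Ω} : u ∈ omSub S p ↔ u ∈ S ∧ u ^ p = 1 := by
  constructor
  · intro hu
    unfold omSub at hu
    induction hu using Subgroup.closure_induction with
    | mem v hv => exact hv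
    | one => exact ⟨S.one_mem, one_pow p⟩
    | mul a b _ _ iha ihb =>
      exact ⟨S.mul_mem iha.1 ihb.1, by rw [h.pabel a iha.1 b ihb.1, iha.2, ihb.2, one_mul]⟩
    | inv a _ iha => exact ⟨S.inv_mem iha.1, by rw [inv_pow, iha.2, inv_one]⟩
  · intro hu
    exact Subgroup.subset_closure hu

theorem omSub_eq_map_ker (h : D1aFacts S p n z) : omSub S p = (powHom h).ker.map S.subtype := by
  ext u
  rw [mem_omSub_of h, Subgroup.mem_map]
  constructor
  · rintro ⟨huS, hup⟩
    refine ⟨⟨u, huS⟩, ?_, rfl⟩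
    rw [MonoidHom.mem_ker]
    ext
    exact hup
  · rintro ⟨v, hv, rfl⟩
    rw [MonoidHom.mem_ker] at hv
    exact ⟨v.2, congrArg Subtype.val hv⟩

theorem range_powHom (D : DData S p n s x y z) (h : D1aFacts S p n z) :
    (powHom h).range = Subgroup.zpowers (⟨z ^ p, S.pow_mem D.hzS p⟩ : S) := by
  apply le_antisymm
  · rintro _ ⟨u, rfl⟩
    obtain ⟨k, hk⟩ := Subgroup.mem_zpowers_iff.mp (h.pow_mem u u.2)
    rw [Subgroup.mem_zpowers_iff]
    refine ⟨k, ?_⟩
    ext
    rw [Subgroup.coe_zpow]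
    exact hk
  · rw [Subgroup.zpowers_le]
    exact ⟨⟨z, D.hzS⟩, rfl⟩

theorem orderOf_zp (D : DData S p n s x y z) (h : D1aFacts S p n z) [Fact p.Prime] :
    orderOf (z ^ p) = p ^ (n - 3) := by
  have hp : p.Prime := Fact.out
  have hn := D.hn
  rw [orderOf_pow_of_dvd hp.ne_zero, h.orderOf_z]
  · have : n - 2 = (n - 3) + 1 := by omega
    rw [this, pow_succ, Nat.mul_div_cancel _ hp.pos]
  · rw [h.orderOf_z]
    exact dvd_pow_self p (by omega)

theorem card_ker_powHom (D : DData S p n s x y z) (h : D1aFacts S p n z) [Fact p.Prime] :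
    Nat.card (powHom h).ker = p ^ 3 := by
  have hp : p.Prime := Fact.out
  have hn := D.hn
  have h1 := Subgroup.card_mul_index (powHom h).ker
  rw [Subgroup.index_ker, range_powHom D h, Nat.card_zpowers] at h1
  have h2 : orderOf (⟨z ^ p, S.pow_mem D.hzS p⟩ : S) = p ^ (n - 3) := by
    rw [Subgroup.orderOf_mk, orderOf_zp D h]
  rw [h2, D.card] at h1
  have h3 : p ^ n = p ^ 3 * p ^ (n - 3) := by
    rw [← pow_add]
    congr 1
    omega
  rw [h3] at h1
  exact Nat.eq_of_mul_eq_mul_right (pow_pos hp.pos _) h1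

theorem card_omSub_of (D : DData S p n s x y z) (h : D1aFacts S p n z) [Fact p.Prime] :
    Nat.card (omSub S p) = p ^ 3 := by
  rw [omSub_eq_map_ker h, Subgroup.card_map_of_injective S.subtype_injective]
  exact card_ker_powHom D h

theorem exists_decomp_of (D : DData S p n s x y z) (h : D1aFacts S p n z) [Fact p.Prime] :
    ∀ u ∈ S, ∃ r ∈ omSub S p, ∃ k : ℕ, u = r * z ^ k := by
  intro u hu
  have hp : p.Prime := Fact.out
  obtain ⟨k', hk'⟩ := Subgroup.mem_zpowers_iff.mp (h.pow_mem u hu)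
  have ho : (orderOf (z ^ p) : ℤ) ≠ 0 := by
    rw [orderOf_zp D h]
    exact_mod_cast (pow_pos hp.pos _).ne'
  -- a natural exponent
  obtain ⟨k, hk⟩ : ∃ k : ℕ, (z ^ p) ^ k = u ^ p := by
    refine ⟨(k' % (orderOf (z ^ p) : ℤ)).toNat, ?_⟩
    rw [← zpow_natCast, Int.toNat_of_nonneg (Int.emod_nonneg _ ho), zpow_mod_orderOf, hk']
  refine ⟨u * (z ^ k)⁻¹, ?_, k, by rw [inv_mul_cancel_right]⟩
  rw [mem_omSub_of h]
  have hzk : (z ^ k)⁻¹ ∈ S := S.inv_mem (S.pow_mem D.hzS k)
  refine ⟨S.mul_mem hu hzk, ?_⟩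
  rw [h.pabel u hu _ hzk, ← hk, inv_pow, ← pow_mul, ← pow_mul, mul_comm k p, mul_inv_cancel]

theorem c_central (D : DData S p n s x y z) :
    ∀ g ∈ S, g * z ^ p ^ (n - 3) = z ^ p ^ (n - 3) * g := by
  have hn := D.hn
  have hle : Subgroup.closure ({x, y, z} : Set Ω) ≤ Subgroup.centralizer {z ^ p ^ (n - 3)} := by
    rw [Subgroup.closure_le]
    intro g hg
    rw [SetLike.mem_coe, Subgroup.mem_centralizer_iff]
    intro c hc
    rw [Set.mem_singleton_iff] at hc
    subst hc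
    rcases hg with rfl | rfl | rfl
    · -- x
      have h1 : g⁻¹ * z ^ p ^ (n - 3) * g = (g⁻¹ * z * g) ^ p ^ (n - 3) := by
        have := conj_pow (a := g⁻¹) (b := z) (i := p ^ (n - 3))
        rw [inv_inv] at this
        exact this.symm
      rw [D.rel2, (show Commute y z from D.yz).mul_pow] at h1
      have h2 : y ^ p ^ (n - 3) = 1 := by
        have : n - 3 = (n - 4) + 1 := by omega
        rw [this, pow_succ, mul_comm, pow_mul, D.yp, one_pow]
      rw [h2, one_mul] at h1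
      calc z ^ p ^ (n - 3) * g = g * (g⁻¹ * z ^ p ^ (n - 3) * g) := by group
        _ = g * z ^ p ^ (n - 3) := by rw [h1]
    · -- y
      exact ((show Commute g z from D.yz).pow_right _).eq.symm
    · exact ((Commute.refl g).pow_right _).eq.symm
  intro g hg
  rw [← D.gen] at hg
  have := hle hg
  rw [Subgroup.mem_centralizer_iff] at this
  exact (this _ rfl).symm

theorem comm_omSub_of (D : DData S p n s x y z) (h : D1aFacts S p n z) [Fact p.Prime] :
    ∀ a ∈ omSub S p, ∀ b ∈ omSub S p,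
      a * b * a⁻¹ * b⁻¹ ∈ Subgroup.zpowers (z ^ p ^ (n - 3)) := by
  have hp : p.Prime := Fact.out
  have hn := D.hn
  have hcR : z ^ p ^ (n - 3) ∈ omSub S p := by
    rw [mem_omSub_of h]
    refine ⟨S.pow_mem D.hzS _, ?_⟩
    rw [← pow_mul, ← pow_succ, (by omega : n - 3 + 1 = n - 2), D.zp]
  have hoc : orderOf (z ^ p ^ (n - 3)) = p := by
    rw [orderOf_pow_of_dvd (pow_pos hp.pos _).ne', h.orderOf_z]
    · have : n - 2 = (n - 3) + 1 := by omega
      rw [this, pow_succ, Nat.mul_div_cancel_left _ (pow_pos hp.pos _)]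
    · rw [h.orderOf_z]
      exact pow_dvd_pow p (by omega)
  have hzle : Subgroup.zpowers (z ^ p ^ (n - 3)) ≤ omSub S p := by
    rw [Subgroup.zpowers_le]; exact hcR
  set C : Subgroup (omSub S p) := (Subgroup.zpowers (z ^ p ^ (n - 3))).subgroupOf (omSub S p) with hC
  have hCn : C.Normal := by
    constructor
    intro u hu g
    rw [hC, Subgroup.mem_subgroupOf] at hu ⊢
    have hgS : (g : Ω) ∈ S := ((mem_omSub_of h).1 g.2).1
    obtain ⟨k, hk⟩ := Subgroup.mem_zpowers_iff.1 hu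
    have hcomm : Commute (g : Ω) (z ^ p ^ (n - 3)) := c_central D g hgS
    have : (g : Ω) * u * (g : Ω)⁻¹ = u := by
      rw [← hk]
      exact (hcomm.zpow_right k).mul_inv_cancel
    simpa [this] using hu
  have hcardC : Nat.card C = p := by
    rw [hC, Nat.card_congr (Subgroup.subgroupOfEquivOfLe hzle).toEquiv, Nat.card_zpowers, hoc]
  have hcardQ : Nat.card (omSub S p ⧸ C) = p ^ 2 := by
    have h1 := Subgroup.card_eq_card_quotient_mul_card_subgroup C
    rw [card_omSub_of D h, hcardC] at h1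
    have : p ^ 3 = p ^ 2 * p := by ring
    rw [this] at h1
    exact (Nat.eq_of_mul_eq_mul_right hp.pos h1).symm
  have hQ : IsMulCommutative (omSub S p ⧸ C) := IsPGroup.isMulCommutative_of_card_eq_prime_sq hcardQ
  have hQcomm : ∀ a b : omSub S p ⧸ C, a * b = b * a := fun a b => hQ.is_comm.comm a b
  intro a ha b hb
  have key : ((⟨a, ha⟩ : omSub S p) * ⟨b, hb⟩ * (⟨a, ha⟩ : omSub S p)⁻¹ * (⟨b, hb⟩ : omSub S p)⁻¹) ∈ C := by
    rw [← QuotientGroup.eq_one_iff]
    simp only [QuotientGroup.mk_mul, QuotientGroup.mk_inv]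
    rw [hQcomm (QuotientGroup.mk ⟨a, ha⟩) (QuotientGroup.mk ⟨b, hb⟩)]
    group
  rw [hC, Subgroup.mem_subgroupOf] at key
  simpa using key

end Cfsg.Agent.Lib.Helper42.S5289
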