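import Mathlib
import Cfsg.Agent.Lib.Helper89.RkTwoDefs
import Cfsg.Agent.Lib.Helper42.S5289D1b
import Cfsg.Agent.Lib.Helper67.RkTwoD1a

/-!
# K-S5289-D1b, exact signatures (on top of helper67's D1a)
-/

set_option autoImplicit false

namespace Cfsg.Agent.Lib.Helper42

open Cfsg Cfsg.Agent.Lib.Helper89

variable {Ω : Type*} [Group Ω] {S : Subgroup Ω} {p n s : ℕ} {x y z : Ω}

theorem DData.d1aFacts [Fact p.Prime] (D : DData S p n s x y z) : S5289.D1aFacts S p n z :=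
  ⟨Cfsg.Agent.Lib.Helper67.DData.pabel D, Cfsg.Agent.Lib.Helper67.DData.pow_mem_zpowers D,
    Cfsg.Agent.Lib.Helper67.DData.orderOf_z D⟩

theorem DData.mem_omSub [Fact p.Prime] (D : DData S p n s x y z) {u : Ω} :
    u ∈ omSub S p ↔ u ∈ S ∧ u ^ p = 1 :=
  S5289.mem_omSub_of (DData.d1aFacts D)

theorem DData.card_omSub [Fact p.Prime] (D : DData S p n s x y z) : Nat.card (omSub S p) = p ^ 3 :=
  S5289.card_omSub_of D (DData.d1aFacts D)

theorem DData.exists_decomp [Fact p.Prime] (D : DData S p n s x y z) :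
    ∀ u ∈ S, ∃ r ∈ omSub S p, ∃ k : ℕ, u = r * z ^ k :=
  S5289.exists_decomp_of D (DData.d1aFacts D)

theorem DData.comm_omSub [Fact p.Prime] (D : DData S p n s x y z) :
    ∀ a ∈ omSub S p, ∀ b ∈ omSub S p, a * b * a⁻¹ * b⁻¹ ∈ Subgroup.zpowers (z ^ p ^ (n - 3)) :=
  S5289.comm_omSub_of D (DData.d1aFacts D)

end Cfsg.Agent.Lib.Helper42
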