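import Mathlib

set_option autoImplicit false

namespace Cfsg.Agent.Lib.Helper42.SN

/-- A nontrivial finite group in which every nontrivial subgroup is self-normalizing has prime order. -/
theorem card_prime_of_all_self_normalizing {Q : Type*} [Group Q] [Finite Q] [Nontrivial Q]
    (h : ∀ H : Subgroup Q, H ≠ ⊥ → Subgroup.normalizer (H : Set Q) = H) : (Nat.card Q).Prime := by
  have h1 : 1 < Nat.card Q := Finite.one_lt_card
  obtain ⟨p, hp, hpd⟩ : ∃ p, p.Prime ∧ p ∣ Nat.card Q :=
    ⟨(Nat.card Q).minFac, Nat.minFac_prime (by omega), Nat.minFac_dvd _⟩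
  have : Fact p.Prime := ⟨hp⟩
  obtain ⟨x, hx⟩ := exists_prime_orderOf_dvd_card' p hpd
  set Z : Subgroup Q := Subgroup.zpowers x with hZ
  have hZcard : Nat.card Z = p := by rw [hZ, Nat.card_zpowers, hx]
  have hZne : Z ≠ ⊥ := by
    intro hb
    rw [hb, Subgroup.card_bot] at hZcard
    exact hp.one_lt.ne hZcard
  have hNZ := h Z hZne
  -- p^2 does not divide |Q|
  have hp2 : ¬ p ^ (1 + 1) ∣ Nat.card Q := by
    intro hdvd
    have := Sylow.prime_dvd_card_quotient_normalizer (n := 1) hdvd (H := Z) (by rw [hZcard, pow_one])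
    have hone : Nat.card (Subgroup.normalizer (Z : Set Q) ⧸
        Z.comap (Subgroup.normalizer (Z : Set Q)).subtype) = 1 := by
      rw [Nat.card_eq_one_iff_unique]
      refine ⟨⟨?_⟩, ⟨QuotientGroup.mk 1⟩⟩
      intro a b
      obtain ⟨a, rfl⟩ := QuotientGroup.mk_surjective a
      obtain ⟨b, rfl⟩ := QuotientGroup.mk_surjective b
      rw [QuotientGroup.eq]
      have ha : (a : Q) ∈ Z := hNZ.le a.2
      have hb : (b : Q) ∈ Z := hNZ.le b.2
      show ((a⁻¹ * b : Subgroup.normalizer (Z : Set Q)) : Q) ∈ Z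
      exact Z.mul_mem (Z.inv_mem ha) hb
    rw [hone] at this
    exact hp.one_lt.ne' (Nat.dvd_one.mp this)
  have hfac : (Nat.card Q).factorization p = 1 := by
    have hle : 1 ≤ (Nat.card Q).factorization p :=
      (hp.dvd_iff_one_le_factorization (by omega)).mp hpd
    have hlt : ¬ 2 ≤ (Nat.card Q).factorization p := by
      intro h2
      apply hp2
      exact (pow_dvd_pow p h2).trans (Nat.ordProj_dvd _ p)
    omega
  let P : Sylow p Q := Sylow.ofCard Z (by rw [hZcard, hfac, pow_one])
  have hPZ : (P : Subgroup Q) = Z := rfl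
  have hcomm : Z ≤ Subgroup.centralizer (Z : Set Q) := by
    intro a ha
    rw [Subgroup.mem_centralizer_iff]
    intro b hb
    obtain ⟨i, rfl⟩ := Subgroup.mem_zpowers_iff.mp ha
    obtain ⟨j, rfl⟩ := Subgroup.mem_zpowers_iff.mp hb
    exact (zpow_mul_comm x j i)
  have hPN : Subgroup.normalizer ((P : Subgroup Q) : Set Q) ≤ Subgroup.centralizer ((P : Subgroup Q) : Set Q) := by
    rw [hPZ, hNZ]
    exact hcomm
  have hcompl := MonoidHom.ker_transferSylow_isComplement' P hPN
  set K := (MonoidHom.transferSylow P hPN).ker with hK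
  have hmul := hcompl.card_mul_card
  rw [hPZ, hZcard] at hmul
  by_cases hKb : K = ⊥
  · rw [hKb, Subgroup.card_bot, one_mul] at hmul
    rw [← hmul]; exact hp
  · exfalso
    have hKn := h K hKb
    have hKnormal : K.Normal := by rw [hK]; infer_instance
    have hKtop : K = ⊤ := by
      have htop : Subgroup.normalizer (K : Set Q) = ⊤ := Subgroup.normalizer_eq_top K
      rw [← hKn]
      exact htop
    rw [hKtop, Subgroup.card_top] at hmul
    have : p = 1 := by
      have hpos : 0 < Nat.card Q := Nat.card_pos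
      exact Nat.eq_of_mul_eq_mul_left hpos (by rw [hmul, mul_one] : Nat.card Q * p = Nat.card Q * 1)
    exact hp.one_lt.ne' this

end Cfsg.Agent.Lib.Helper42.SN
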