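import Mathlib
import Cfsg.Agent.Lib.Helper42.SNPrime

set_option autoImplicit false

namespace Cfsg.Agent.Lib.Helper42.SN

/-- (SN): every non-abelian subgroup is self-normalizing. -/
def SNProp (G : Type*) [Group G] : Prop :=
  ∀ H : Subgroup G, ¬ IsMulCommutative H → Subgroup.normalizer (H : Set G) = H

/-- Lemma 1: under (SN), for an abelian subgroup `U`, either `N(U) ≤ C(U)`, or `C(U)` is abelian and
`[N(U) : C(U)]` is prime. -/
theorem lemma1 {G : Type*} [Group G] [Finite G] (hSN : SNProp G) (U : Subgroup G)
    (hU : IsMulCommutative U) :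
    Subgroup.normalizer (U : Set G) ≤ Subgroup.centralizer (U : Set G) ∨
    (IsMulCommutative (Subgroup.centralizer (U : Set G)) ∧
      ((Subgroup.centralizer (U : Set G)).relIndex (Subgroup.normalizer (U : Set G))).Prime) := by
  classical
  set N := Subgroup.normalizer (U : Set G) with hN
  set C := Subgroup.centralizer (U : Set G) with hC
  by_cases hNC : N ≤ C
  · exact Or.inl hNC
  right
  have hUC : U ≤ C := by
    rw [hC, Subgroup.le_centralizer_iff_isMulCommutative]
    exact hU
  have hCN : C ≤ N := by
    intro g hg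
    rw [hN, Subgroup.mem_normalizer_iff]
    intro u
    rw [Subgroup.mem_centralizer_iff] at hg
    constructor
    · intro hu
      have := hg u hu
      rw [← this, mul_inv_cancel_right]
      exact hu
    · intro hu
      have := hg _ hu
      -- g * u * g⁻¹ commutes with g
      have h2 : u = g * u * g⁻¹ := by
        have : g * u * g⁻¹ * g = g * (g * u * g⁻¹) := this
        have h3 : g * u = g * (g * u * g⁻¹) := by rw [← this]; group
        exact mul_left_cancel h3
      rw [h2]; exact hu
  -- key: any subgroup H with C ≤ H, H ≤ N, ¬ H ≤ C is nonabelian hence self-normalizing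
  have key : ∀ H : Subgroup G, C ≤ H → ¬ H ≤ C → Subgroup.normalizer (H : Set G) = H := by
    intro H hCH hHC
    apply hSN
    intro hcomm
    apply hHC
    intro g hg
    rw [hC, Subgroup.mem_centralizer_iff]
    intro u hu
    have := hcomm.is_comm.comm ⟨u, hCH (hUC hu)⟩ ⟨g, hg⟩
    exact congrArg Subtype.val this
  -- C abelian
  have hCcomm : IsMulCommutative C := by
    by_contra hnc
    have hCself := hSN C hnc
    apply hNC
    -- N normalizes C
    intro g hg
    rw [← hCself, Subgroup.mem_normalizer_iff]
    intro c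
    rw [hN, Subgroup.mem_normalizer_iff] at hg
    simp only [hC, Subgroup.mem_centralizer_iff]
    constructor
    · intro hc u hu
      have hu' : g⁻¹ * u * g ∈ U := by
        have := (hg (g⁻¹ * u * g)).mpr (by simpa [mul_assoc] using hu)
        exact this
      have := hc _ hu'
      calc u * (g * c * g⁻¹) = g * ((g⁻¹ * u * g) * c) * g⁻¹ := by group
        _ = g * (c * (g⁻¹ * u * g)) * g⁻¹ := by rw [this]
        _ = g * c * g⁻¹ * u := by group
    · intro hc u hu
      have hu' : g * u * g⁻¹ ∈ U := (hg u).mp hu
      have := hc _ hu'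
      calc u * c = g⁻¹ * ((g * u * g⁻¹) * (g * c * g⁻¹)) * g := by group
        _ = g⁻¹ * ((g * c * g⁻¹) * (g * u * g⁻¹)) * g := by rw [this]
        _ = c * u := by group
  refine ⟨hCcomm, ?_⟩
  -- the quotient N / C
  have hCnorm : (C.subgroupOf N).Normal := by
    have : N ≤ Subgroup.normalizer (C : Set G) := by
      intro g hg
      rw [Subgroup.mem_normalizer_iff]
      intro c
      rw [hN, Subgroup.mem_normalizer_iff] at hg
      simp only [hC, Subgroup.mem_centralizer_iff]
      constructor
      · intro hc u hu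
        have hu' : g⁻¹ * u * g ∈ U := by
          have := (hg (g⁻¹ * u * g)).mpr (by simpa [mul_assoc] using hu)
          exact this
        have := hc _ hu'
        calc u * (g * c * g⁻¹) = g * ((g⁻¹ * u * g) * c) * g⁻¹ := by group
          _ = g * (c * (g⁻¹ * u * g)) * g⁻¹ := by rw [this]
          _ = g * c * g⁻¹ * u := by group
      · intro hc u hu
        have hu' : g * u * g⁻¹ ∈ U := (hg u).mp hu
        have := hc _ hu'
        calc u * c = g⁻¹ * ((g * u * g⁻¹) * (g * c * g⁻¹)) * g := by group
          _ = g⁻¹ * ((g * c * g⁻¹) * (g * u * g⁻¹)) * g := by rw [this]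
          _ = c * u := by group
    exact Subgroup.normal_subgroupOf_of_le_normalizer this
  let Q := N ⧸ C.subgroupOf N
  have hQnt : Nontrivial Q := by
    rw [← not_subsingleton_iff_nontrivial]
    intro hsub
    apply hNC
    intro g hg
    have : (QuotientGroup.mk (⟨g, hg⟩ : N) : Q) = 1 := Subsingleton.elim _ _
    rw [QuotientGroup.eq_one_iff] at this
    exact this
  have hQ : ∀ H : Subgroup Q, H ≠ ⊥ → Subgroup.normalizer (H : Set Q) = H := by
    intro H hH
    apply le_antisymm _ Subgroup.le_normalizer
    intro q hq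
    obtain ⟨n, rfl⟩ := QuotientGroup.mk_surjective q
    -- preimage subgroup in G
    set H' : Subgroup G := (H.comap (QuotientGroup.mk' (C.subgroupOf N))).map N.subtype with hH'
    have hmemH' : ∀ g : G, g ∈ H' ↔ ∃ hg : g ∈ N, (QuotientGroup.mk (⟨g, hg⟩ : N) : Q) ∈ H := by
      intro g
      rw [hH', Subgroup.mem_map]
      constructor
      · rintro ⟨x, hx, rfl⟩
        exact ⟨x.2, hx⟩
      · rintro ⟨hg, hx⟩
        exact ⟨⟨g, hg⟩, hx, rfl⟩
    have hCH' : C ≤ H' := by
      intro c hc
      rw [hmemH']
      refine ⟨hCN hc, ?_⟩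
      have : (QuotientGroup.mk (⟨c, hCN hc⟩ : N) : Q) = 1 := by
        rw [QuotientGroup.eq_one_iff]
        exact hc
      rw [this]; exact H.one_mem
    have hH'C : ¬ H' ≤ C := by
      intro hle
      apply hH
      rw [Subgroup.eq_bot_iff_forall]
      intro x hx
      obtain ⟨m, rfl⟩ := QuotientGroup.mk_surjective x
      have hm : (m : G) ∈ H' := (hmemH' _).mpr ⟨m.2, hx⟩
      rw [QuotientGroup.eq_one_iff]
      exact hle hm
    have hself := key H' hCH' hH'C
    have hnH' : (n : G) ∈ Subgroup.normalizer (H' : Set G) := by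
      rw [Subgroup.mem_normalizer_iff]
      intro g
      rw [Subgroup.mem_normalizer_iff] at hq
      rw [hmemH', hmemH']
      constructor
      · rintro ⟨hg, hx⟩
        refine ⟨N.mul_mem (N.mul_mem n.2 hg) (N.inv_mem n.2), ?_⟩
        have := (hq (QuotientGroup.mk (⟨g, hg⟩ : N))).mp hx
        exact this
      · rintro ⟨hg, hx⟩
        have hgN : g ∈ N := by
          have : g = (n : G)⁻¹ * ((n : G) * g * (n : G)⁻¹) * (n : G) := by group
          rw [this]
          exact N.mul_mem (N.mul_mem (N.inv_mem n.2) hg) n.2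
        refine ⟨hgN, ?_⟩
        apply (hq (QuotientGroup.mk (⟨g, hgN⟩ : N))).mpr
        exact hx
    rw [hself, hmemH'] at hnH'
    obtain ⟨_, h2⟩ := hnH'
    exact h2
  have hprime := card_prime_of_all_self_normalizing hQ
  have hcard : Nat.card Q = C.relIndex N := by
    rw [Subgroup.relIndex, Subgroup.index_eq_card]
  rw [← hcard]
  exact hprime

end Cfsg.Agent.Lib.Helper42.SN
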