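import Mathlib

set_option autoImplicit false

namespace Cfsg.Agent.Lib.Helper42.SN

open scoped IsMulCommutative in
/-- In a perfect finite group, an abelian Sylow `p`-subgroup `P` meets the centre of its normalizer
trivially (transfer + Burnside fusion). -/
theorem eq_one_of_central_in_normalizer {G : Type*} [Group G] [Finite G] {p : ℕ} [Fact p.Prime]
    (hperf : commutator G = ⊤) (P : Sylow p G) [hP : IsMulCommutative P] (x : G)
    (hx : x ∈ (P : Subgroup G))
    (hc : ∀ n ∈ Subgroup.normalizer ((P : Subgroup G) : Set G), n * x = x * n) : x = 1 := by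
  let V : G →* P := MonoidHom.transfer (MonoidHom.id P)
  have hV : ∀ g, V g = 1 := by
    intro g
    have hle : commutator G ≤ V.ker := Abelianization.commutator_subset_ker V
    rw [hperf] at hle
    exact hle (Subgroup.mem_top g)
  have key : ∀ (k : ℕ) (g₀ : G), g₀⁻¹ * x ^ k * g₀ ∈ (P : Subgroup G) →
      g₀⁻¹ * x ^ k * g₀ = x ^ k := by
    intro k g₀ h
    obtain ⟨n, hn, h'⟩ := P.conj_eq_normalizer_conj_of_mem (x ^ k) g₀ (P.pow_mem hx k) h
    rw [h']
    have hcomm : Commute n x := hc n hn
    have hcomm' : Commute n (x ^ k) := hcomm.pow_right k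
    rw [mul_assoc, ← hcomm'.eq, inv_mul_cancel_left]
  have hpow := MonoidHom.transfer_eq_pow (MonoidHom.id P) x key
  have h1 : x ^ (P : Subgroup G).index = 1 := by
    have := hV x
    change MonoidHom.transfer (MonoidHom.id P) x = 1 at this
    rw [hpow] at this
    have h2 := congrArg Subtype.val this
    simpa using h2
  have hord1 : orderOf x ∣ (P : Subgroup G).index := orderOf_dvd_of_pow_eq_one h1
  obtain ⟨k, hk⟩ := P.isPGroup' ⟨x, hx⟩
  have hord2 : orderOf x ∣ p ^ k := by
    apply orderOf_dvd_of_pow_eq_one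
    have := congrArg Subtype.val hk
    simpa using this
  have hcop : Nat.Coprime (p ^ k) (P : Subgroup G).index := by
    apply Nat.Coprime.pow_left
    rw [Nat.Prime.coprime_iff_not_dvd Fact.out]
    exact P.not_dvd_index
  have : orderOf x = 1 := Nat.eq_one_of_dvd_coprimes hcop hord2 hord1
  exact orderOf_eq_one_iff.mp this

end Cfsg.Agent.Lib.Helper42.SN
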