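import Mathlib
import Cfsg.Prelude.Def_KGroupFacts
import Cfsg.Agent.Lib.Helper42.AbelianSylow

/-!
# K-S2037-A: a stem extension with an involution in the kernel can be replaced by one whose
kernel has order exactly 2
-/

set_option autoImplicit false
set_option linter.unusedSectionVars false
set_option linter.style.haveILetI false

namespace Cfsg.Agent.Lib.Helper42.SchurTwo

open Subgroup

universe u

/-- a finite group all of whose elements commute, containing an element of order 2, has a subgroup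
of index 2 -/
theorem exists_index_two_of_comm {Z : Type*} [Group Z] [Finite Z]
    (hcomm : ∀ a b : Z, a * b = b * a) (z : Z) (hz2 : orderOf z = 2) :
    ∃ H : Subgroup Z, H.index = 2 := by
  haveI : Fact (Nat.Prime 2) := ⟨Nat.prime_two⟩
  have hn0 : Nat.card Z ≠ 0 := Nat.card_pos.ne'
  set a := (Nat.card Z).factorization 2 with ha
  set m := Nat.card Z / 2 ^ a with hm
  have hnm : 2 ^ a * m = Nat.card Z := Nat.ordProj_mul_ordCompl_eq_self (Nat.card Z) 2
  have hmodd : Nat.Coprime 2 m := Nat.coprime_ordCompl Nat.prime_two hn0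
  let f : Z →* Z := MonoidHom.mk' (fun x => x ^ m) (fun x y => (Commute.mul_pow (hcomm x y) m))
  have hfx : ∀ x : Z, f x = x ^ m := fun x => rfl
  have hA : IsPGroup 2 ↥f.range := by
    rintro ⟨y, x, rfl⟩
    refine ⟨a, Subtype.ext ?_⟩
    show (x ^ m) ^ 2 ^ a = 1
    rw [← pow_mul, mul_comm, hnm]
    exact pow_card_eq_one'
  have hzz : z * z = 1 := by
    have := pow_orderOf_eq_one z
    rwa [hz2, pow_two] at this
  have hz1 : z ≠ 1 := by
    intro h
    rw [h, orderOf_one] at hz2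
    omega
  have hfz : f z = z := by
    rw [hfx]
    have hodd : Odd m := by
      rw [← Nat.not_even_iff_odd]
      intro he
      have := Nat.Coprime.eq_one_of_dvd hmodd (even_iff_two_dvd.mp he)
      omega
    obtain ⟨k, hk⟩ := hodd
    rw [hk, pow_succ, pow_mul, pow_two, hzz, one_pow, one_mul]
  apply exists_index_eq_prime_of_hom_ne_one 2 hA f.rangeRestrict
  refine ⟨z, ?_⟩
  intro h
  have h1 : ((f.rangeRestrict z : ↥f.range) : Z) = 1 := by rw [h]; rfl
  rw [MonoidHom.coe_rangeRestrict, hfz] at h1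
  exact hz1 h1

/-- **K-S2037-A.** A finite stem extension whose kernel has an element of order 2 can be replaced
by one (same universe) whose kernel has order exactly 2, in normalised form. -/
theorem exists_stem_ker_two {G : Type u} [Group G] {Γ : Type u} [Group Γ] [Finite Γ]
    (σ : Γ →* G) (hσ : Cfsg.IsStemExtension σ) (z : Γ) (hz : z ∈ σ.ker) (hz2 : orderOf z = 2) :
    ∃ (Γ' : Type u) (_ : Group Γ') (_ : Finite Γ') (σ' : Γ' →* G) (z' : Γ'),
      Cfsg.IsStemExtension σ' ∧ z' ≠ 1 ∧ z' * z' = 1 ∧ ∀ x : Γ', σ' x = 1 ↔ (x = 1 ∨ x = z') := by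
  obtain ⟨hsurj, hcen, hcomm⟩ := hσ
  -- the kernel is commutative
  have hZcomm : ∀ a b : ↥σ.ker, a * b = b * a := by
    intro a b
    apply Subtype.ext
    have := (Subgroup.mem_center_iff.mp (hcen a.2)) (b : Γ)
    rw [Subgroup.coe_mul, Subgroup.coe_mul]
    exact this.symm
  obtain ⟨H, hH⟩ := exists_index_two_of_comm hZcomm (⟨z, hz⟩ : ↥σ.ker)
    (by rw [← Subgroup.orderOf_coe]; exact hz2)
  -- `Z₀`: the image of `H` in `Γ`
  set Z₀ : Subgroup Γ := H.map σ.ker.subtype with hZ₀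
  have hZ₀ker : Z₀ ≤ σ.ker := Subgroup.map_subtype_le H
  have hZ₀mem : ∀ x : Γ, ∀ hx : x ∈ σ.ker, (x ∈ Z₀ ↔ (⟨x, hx⟩ : ↥σ.ker) ∈ H) := by
    intro x hx
    constructor
    · intro h
      obtain ⟨y, hy, hyx⟩ := Subgroup.mem_map.mp h
      have : y = ⟨x, hx⟩ := Subtype.ext hyx
      rwa [← this]
    · intro h
      exact Subgroup.mem_map.mpr ⟨_, h, rfl⟩
  haveI hZ₀n : Z₀.Normal := by
    constructor
    intro n hn g
    have hc := Subgroup.mem_center_iff.mp (hcen (hZ₀ker hn)) g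
    have : g * n * g⁻¹ = n := by rw [hc]; group
    rwa [this]
  -- an element of the kernel outside `Z₀`
  obtain ⟨z₁, hz₁⟩ : ∃ z₁ : ↥σ.ker, z₁ ∉ H := by
    by_contra h
    push Not at h
    have : H = ⊤ := eq_top_iff.mpr fun x _ => h x
    rw [this, Subgroup.index_top] at hH
    omega
  have hz₁Z₀ : (z₁ : Γ) ∉ Z₀ := by
    rw [hZ₀mem _ z₁.2]; exact hz₁
  -- two elements of the kernel outside `Z₀` are congruent
  have hcong : ∀ x : Γ, x ∈ σ.ker → x ∉ Z₀ → (z₁ : Γ)⁻¹ * x ∈ Z₀ := by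
    intro x hx hxZ
    have h1 : (⟨x, hx⟩ : ↥σ.ker) ∉ H := by rwa [← hZ₀mem x hx]
    have h2 : z₁⁻¹ * ⟨x, hx⟩ ∈ H := by
      rw [Subgroup.mul_mem_iff_of_index_two hH, inv_mem_iff]
      exact ⟨fun h => absurd h hz₁, fun h => absurd h h1⟩
    have h3 := (hZ₀mem _ (σ.ker.mul_mem (σ.ker.inv_mem z₁.2) hx)).mpr h2
    exact h3
  have hsq : (z₁ : Γ) * (z₁ : Γ) ∈ Z₀ := by
    have h2 : z₁ * z₁ ∈ H := by
      rw [Subgroup.mul_mem_iff_of_index_two hH]
    exact (hZ₀mem _ (σ.ker.mul_mem z₁.2 z₁.2)).mpr h2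
  refine ⟨Γ ⧸ Z₀, inferInstance, inferInstance, QuotientGroup.lift Z₀ σ hZ₀ker,
    (QuotientGroup.mk' Z₀ (z₁ : Γ)), ⟨?_, ?_, ?_⟩, ?_, ?_, ?_⟩
  · -- surjective
    intro g
    obtain ⟨x, hx⟩ := hsurj g
    exact ⟨QuotientGroup.mk' Z₀ x, by simpa using hx⟩
  · -- kernel central
    intro x' hx'
    obtain ⟨x, rfl⟩ := QuotientGroup.mk'_surjective Z₀ x'
    have hx : x ∈ σ.ker := by
      rw [MonoidHom.mem_ker] at hx' ⊢
      simpa using hx'
    rw [Subgroup.mem_center_iff]
    intro y'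
    obtain ⟨y, rfl⟩ := QuotientGroup.mk'_surjective Z₀ y'
    have hc := Subgroup.mem_center_iff.mp (hcen hx) y
    rw [← map_mul, ← map_mul, hc]
  · -- kernel inside the commutator subgroup
    intro x' hx'
    obtain ⟨x, rfl⟩ := QuotientGroup.mk'_surjective Z₀ x'
    have hx : x ∈ σ.ker := by
      rw [MonoidHom.mem_ker] at hx' ⊢
      simpa using hx'
    have h1 : x ∈ commutator Γ := hcomm hx
    rw [commutator_def] at h1 ⊢
    have h2 : QuotientGroup.mk' Z₀ x ∈
        Subgroup.map (QuotientGroup.mk' Z₀) (⁅(⊤ : Subgroup Γ), (⊤ : Subgroup Γ)⁆ : Subgroup Γ) :=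
      Subgroup.mem_map_of_mem _ h1
    rw [Subgroup.map_commutator, Subgroup.map_top_of_surjective _
      (QuotientGroup.mk'_surjective Z₀)] at h2
    exact h2
  · -- `z' ≠ 1`
    intro h
    apply hz₁Z₀
    exact (QuotientGroup.eq_one_iff (z₁ : Γ)).mp h
  · -- `z' * z' = 1`
    rw [← map_mul]
    exact (QuotientGroup.eq_one_iff _).mpr hsq
  · -- the kernel is `{1, z'}`
    intro x'
    obtain ⟨x, rfl⟩ := QuotientGroup.mk'_surjective Z₀ x'
    constructor
    · intro hx'
      have hx : x ∈ σ.ker := by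
        rw [MonoidHom.mem_ker]
        simpa using hx'
      by_cases hxZ : x ∈ Z₀
      · left
        exact (QuotientGroup.eq_one_iff x).mpr hxZ
      · right
        have h1 := hcong x hx hxZ
        exact (QuotientGroup.eq.mpr h1).symm
    · rintro (h | h)
      · rw [h, map_one]
      · rw [h]
        have : σ (z₁ : Γ) = 1 := MonoidHom.mem_ker.mp z₁.2
        simpa using this

end Cfsg.Agent.Lib.Helper42.SchurTwo
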