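import Mathlib
import Cfsg.Agent.Lib.Helper69.StNDefs

set_option autoImplicit false

namespace Cfsg.Agent.Lib.Helper42.StN

open Cfsg.Agent.Lib.Helper69.StN Matrix

variable {n : ℕ} {K : Type*} [Field K] {S : Type*} [Group S] {X : Fin n → Fin n → K → S}

/-- partial unipotent subgroups: root pairs `(k, l)` in column-major order, code `l * n + k`. -/
def Vr (X : Fin n → Fin n → K → S) (r : ℕ) : Subgroup S :=
  Subgroup.closure {g | ∃ k l t, k < l ∧ l.val * n + k.val < r ∧ g = X k l t}

lemma code_lt_of_col_lt {n a b c d : ℕ} (hb : b < n) (h : a < c) : a * n + b < c * n + d := by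
  have h1 : (a + 1) * n ≤ c * n := Nat.mul_le_mul_right n h
  have h2 : (a + 1) * n = a * n + n := by ring
  omega

lemma code_inj {n a b c d : ℕ} (hb : b < n) (hd : d < n) (h : a * n + b = c * n + d) :
    a = c ∧ b = d := by
  rcases lt_trichotomy a c with h' | h' | h'
  · have := code_lt_of_col_lt (d := d) hb h'
    omega
  · subst h'
    exact ⟨rfl, by omega⟩
  · have := code_lt_of_col_lt (d := b) hd h'
    omega

lemma conj_mem_Vr (hX : IsSt X) {i j : Fin n} (hij : i < j) (t : K) :
    ∀ v ∈ Vr X (j.val * n + i.val),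
      X i j t * v * (X i j t)⁻¹ ∈ Vr X (j.val * n + i.val) := by
  intro v hv
  unfold Vr at hv
  induction hv using Subgroup.closure_induction with
  | mem x hx =>
    obtain ⟨k, l, s, hkl, hcode, rfl⟩ := hx
    by_cases hli : l = i
    · subst hli
      have h3 := hX.comm3 k l j hkl.ne hij.ne (hkl.trans hij).ne s t
      have e : X l j t * X k l s * (X l j t)⁻¹ = (X k j (s * t))⁻¹ * X k l s := by
        rw [← h3]; group
      rw [e]
      apply Subgroup.mul_mem
      · apply Subgroup.inv_mem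
        apply Subgroup.subset_closure
        refine ⟨k, j, s * t, hkl.trans hij, ?_, rfl⟩
        have : k.val < l.val := hkl
        omega
      · exact Subgroup.subset_closure ⟨k, l, s, hkl, hcode, rfl⟩
    · by_cases hjk : j = k
      · exfalso
        subst hjk
        have hlt : j.val < l.val := hkl
        have := code_lt_of_col_lt (n := n) (b := i.val) (d := j.val) i.isLt hlt
        omega
      · have hc := hX.comm i j k l hij.ne hkl.ne (Ne.symm hli) hjk t s
        rw [hc, mul_inv_cancel_right]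
        exact Subgroup.subset_closure ⟨k, l, s, hkl, hcode, rfl⟩
  | one => simp
  | mul x y _ _ hx hy =>
    have e : X i j t * (x * y) * (X i j t)⁻¹ =
        (X i j t * x * (X i j t)⁻¹) * (X i j t * y * (X i j t)⁻¹) := by group
    rw [e]; exact Subgroup.mul_mem _ hx hy
  | inv x _ hx =>
    have e : X i j t * x⁻¹ * (X i j t)⁻¹ = (X i j t * x * (X i j t)⁻¹)⁻¹ := by group
    rw [e]; exact Subgroup.inv_mem _ hx

lemma Vr_succ_decomp (hX : IsSt X) {i j : Fin n} (hij : i < j) :
    ∀ g ∈ Vr X (j.val * n + i.val + 1),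
      ∃ v ∈ Vr X (j.val * n + i.val), ∃ t : K, g = v * X i j t := by
  intro g hg
  unfold Vr at hg
  induction hg using Subgroup.closure_induction with
  | mem x hx =>
    obtain ⟨k, l, s, hkl, hcode, rfl⟩ := hx
    by_cases h : l.val * n + k.val = j.val * n + i.val
    · obtain ⟨h1, h2⟩ := code_inj k.isLt i.isLt h
      have hl : l = j := Fin.ext h1
      have hk : k = i := Fin.ext h2
      subst hl hk
      exact ⟨1, Subgroup.one_mem _, s, by rw [one_mul]⟩
    · refine ⟨X k l s, Subgroup.subset_closure ⟨k, l, s, hkl, by omega, rfl⟩, 0, ?_⟩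
      rw [hX.zero hij.ne, mul_one]
  | one => exact ⟨1, Subgroup.one_mem _, 0, by rw [hX.zero hij.ne, mul_one]⟩
  | mul x y _ _ hx hy =>
    obtain ⟨v, hv, t, rfl⟩ := hx
    obtain ⟨v', hv', t', rfl⟩ := hy
    refine ⟨v * (X i j t * v' * (X i j t)⁻¹),
      Subgroup.mul_mem _ hv (conj_mem_Vr hX hij t v' hv'), t + t', ?_⟩
    rw [← hX.add i j hij.ne]; group
  | inv x _ hx =>
    obtain ⟨v, hv, t, rfl⟩ := hx
    refine ⟨X i j (-t) * v⁻¹ * (X i j (-t))⁻¹,
      conj_mem_Vr hX hij (-t) v⁻¹ (Subgroup.inv_mem _ hv), -t, ?_⟩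
    rw [_root_.mul_inv_rev, hX.inv hij.ne]; group

omit [Field K] in
lemma Vr_succ_le (X : Fin n → Fin n → K → S) (r : ℕ)
    (hr : ¬ ∃ i j : Fin n, i < j ∧ j.val * n + i.val = r) : Vr X (r + 1) ≤ Vr X r := by
  apply Subgroup.closure_mono
  rintro _ ⟨k, l, t, hkl, hcode, rfl⟩
  refine ⟨k, l, t, hkl, ?_, rfl⟩
  have : l.val * n + k.val ≠ r := fun h => hr ⟨k, l, hkl, h⟩
  omega

/-- zero pattern of the matrices in `φ (Vr X r)`. -/
def Pat (n r : ℕ) (K : Type*) [Field K] (M : Matrix (Fin n) (Fin n) K) : Prop :=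
  (∀ a, M a a = 1) ∧ (∀ a b, b < a → M a b = 0) ∧
    (∀ a b, a < b → r ≤ b.val * n + a.val → M a b = 0)

lemma Pat.mul {r : ℕ} {M M' : Matrix (Fin n) (Fin n) K} (h : Pat n r K M) (h' : Pat n r K M') :
    Pat n r K (M * M') := by
  obtain ⟨hd, hl, hu⟩ := h
  obtain ⟨hd', hl', hu'⟩ := h'
  refine ⟨fun a => ?_, fun a b hba => ?_, fun a b hab hcode => ?_⟩
  · rw [Matrix.mul_apply, Finset.sum_eq_single a]
    · rw [hd, hd', one_mul]
    · intro l _ hla
      rcases lt_or_gt_of_ne hla with h | h
      · rw [hl a l h, zero_mul]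
      · rw [hl' l a h, mul_zero]
    · intro h; exact absurd (Finset.mem_univ a) h
  · rw [Matrix.mul_apply]
    apply Finset.sum_eq_zero
    intro l _
    by_cases h : l < a
    · rw [hl a l h, zero_mul]
    · have : b < l := lt_of_lt_of_le hba (not_lt.1 h)
      rw [hl' l b this, mul_zero]
  · rw [Matrix.mul_apply]
    apply Finset.sum_eq_zero
    intro l _
    rcases lt_trichotomy l a with h | h | h
    · rw [hl a l h, zero_mul]
    · subst h; rw [hu' l b hab hcode, mul_zero]
    · rcases lt_trichotomy l b with h2 | h2 | h2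
      · have : r ≤ b.val * n + l.val := by
          have : a.val < l.val := h
          omega
        rw [hu' l b h2 this, mul_zero]
      · subst h2; rw [hu a l hab hcode, zero_mul]
      · rw [hl' l b h2, mul_zero]

lemma Pat.one {r : ℕ} : Pat n r K (1 : Matrix (Fin n) (Fin n) K) := by
  refine ⟨fun a => Matrix.one_apply_eq a, fun a b hba => Matrix.one_apply_ne hba.ne',
    fun a b hab _ => Matrix.one_apply_ne hab.ne⟩

lemma pat_transvection {r : ℕ} {k l : Fin n} (hkl : k < l) (hcode : l.val * n + k.val < r)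
    (t : K) : Pat n r K (1 + Matrix.single k l t) := by
  refine ⟨fun a => ?_, fun a b hba => ?_, fun a b hab hc => ?_⟩
  · have : ¬ (k = a ∧ l = a) := fun h => hkl.ne (h.1.trans h.2.symm)
    simp [this]
  · have : ¬ (k = a ∧ l = b) := by
      rintro ⟨rfl, rfl⟩
      exact lt_asymm hkl hba
    simp [this, hba.ne']
  · have : ¬ (k = a ∧ l = b) := by
      rintro ⟨rfl, rfl⟩
      omega
    simp [this, hab.ne]

lemma pat_phi (hX : IsSt X) {φ : S →* SpecialLinearGroup (Fin n) K} (hφ : IsPhi X φ) (r : ℕ) :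
    ∀ v ∈ Vr X r, Pat n r K ((φ v : SpecialLinearGroup (Fin n) K) : Matrix (Fin n) (Fin n) K) := by
  intro v hv
  unfold Vr at hv
  induction hv using Subgroup.closure_induction'' with
  | mem x hx =>
    obtain ⟨k, l, t, hkl, hcode, rfl⟩ := hx
    rw [hφ k l hkl.ne t]
    exact pat_transvection hkl hcode t
  | inv_mem x hx =>
    obtain ⟨k, l, t, hkl, hcode, rfl⟩ := hx
    rw [hX.inv hkl.ne, hφ k l hkl.ne (-t)]
    exact pat_transvection hkl hcode (-t)
  | one => rw [map_one]; exact Pat.one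
  | mul x y _ _ hx hy => rw [map_mul]; exact Pat.mul hx hy

lemma Vr_inj (hX : IsSt X) {φ : S →* SpecialLinearGroup (Fin n) K} (hφ : IsPhi X φ) :
    ∀ r, ∀ g ∈ Vr X r, φ g = 1 → g = 1 := by
  intro r
  induction r with
  | zero =>
    intro g hg _
    have h0 : Vr X 0 = ⊥ := by
      unfold Vr
      rw [Subgroup.closure_eq_bot_iff]
      rintro _ ⟨k, l, t, _, h, _⟩
      omega
    rw [h0] at hg
    exact Subgroup.mem_bot.1 hg
  | succ r ih =>
    intro g hg h1
    by_cases hr : ∃ i j : Fin n, i < j ∧ j.val * n + i.val = r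
    · obtain ⟨i, j, hij, rfl⟩ := hr
      obtain ⟨v, hv, t, rfl⟩ := Vr_succ_decomp hX hij g hg
      obtain ⟨hd, -, hu⟩ := pat_phi hX hφ _ v hv
      have ht : t = 0 := by
        have e : ((φ (v * X i j t) : SpecialLinearGroup (Fin n) K) : Matrix (Fin n) (Fin n) K) i j
            = (1 : Matrix (Fin n) (Fin n) K) i j := by
          rw [h1]; rfl
        rw [map_mul, hφ i j hij.ne t, Matrix.one_apply_ne hij.ne] at e
        have e2 : ((φ v * SpecialLinearGroup.transvection hij.ne t : SpecialLinearGroup (Fin n) K) :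
            Matrix (Fin n) (Fin n) K) i j =
            ((φ v : SpecialLinearGroup (Fin n) K) : Matrix (Fin n) (Fin n) K) i j +
              ((φ v : SpecialLinearGroup (Fin n) K) : Matrix (Fin n) (Fin n) K) i i * t := by
          rw [Matrix.SpecialLinearGroup.coe_mul, Matrix.SpecialLinearGroup.transvection_coe,
            Matrix.mul_add, Matrix.mul_one, Matrix.add_apply, Matrix.mul_single_apply_same]
        rw [e2, hu i j hij le_rfl, hd i, zero_add, one_mul] at e
        exact e
      subst ht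
      rw [hX.zero hij.ne, mul_one] at h1 ⊢
      exact ih v hv h1
    · exact ih g (Vr_succ_le X r hr hg) h1

/-- K-StN-E4 -/
theorem Upos_inj (hX : IsSt X) {φ : S →* SpecialLinearGroup (Fin n) K} (hφ : IsPhi X φ) :
    ∀ g ∈ Upos X, φ g = 1 → g = 1 := by
  intro g hg
  apply Vr_inj hX hφ (n * n) g
  refine (Subgroup.closure_mono ?_) hg
  rintro _ ⟨i, j, t, hij, rfl⟩
  refine ⟨i, j, t, hij, ?_, rfl⟩
  have h1 : (j.val + 1) * n ≤ n * n := Nat.mul_le_mul_right n j.isLt
  have h2 : (j.val + 1) * n = j.val * n + n := by ring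
  have := i.isLt
  omega

end Cfsg.Agent.Lib.Helper42.StN
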