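import Mathlib
import Cfsg.Agent.Lib.Helper40.T1904Defs

/-!
# K-S1904-11 (keystone 452, architect helper40): `|A| = 3` in case β of the Thompson N-groups lemma S1904
-/

set_option autoImplicit false
set_option linter.unusedSectionVars false
set_option linter.unusedVariables false
set_option linter.style.haveILetI false

namespace Cfsg.Agent.Lib.Helper42.T1904

open Cfsg.Agent.Lib.Helper40.T1904
open scoped commutatorElement

universe u_1

variable {X : Type u_1} [Group X]

/-- if `φ b = b d`, `φ d = d`, `φ ^ m = 1` with `m` odd and `d` a 2-element then `d = 1` -/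
theorem eq_one_of_twist (φ : MulAut X) (m : ℕ) (hm : Odd m) (hφm : φ ^ m = 1) (b d : X)
    (hb : φ b = b * d) (hd : φ d = d) (k : ℕ) (hdk : d ^ (2 ^ k) = 1) : d = 1 := by
  have hpow : ∀ j : ℕ, (φ ^ j) b = b * d ^ j := by
    intro j
    induction j with
    | zero => simp
    | succ j ih =>
      rw [pow_succ', MulAut.mul_apply, ih, map_mul, map_pow, hb, hd, pow_succ', mul_assoc]
  have h1 := hpow m
  rw [hφm, MulAut.one_apply] at h1
  have h2 : d ^ m = 1 := by
    have := mul_left_cancel (a := b) (b := 1) (c := d ^ m) (by rw [mul_one]; exact h1)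
    exact this.symm
  have h3 : d ^ Nat.gcd m (2 ^ k) = 1 := pow_gcd_eq_one.mpr ⟨h2, hdk⟩
  have h4 : Nat.gcd m (2 ^ k) = 1 := by
    apply Nat.Coprime.pow_right
    exact (Nat.coprime_comm.mp (Nat.coprime_two_left.mpr hm))
  rwa [h4, pow_one] at h3

theorem pow_card_eq_one_of_mem {A : Subgroup (MulAut X)} [Finite A] (φ : MulAut X) (hφ : φ ∈ A) :
    φ ^ Nat.card A = 1 := by
  have h := pow_card_eq_one' (G := A) (x := ⟨φ, hφ⟩)
  have h2 : ((⟨φ, hφ⟩ : A) ^ Nat.card A : A).1 = (1 : A).1 := congrArg (Subtype.val) h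
  exact h2

theorem eq_three_of_dvd (n : ℕ) (h24 : n ∣ 24) (hodd : Odd n) (h1 : n ≠ 1) : n = 3 := by
  have hle : n ≤ 24 := Nat.le_of_dvd (by norm_num) h24
  obtain ⟨r, hr⟩ := hodd
  obtain ⟨s, hs⟩ := h24
  interval_cases n <;> omega

/-- K-S1904-11. -/
theorem beta_card_A [Finite X] {A : Subgroup (MulAut X)} (h : Ctx X A) (B : Subgroup X)
    (hBn : B.Normal) (hBa : Ab B) (hBi : Inv A B) (hfpf : Fpf A B) (hB1 : B ≠ ⊥)
    (hsc : ∀ x : X, (∀ b ∈ B, x * b = b * x) → x ∈ B) : Nat.card A = 3 := by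
  classical
  haveI : Finite (MulAut X) := Finite.of_injective (fun φ : MulAut X => (φ : X → X))
    (fun φ ψ hφψ => MulEquiv.ext (congrFun hφψ))
  haveI : Finite A := inferInstance
  have hm := h.hodd
  -- 2-elements
  have h2el : ∀ x : X, ∃ k : ℕ, x ^ (2 ^ k) = 1 := fun x => h.h2 x
  -- (i) fixing B pointwise implies trivial
  have hi : ∀ φ ∈ A, (∀ b ∈ B, φ b = b) → φ = 1 := by
    intro φ hφ hfix
    ext x
    rw [MulAut.one_apply]
    set c := x⁻¹ * φ x with hc
    have hcB : c ∈ B := by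
      apply hsc
      intro b hb
      have h1 : x * b * x⁻¹ ∈ B := hBn.conj_mem b hb x
      have h3 : φ (x * b * x⁻¹) = x * b * x⁻¹ := hfix _ h1
      rw [map_mul, map_mul, map_inv, hfix b hb] at h3
      -- φ x * b * (φ x)⁻¹ = x * b * x⁻¹
      have h4 : x⁻¹ * φ x * b = b * (x⁻¹ * φ x) := by
        have h5 : φ x * b = x * b * x⁻¹ * φ x := by
          rw [← h3]; group
        calc x⁻¹ * φ x * b = x⁻¹ * (φ x * b) := by group
          _ = x⁻¹ * (x * b * x⁻¹ * φ x) := by rw [h5]
          _ = b * (x⁻¹ * φ x) := by group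
      exact h4
    obtain ⟨k, hk⟩ := h2el c
    have hφx : φ x = x * c := by rw [hc]; group
    have hc1 : c = 1 :=
      eq_one_of_twist φ (Nat.card A) hm (pow_card_eq_one_of_mem φ hφ) x c hφx (hfix c hcB) k hk
    rw [hφx, hc1, mul_one]
  -- (ii) fixing Ω₁(B) pointwise implies fixing B pointwise
  have hii : ∀ φ ∈ A, (∀ v ∈ B, v * v = 1 → φ v = v) → ∀ b ∈ B, φ b = b := by
    intro φ hφ hfixV
    have key : ∀ k : ℕ, ∀ b ∈ B, b ^ (2 ^ k) = 1 → φ b = b := by
      intro k
      induction k with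
      | zero =>
        intro b _ hb1
        rw [pow_zero, pow_one] at hb1
        rw [hb1, map_one]
      | succ k ih =>
        intro b hb hbk
        have hb2 : φ (b * b) = b * b := by
          apply ih (b * b) (B.mul_mem hb hb)
          rw [← pow_two, ← pow_mul, ← pow_succ']
          exact hbk
        set d := b⁻¹ * φ b with hd
        have hφb : φ b ∈ B := hBi φ hφ b hb
        have hdB : d ∈ B := B.mul_mem (B.inv_mem hb) hφb
        have hdd : d * d = 1 := by
          have hcomm : φ b * b⁻¹ = b⁻¹ * φ b := hBa _ hφb _ (B.inv_mem hb)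
          calc d * d = b⁻¹ * (φ b * b⁻¹) * φ b := by rw [hd]; group
            _ = b⁻¹ * (b⁻¹ * φ b) * φ b := by rw [hcomm]
            _ = (b * b)⁻¹ * (φ b * φ b) := by group
            _ = (b * b)⁻¹ * φ (b * b) := by rw [map_mul]
            _ = 1 := by rw [hb2]; group
        have hφd : φ d = d := hfixV d hdB hdd
        have hφb' : φ b = b * d := by rw [hd]; group
        have hd1 : d = 1 :=
          eq_one_of_twist φ (Nat.card A) hm (pow_card_eq_one_of_mem φ hφ) b d hφb' hφd 1
            (by rw [pow_one, pow_two]; exact hdd)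
        rw [hφb', hd1, mul_one]
    intro b hb
    obtain ⟨k, hk⟩ := h2el b
    exact key k b hb hk
  -- the set V = Ω₁(B)
  let V : Type u_1 := {t : X // t ∈ B ∧ t * t = 1}
  have hVcard : Nat.card V ≤ 4 := h.hR B hBn hBa
  haveI : Finite V := Subtype.finite
  -- the action of A on V
  have hmapV : ∀ φ ∈ A, ∀ t : X, (t ∈ B ∧ t * t = 1) → (φ t ∈ B ∧ φ t * φ t = 1) := by
    intro φ hφ t ht
    refine ⟨hBi φ hφ t ht.1, ?_⟩
    rw [← map_mul, ht.2, map_one]
  let f : A → V → V := fun φ v => ⟨φ.1 v.1, hmapV φ.1 φ.2 v.1 v.2⟩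
  have hfinj : ∀ φ : A, Function.Injective (f φ) := by
    intro φ v w hvw
    have := congrArg Subtype.val hvw
    exact Subtype.ext (φ.1.injective this)
  let ρ : A →* Equiv.Perm V := MonoidHom.mk'
    (fun φ => Equiv.ofBijective (f φ) (Finite.injective_iff_bijective.mp (hfinj φ)))
    (by
      intro φ ψ
      ext v
      rfl)
  have hρinj : Function.Injective ρ := by
    rw [injective_iff_map_eq_one]
    intro φ hφ1
    have hfixV : ∀ v ∈ B, v * v = 1 → φ.1 v = v := by
      intro v hv hvv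
      have := congrArg (fun σ : Equiv.Perm V => (σ ⟨v, hv, hvv⟩).1) hφ1
      exact this
    have := hi φ.1 φ.2 (hii φ.1 φ.2 hfixV)
    exact Subtype.ext this
  have hdvd : Nat.card A ∣ Nat.card (Equiv.Perm V) := Subgroup.card_dvd_of_injective ρ hρinj
  have hperm : Nat.card (Equiv.Perm V) = (Nat.card V).factorial := by
    haveI : Fintype V := Fintype.ofFinite V
    rw [Nat.card_eq_fintype_card, Fintype.card_perm, Nat.card_eq_fintype_card]
  have hdvd24 : Nat.card A ∣ 24 := by
    rw [hperm] at hdvd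
    exact hdvd.trans (Nat.factorial_dvd_factorial hVcard)
  -- A ≠ 1
  have hne1 : Nat.card A ≠ 1 := by
    intro h1
    have hAbot : ∀ φ ∈ A, φ = 1 := by
      intro φ hφ
      have hsub : Subsingleton A := (Nat.card_eq_one_iff_unique.mp h1).1
      have := Subsingleton.elim (⟨φ, hφ⟩ : A) 1
      exact congrArg Subtype.val this
    have hcl : Subgroup.closure {g : X | ∃ φ ∈ A, ∃ x : X, g = x⁻¹ * φ x} = ⊥ := by
      rw [Subgroup.closure_eq_bot_iff]
      rintro g ⟨φ, hφ, x, rfl⟩
      rw [hAbot φ hφ]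
      simp
    have htop : (⊤ : Subgroup X) = ⊥ := by rw [← h.hgen, hcl]
    apply hB1
    rw [eq_bot_iff, ← htop]
    exact le_top
  exact eq_three_of_dvd _ hdvd24 hm hne1

end Cfsg.Agent.Lib.Helper42.T1904
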