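import Mathlib
import Cfsg.Agent.Lib.Helper94.THDefs
import Cfsg.Agent.Lib.Helper85.THB5a
import Cfsg.Agent.Lib.Helper93.THB3

/-!
# K-TH-B5b (keystone 163208): norm-summability of the dual theta family.

Route: for `A` positive definite, the recursively defined dual form `dq n A` is `ξ ↦ ξᵀ C ξ` for a real
positive definite matrix `C` (induction on `n`: `C = E + Lᵀ C' L`), for ALL complex `ξ`.  Hence
`ThDTerm n A τ z k = const * ThTerm C (-1/τ) w k` with `w = (1/τ) C z`, and THB5a (helper85) applies.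
-/

set_option autoImplicit false

namespace Cfsg.Agent.Lib.Helper42.TH

open Matrix Complex
open scoped Real
open Cfsg.Agent.Lib.Helper94.TH

/-- `xᵀ (Lᵀ C L) x = (L x)ᵀ C (L x)` -/
theorem quad_conj {R : Type*} [CommRing R] {m n : ℕ} (L : Matrix (Fin n) (Fin m) R)
    (C : Matrix (Fin n) (Fin n) R) (x : Fin m → R) :
    x ⬝ᵥ ((Lᵀ * C * L) *ᵥ x) = (L *ᵥ x) ⬝ᵥ (C *ᵥ (L *ᵥ x)) := by
  rw [← Matrix.mulVec_mulVec, ← Matrix.mulVec_mulVec, Matrix.dotProduct_mulVec,
    Matrix.vecMul_transpose]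

/-- the matrix with the single entry `c` at `(0,0)` -/
def E0 {R : Type*} [Zero R] (n : ℕ) (c : R) : Matrix (Fin (n + 1)) (Fin (n + 1)) R :=
  Matrix.of fun I J => if I = 0 ∧ J = 0 then c else 0

/-- the matrix of `x ↦ (x (i+1) - β i * x 0)_i` -/
def Lm {R : Type*} [Ring R] (n : ℕ) (β : Fin n → R) : Matrix (Fin n) (Fin (n + 1)) R :=
  Matrix.of fun i J => Fin.cases (-(β i)) (fun j => if j = i then 1 else 0) J

theorem E0_quad {R : Type*} [CommRing R] (n : ℕ) (c : R) (x : Fin (n + 1) → R) :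
    x ⬝ᵥ (E0 n c *ᵥ x) = c * x 0 ^ 2 := by
  simp only [dotProduct, mulVec, E0, Matrix.of_apply, Fin.sum_univ_succ]
  simp [Fin.succ_ne_zero]
  ring

theorem Lm_mulVec {R : Type*} [CommRing R] (n : ℕ) (β : Fin n → R) (x : Fin (n + 1) → R)
    (i : Fin n) : (Lm n β *ᵥ x) i = x i.succ - x 0 * β i := by
  simp only [mulVec, dotProduct, Lm, Matrix.of_apply, Fin.sum_univ_succ, Fin.cases_zero,
    Fin.cases_succ]
  simp
  ring

theorem E0_symm {R : Type*} [Zero R] (n : ℕ) (c : R) : (E0 n c).IsSymm := by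
  ext I J
  simp [E0, Matrix.transpose_apply, and_comm]

theorem E0_map (n : ℕ) (c : ℝ) :
    (E0 n c).map (Complex.ofReal) = E0 n (c : ℂ) := by
  ext I J
  simp only [E0, Matrix.map_apply, Matrix.of_apply]
  split_ifs <;> simp

theorem Lm_map (n : ℕ) (β : Fin n → ℝ) :
    (Lm n β).map (Complex.ofReal) = Lm n (fun i => (β i : ℂ)) := by
  ext i J
  refine Fin.cases ?_ (fun j => ?_) J
  · simp [Lm]
  · simp only [Lm, Matrix.map_apply, Matrix.of_apply, Fin.cases_succ]
    split_ifs <;> simp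

theorem map_conj_cast {m n : ℕ} (L : Matrix (Fin n) (Fin m) ℝ) (C : Matrix (Fin n) (Fin n) ℝ) :
    (Lᵀ * C * L).map (Complex.ofReal) =
      (L.map Complex.ofReal)ᵀ * C.map Complex.ofReal * L.map Complex.ofReal := by
  ext i j
  simp only [Matrix.map_apply, Matrix.mul_apply, Matrix.transpose_apply]
  push_cast
  rfl

/-- the real quadratic form, cast to `ℂ` -/
theorem rq_cast {n : ℕ} (C : Matrix (Fin n) (Fin n) ℝ) (x : Fin n → ℝ) :
    ((rq C x : ℝ) : ℂ) =
      (fun i => (x i : ℂ)) ⬝ᵥ ((C.map Complex.ofReal) *ᵥ (fun i => (x i : ℂ))) := by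
  simp only [rq, dotProduct, mulVec, Matrix.map_apply]
  push_cast
  rfl

theorem rq_zero {n : ℕ} (C : Matrix (Fin n) (Fin n) ℝ) : rq C 0 = 0 := by
  simp [rq]

theorem isPD_nonneg {n : ℕ} {C : Matrix (Fin n) (Fin n) ℝ} (hC : IsPD C) (x : Fin n → ℝ) :
    0 ≤ rq C x := by
  by_cases hx : x = 0
  · rw [hx, rq_zero]
  · exact (hC.2 x hx).le

/-- THE REPRESENTATION: the dual form of a positive definite matrix is a positive definite real
quadratic form, on all complex vectors. -/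
theorem exists_dq_eq : ∀ (n : ℕ) {A : Matrix (Fin n) (Fin n) ℝ}, IsPD A →
    ∃ C : Matrix (Fin n) (Fin n) ℝ, IsPD C ∧
      ∀ ξ : Fin n → ℂ, dq n A ξ = ξ ⬝ᵥ ((C.map Complex.ofReal) *ᵥ ξ) := by
  intro n
  induction n with
  | zero =>
    intro A _
    refine ⟨0, ⟨?_, ?_⟩, ?_⟩
    · ext i j; exact i.elim0
    · intro x hx
      exact absurd (Subsingleton.elim x 0) hx
    · intro ξ
      simp [dq, dotProduct]
  | succ n ih =>
    intro A hA
    obtain ⟨ha, hS⟩ := Cfsg.Agent.Lib.Helper93.TH.schur_isPD_aux hA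
    obtain ⟨C', hC', hdq'⟩ := ih hS
    set a := A 0 0 with hadef
    set β : Fin n → ℝ := fun i => A 0 i.succ / a with hβ
    refine ⟨E0 n a⁻¹ + (Lm n β)ᵀ * C' * Lm n β, ⟨?_, ?_⟩, ?_⟩
    · -- symmetric
      have h1 : ((Lm n β)ᵀ * C' * Lm n β).IsSymm := by
        unfold Matrix.IsSymm
        rw [Matrix.transpose_mul, Matrix.transpose_mul, Matrix.transpose_transpose, hC'.1.eq,
          Matrix.mul_assoc]
      exact (E0_symm n a⁻¹).add h1
    · -- positive
      intro x hx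
      have hq : rq (E0 n a⁻¹ + (Lm n β)ᵀ * C' * Lm n β) x =
          a⁻¹ * x 0 ^ 2 + rq C' (Lm n β *ᵥ x) := by
        unfold rq
        rw [Matrix.add_mulVec, dotProduct_add, E0_quad, quad_conj]
      rw [hq]
      have hainv : 0 < a⁻¹ := inv_pos.mpr ha
      by_cases h0 : x 0 = 0
      · have hne : Lm n β *ᵥ x ≠ 0 := by
          intro h
          apply hx
          funext I
          refine Fin.cases ?_ (fun i => ?_) I
          · simpa using h0
          · have := congrFun h i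
            rw [Lm_mulVec, h0, zero_mul, sub_zero] at this
            simpa using this
        have := hC'.2 _ hne
        rw [h0]
        simpa using this
      · have h1 : 0 < a⁻¹ * x 0 ^ 2 := by positivity
        have h2 := isPD_nonneg hC' (Lm n β *ᵥ x)
        linarith
    · -- the formula
      intro ξ
      have hac : (a : ℂ) ≠ 0 := by exact_mod_cast ha.ne'
      rw [Matrix.map_add (f := Complex.ofReal) (by intro x y; push_cast; rfl), map_conj_cast,
        E0_map, Lm_map, Matrix.add_mulVec, dotProduct_add, E0_quad, quad_conj, ← hdq']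
      rw [dq]
      simp only [← hadef]
      congr 1
      · push_cast
        field_simp
      · congr 1
        funext i
        rw [Lm_mulVec]
        simp only [hβ]
        push_cast
        field_simp

/-- `zᵀ M k = kᵀ M z` for symmetric `M` -/
theorem dot_symm {n : ℕ} {M : Matrix (Fin n) (Fin n) ℂ} (hM : M.IsSymm) (u v : Fin n → ℂ) :
    u ⬝ᵥ (M *ᵥ v) = v ⬝ᵥ (M *ᵥ u) := by
  rw [Matrix.dotProduct_mulVec, ← Matrix.mulVec_transpose, hM.eq, dotProduct_comm]

/-- LEAF THB5b -/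
theorem summable_ThDTerm {n : ℕ} {A : Matrix (Fin n) (Fin n) ℝ} (hA : IsPD A) {τ : ℂ}
    (hτ : 0 < τ.im) (z : Fin n → ℂ) : Summable (fun k : Fin n → ℤ => ‖ThDTerm n A τ z k‖) := by
  obtain ⟨C, hC, hdq⟩ := exists_dq_eq n hA
  have hτ0 : τ ≠ 0 := by
    rintro rfl
    simp at hτ
  have hτ' : 0 < (-1 / τ).im := by
    have h1 : (-1 / τ : ℂ) = -(τ⁻¹) := by rw [neg_div, one_div]
    rw [h1, Complex.neg_im, Complex.inv_im, neg_div, neg_neg]
    exact div_pos hτ (Complex.normSq_pos.mpr hτ0)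
  set M : Matrix (Fin n) (Fin n) ℂ := C.map Complex.ofReal with hM
  have hMs : M.IsSymm := by
    ext i j
    simp only [hM, Matrix.transpose_apply, Matrix.map_apply]
    rw [hC.1.apply]
  set w : Fin n → ℂ := fun i => (1 / τ) * (M *ᵥ z) i with hw
  have hB := Cfsg.Agent.Lib.Helper85.TH.summable_ThTerm hC hτ' w
  have key : ∀ k : Fin n → ℤ, ThDTerm n A τ z k =
      ThTerm C (-1 / τ) w k * cexp (π * I * (-1 / τ) * (z ⬝ᵥ (M *ᵥ z))) := by
    intro k
    unfold ThDTerm ThTerm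
    rw [← Complex.exp_add, hdq]
    congr 1
    have hk : (fun i => ((k i : ℤ) : ℂ) - z i) = (fun i => ((k i : ℤ) : ℂ)) - z := rfl
    have hrq : ((rq C (fun i => ((k i : ℤ) : ℝ)) : ℝ) : ℂ) =
        (fun i => ((k i : ℤ) : ℂ)) ⬝ᵥ (M *ᵥ (fun i => ((k i : ℤ) : ℂ))) := by
      rw [rq_cast]
      simp only [hM]
      push_cast
      rfl
    have hsumw : ∑ i, ((k i : ℤ) : ℂ) * w i =
        (1 / τ) * ((fun i => ((k i : ℤ) : ℂ)) ⬝ᵥ (M *ᵥ z)) := by
      simp only [hw, dotProduct, Finset.mul_sum]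
      apply Finset.sum_congr rfl
      intro i _
      ring
    rw [hk, hrq, hsumw]
    simp only [Matrix.mulVec_sub, sub_dotProduct, dotProduct_sub]
    rw [dot_symm hMs z (fun i => ((k i : ℤ) : ℂ))]
    field_simp
    ring
  have : (fun k : Fin n → ℤ => ‖ThDTerm n A τ z k‖) =
      fun k => ‖ThTerm C (-1 / τ) w k‖ * ‖cexp (π * I * (-1 / τ) * (z ⬝ᵥ (M *ᵥ z)))‖ := by
    funext k
    rw [key k, norm_mul]
  rw [this]
  exact hB.mul_right _

end Cfsg.Agent.Lib.Helper42.TH
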