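import Mathlib
import Cfsg.Agent.Lib.Helper94.THDefs

/-!
# K-TH-B7 (keystone 163210), core: `thetaC B (-1/τ) = τ^12 thetaC B τ` from the theta inversion formula
(THB6 at `n = 24`, `z = 0`), `dq_mulVec` (THB3) and the summability of the theta terms at `τ = i` (THC2),
taken as hypotheses.
-/

set_option autoImplicit false

namespace Cfsg.Agent.Lib.Helper42.TH

open Matrix Complex
open scoped Real
open Cfsg.Agent.Lib.Helper94.TH

/-- the real quadratic form of the real matrix `B.map cast` at an integer vector is `qf B x` -/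
theorem rq_map_cast (B : Matrix (Fin 24) (Fin 24) ℤ) (x : Fin 24 → ℤ) :
    rq (B.map (Int.cast : ℤ → ℝ)) (fun i => (x i : ℝ)) = ((qf B x : ℤ) : ℝ) := by
  simp only [rq, qf, dotProduct, mulVec, Matrix.map_apply]
  push_cast
  rfl

/-- `(B.map cast) *ᵥ (x cast) = (B *ᵥ x) cast` -/
theorem mulVec_map_cast (B : Matrix (Fin 24) (Fin 24) ℤ) (x : Fin 24 → ℤ) (i : Fin 24) :
    ((B.map (Int.cast : ℤ → ℝ)) *ᵥ (fun j => (x j : ℝ))) i = (((B *ᵥ x) i : ℤ) : ℝ) := by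
  simp only [mulVec, dotProduct, Matrix.map_apply]
  push_cast
  rfl

/-- `thetaC B τ = Th (B.map cast) τ 0` -/
theorem thetaC_eq_Th (B : Matrix (Fin 24) (Fin 24) ℤ) (τ : ℂ) :
    thetaC B τ = Th (B.map (Int.cast : ℤ → ℝ)) τ 0 := by
  unfold thetaC Th
  congr 1
  funext x
  unfold ThTerm
  rw [rq_map_cast]
  congr 1
  simp only [Pi.zero_apply, mul_zero, Finset.sum_const_zero, add_zero]
  push_cast
  ring

/-- the equivalence `x ↦ B *ᵥ x` of `ℤ^24` for a unimodular `B` -/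
noncomputable def mulVecEquiv (B : Matrix (Fin 24) (Fin 24) ℤ) (hB : IsUnit B.det) :
    (Fin 24 → ℤ) ≃ (Fin 24 → ℤ) where
  toFun x := B *ᵥ x
  invFun y := B⁻¹ *ᵥ y
  left_inv x := by
    simp only [Matrix.mulVec_mulVec, Matrix.nonsing_inv_mul B hB, Matrix.one_mulVec]
  right_inv y := by
    simp only [Matrix.mulVec_mulVec, Matrix.mul_nonsing_inv B hB, Matrix.one_mulVec]

/-- `ThD 24 (B.map cast) τ 0 = thetaC B (-1/τ)` -/
theorem ThD_eq_thetaC (B : Matrix (Fin 24) (Fin 24) ℤ) (hB : IsUnit B.det)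
    (hdq : ∀ x : Fin 24 → ℝ, dq 24 (B.map (Int.cast : ℤ → ℝ))
      (fun i => (((B.map (Int.cast : ℤ → ℝ)) *ᵥ x) i : ℂ)) = (rq (B.map (Int.cast : ℤ → ℝ)) x : ℂ))
    (τ : ℂ) :
    ThD 24 (B.map (Int.cast : ℤ → ℝ)) τ 0 = thetaC B (-1 / τ) := by
  unfold ThD thetaC
  rw [← (mulVecEquiv B hB).tsum_eq]
  congr 1
  funext x
  unfold ThDTerm
  have h1 : (fun i => (((mulVecEquiv B hB) x) i : ℂ) - (0 : Fin 24 → ℂ) i) =
      (fun i => (((B.map (Int.cast : ℤ → ℝ)) *ᵥ (fun j => (x j : ℝ))) i : ℂ)) := by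
    funext i
    rw [mulVec_map_cast]
    simp [mulVecEquiv]
  rw [h1, hdq, rq_map_cast]
  congr 1
  push_cast
  ring

theorem rt_I : rt I = 1 := by
  unfold rt
  have : (-I * I : ℂ) = 1 := by rw [neg_mul, I_mul_I, neg_neg]
  rw [this, Complex.one_cpow, div_one]

theorem rt_pow (τ : ℂ) : rt τ ^ 24 = 1 / τ ^ 12 := by
  unfold rt
  have h2 : ((-I * τ) ^ (1 / 2 : ℂ)) ^ 2 = -I * τ := by
    have := Complex.cpow_nat_inv_pow (-I * τ) (n := 2) (by norm_num)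
    have h3 : (((2 : ℕ) : ℂ))⁻¹ = (1 / 2 : ℂ) := by norm_num
    rwa [h3] at this
  have h4 : ((-I * τ) ^ (1 / 2 : ℂ)) ^ 24 = τ ^ 12 := by
    have : ((-I * τ) ^ (1 / 2 : ℂ)) ^ 24 = (((-I * τ) ^ (1 / 2 : ℂ)) ^ 2) ^ 12 := by ring
    rw [this, h2, mul_pow]
    have h5 : (-I : ℂ) ^ 12 = 1 := by
      have : (-I : ℂ) ^ 12 = ((I : ℂ) ^ 4) ^ 3 := by ring
      rw [this, I_pow_four, one_pow]
    rw [h5, one_mul]
  rw [div_pow, one_pow, h4]

/-- `thetaC B i` is a positive real number, given the summability of its terms -/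
theorem thetaC_I_ne_zero (B : Matrix (Fin 24) (Fin 24) ℤ)
    (hsum : Summable (fun x : Fin 24 → ℤ => ‖cexp (π * I * I * (qf B x : ℂ))‖)) :
    thetaC B I ≠ 0 := by
  have hterm : ∀ x : Fin 24 → ℤ, cexp (π * I * I * (qf B x : ℂ)) =
      ((Real.exp (-(π * (qf B x : ℝ))) : ℝ) : ℂ) := by
    intro x
    rw [Complex.ofReal_exp]
    congr 1
    have : (π * I * I * (qf B x : ℂ) : ℂ) = -((π : ℂ) * (qf B x : ℂ)) := by
      rw [mul_assoc (π : ℂ) I I, I_mul_I]; ring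
    rw [this]
    push_cast
    rfl
  have hs : Summable (fun x : Fin 24 → ℤ => Real.exp (-(π * (qf B x : ℝ)))) := by
    refine hsum.congr ?_
    intro x
    rw [hterm, Complex.norm_real, Real.norm_of_nonneg (Real.exp_pos _).le]
  have hpos : 0 < ∑' x : Fin 24 → ℤ, Real.exp (-(π * (qf B x : ℝ))) :=
    hs.tsum_pos (fun _ => (Real.exp_pos _).le) 0 (Real.exp_pos _)
  have : thetaC B I = ((∑' x : Fin 24 → ℤ, Real.exp (-(π * (qf B x : ℝ))) : ℝ) : ℂ) := by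
    unfold thetaC
    rw [Complex.ofReal_tsum]
    congr 1
    funext x
    exact hterm x
  rw [this]
  exact_mod_cast hpos.ne'

/-- THB7 with the leaves THB3, THB6 (at `n = 24`, `z = 0`) and THC2 (at `τ = i`) as hypotheses. -/
theorem thetaC_S_of {B : Matrix (Fin 24) (Fin 24) ℤ} (h : Hyp B)
    (hdq : ∀ x : Fin 24 → ℝ, dq 24 (B.map (Int.cast : ℤ → ℝ))
      (fun i => (((B.map (Int.cast : ℤ → ℝ)) *ᵥ x) i : ℂ)) = (rq (B.map (Int.cast : ℤ → ℝ)) x : ℂ))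
    (hInv : ∀ τ : ℂ, 0 < τ.im → Th (B.map (Int.cast : ℤ → ℝ)) τ 0 =
      (cst 24 (B.map (Int.cast : ℤ → ℝ)) : ℂ) * rt τ ^ 24 * ThD 24 (B.map (Int.cast : ℤ → ℝ)) τ 0)
    (hsum : Summable (fun x : Fin 24 → ℤ => ‖cexp (π * I * I * (qf B x : ℂ))‖))
    {τ : ℂ} (hτ : 0 < τ.im) :
    thetaC B (-1 / τ) = τ ^ 12 * thetaC B τ := by
  have hB : IsUnit B.det := by rw [h.det]; exact isUnit_one
  -- the inversion formula in terms of `thetaC`
  have key : ∀ σ : ℂ, 0 < σ.im → thetaC B σ =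
      (cst 24 (B.map (Int.cast : ℤ → ℝ)) : ℂ) * rt σ ^ 24 * thetaC B (-1 / σ) := by
    intro σ hσ
    rw [thetaC_eq_Th, hInv σ hσ, ThD_eq_thetaC B hB hdq]
  -- the constant is `1`
  have hc : (cst 24 (B.map (Int.cast : ℤ → ℝ)) : ℂ) = 1 := by
    have h1 := key I (by simp)
    have h2 : (-1 / I : ℂ) = I := by
      rw [div_eq_iff I_ne_zero, I_mul_I]
    rw [rt_I, one_pow, mul_one, h2] at h1
    have h3 := thetaC_I_ne_zero B hsum
    have h4 : ((cst 24 (B.map (Int.cast : ℤ → ℝ)) : ℂ) - 1) * thetaC B I = 0 := by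
      rw [sub_mul, one_mul, ← h1, sub_self]
    rcases mul_eq_zero.mp h4 with h5 | h5
    · exact sub_eq_zero.mp h5
    · exact absurd h5 h3
  have hτ0 : τ ≠ 0 := by
    rintro rfl
    simp at hτ
  have h1 := key τ hτ
  rw [hc, one_mul, rt_pow] at h1
  rw [h1]
  field_simp

end Cfsg.Agent.Lib.Helper42.TH
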