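import Mathlib
import Cfsg.Agent.Lib.Helper94.THDefs
import Cfsg.Agent.Lib.Helper42.THB7core
import Cfsg.Agent.Lib.Helper85.THB5a
import Cfsg.Agent.Lib.Helper91.THA0
import Cfsg.Agent.Lib.Helper93.THB3

/-!
# K-TH-B7 (keystone 163210): `thetaC_S` with ONLY the theta inversion formula (THB6) left as a hypothesis
(THA0, THB3, THB5a are plugged in; THC2 is not needed).
-/

set_option autoImplicit false

namespace Cfsg.Agent.Lib.Helper42.TH

open Matrix Complex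
open scoped Real
open Cfsg.Agent.Lib.Helper94.TH

/-- the summability of the theta terms (= THC2), from THA0 + THB5a -/
theorem summable_thetaC_of_B5a {B : Matrix (Fin 24) (Fin 24) ℤ} (h : Hyp B) {τ : ℂ}
    (hτ : 0 < τ.im) :
    Summable (fun x : Fin 24 → ℤ => ‖cexp (π * I * τ * (qf B x : ℂ))‖) := by
  have h1 := Cfsg.Agent.Lib.Helper85.TH.summable_ThTerm
    (Cfsg.Agent.Lib.Helper91.TH.isPD_of_hyp h) hτ (0 : Fin 24 → ℂ)
  refine h1.congr ?_
  intro x
  congr 1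
  unfold ThTerm
  rw [rq_map_cast]
  congr 1
  simp only [Pi.zero_apply, mul_zero, Finset.sum_const_zero, add_zero]
  push_cast
  ring

/-- THB7 with only THB6 (at `n = 24`, `z = 0`) as a hypothesis. -/
theorem thetaC_S_of_inv {B : Matrix (Fin 24) (Fin 24) ℤ} (h : Hyp B)
    (hInv : ∀ τ : ℂ, 0 < τ.im → Th (B.map (Int.cast : ℤ → ℝ)) τ 0 =
      (cst 24 (B.map (Int.cast : ℤ → ℝ)) : ℂ) * rt τ ^ 24 * ThD 24 (B.map (Int.cast : ℤ → ℝ)) τ 0)
    {τ : ℂ} (hτ : 0 < τ.im) :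
    thetaC B (-1 / τ) = τ ^ 12 * thetaC B τ :=
  thetaC_S_of h
    (fun x => Cfsg.Agent.Lib.Helper93.TH.dq_mulVec (Cfsg.Agent.Lib.Helper91.TH.isPD_of_hyp h) x)
    hInv (summable_thetaC_of_B5a h (τ := I) (by simp)) hτ

end Cfsg.Agent.Lib.Helper42.TH
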