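import Mathlib
import Cfsg.Prelude.Def_Characters
import Cfsg.Agent.Lib.Helper83.Orthogonality
import Cfsg.Agent.Lib.Helper20.LinExt
import Cfsg.Agent.Lib.Helper84.LinearTwist
import Cfsg.Agent.Lib.Helper04.CharValues

set_option autoImplicit false
set_option linter.style.haveILetI false

/-!
# The dual of the Frattini quotient acting on the irreducible characters by twisting

`Lam G = (G ⧸ frattini G) →* ℂˣ` acts on `Cfsg.IrrCharacter G` by `χ ↦ χ * tw l`;
the stabilizer of `χ` has at most `χ(1)^2` elements.  Also a general divisibility lemma for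
sums of invariant integer functions over a finite set with a group action.
-/

namespace Cfsg.Agent.Lib.Helper42

open Cfsg
open scoped ComplexConjugate

/-- a sum of an invariant integer function is divisible by `n` as soon as each orbit
contribution is. -/
theorem dvd_sum_of_invariant {L X : Type*} [Group L] [Fintype X] [MulAction L X]
    (f : X → ℤ) (hf : ∀ (l : L) (x : X), f (l • x) = f x) (n : ℤ)
    (h : ∀ x, n ∣ ((MulAction.stabilizer L x).index : ℤ) * f x) : n ∣ ∑ x, f x := by
  classical
  letI : Fintype (Quotient (MulAction.orbitRel L X)) := Fintype.ofFinite _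
  rw [← Finset.sum_fiberwise Finset.univ
    (fun x => (Quotient.mk (MulAction.orbitRel L X) x)) f]
  apply Finset.dvd_sum
  intro q _
  obtain ⟨x₀, rfl⟩ := Quotient.exists_rep q
  have hmem : ∀ x, Quotient.mk (MulAction.orbitRel L X) x = Quotient.mk _ x₀ ↔
      x ∈ MulAction.orbit L x₀ := by
    intro x
    rw [Quotient.eq]
    exact MulAction.orbitRel_apply
  have hconst : ∀ x ∈ Finset.univ.filter
      (fun x => Quotient.mk (MulAction.orbitRel L X) x = Quotient.mk _ x₀), f x = f x₀ := by
    intro x hx
    rw [Finset.mem_filter, hmem] at hx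
    obtain ⟨l, rfl⟩ := hx.2
    exact hf l x₀
  rw [Finset.sum_congr rfl hconst, Finset.sum_const, nsmul_eq_mul]
  have hc : (Finset.univ.filter
      (fun x => Quotient.mk (MulAction.orbitRel L X) x = Quotient.mk _ x₀)).card =
      (MulAction.stabilizer L x₀).index := by
    rw [MulAction.index_stabilizer, ← Set.ncard_coe_finset]
    congr 1
    ext x
    simp only [Finset.coe_filter, Finset.mem_univ, true_and, Set.mem_ofPred_eq]
    exact hmem x
  rw [hc]
  exact h x₀

section Twist

universe u
variable {G : Type u} [Group G] [Fintype G]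

/-- The dual group of the Frattini quotient. -/
abbrev Lam (G : Type u) [Group G] := (G ⧸ frattini G) →* ℂˣ

/-- The function on `G` given by a character of the Frattini quotient. -/
noncomputable def tw (l : Lam G) : G → ℂ := fun g => ((l (g : G ⧸ frattini G) : ℂˣ) : ℂ)

omit [Fintype G] in
theorem tw_apply (l : Lam G) (g : G) : tw l g = ((l (g : G ⧸ frattini G) : ℂˣ) : ℂ) := rfl

omit [Fintype G] in
theorem tw_one : tw (1 : Lam G) = 1 := by
  ext g; simp [tw]

omit [Fintype G] in
theorem tw_mul (l m : Lam G) : tw (l * m) = tw l * tw m := by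
  ext g; simp [tw]

omit [Fintype G] in
theorem tw_char (l : Lam G) : IsCharacter G (tw l) ∧ tw l 1 = 1 :=
  Cfsg.Agent.Lib.Helper20.isCharacter_homFun (l.comp (QuotientGroup.mk' (frattini G)))

/-- The twisting action. -/
noncomputable instance twistAction : MulAction (Lam G) (IrrCharacter G) where
  smul l χ := ⟨(χ : G → ℂ) * tw l,
    Cfsg.Agent.Lib.Helper84.isIrrCharacter_mul_linear (tw_char l).1 (tw_char l).2 χ.2⟩
  one_smul χ := by
    apply Subtype.ext
    show (χ : G → ℂ) * tw (1 : Lam G) = χ
    rw [tw_one, mul_one]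
  mul_smul l m χ := by
    apply Subtype.ext
    show (χ : G → ℂ) * tw (l * m) = (χ : G → ℂ) * tw m * tw l
    rw [tw_mul, mul_assoc, mul_comm (tw m)]

theorem smul_coe (l : Lam G) (χ : IrrCharacter G) :
    ((l • χ : IrrCharacter G) : G → ℂ) = (χ : G → ℂ) * tw l := rfl

theorem sum_tw_one : ∑ g : G, tw (1 : Lam G) g = (Fintype.card G : ℂ) := by
  simp [tw_one]

theorem sum_tw_ne (l : Lam G) (h : l ≠ 1) : ∑ g : G, tw l g = 0 := by
  have hne : ((Units.coeHom ℂ).comp (l.comp (QuotientGroup.mk' (frattini G)))) ≠ 1 := by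
    intro h1
    apply h
    ext g
    have := DFunLike.congr_fun h1 g
    simpa using this
  exact sum_hom_units_eq_zero _ hne

theorem card_stabilizer_le [Finite (Lam G)] (χ : IrrCharacter G) (d : ℕ)
    (hd : (χ : G → ℂ) 1 = d) :
    Nat.card (MulAction.stabilizer (Lam G) χ) ≤ d ^ 2 := by
  classical
  letI : Fintype (MulAction.stabilizer (Lam G) χ) := Fintype.ofFinite _
  set s : ℕ := Nat.card (MulAction.stabilizer (Lam G) χ) with hs
  have hs0 : 0 < s := Nat.card_pos
  have hsc : (Finset.univ : Finset (MulAction.stabilizer (Lam G) χ)).card = s := by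
    rw [Finset.card_univ, hs, Nat.card_eq_fintype_card]
  let θ : G → ℂ := fun g => ∑ l : MulAction.stabilizer (Lam G) χ, tw (l : Lam G) g
  have h1 : ∀ g, θ g * (χ : G → ℂ) g = s * (χ : G → ℂ) g := by
    intro g
    simp only [θ, Finset.sum_mul]
    have : ∀ l : MulAction.stabilizer (Lam G) χ,
        tw (l : Lam G) g * (χ : G → ℂ) g = (χ : G → ℂ) g := by
      intro l
      have h := congrArg (fun ψ : IrrCharacter G => (ψ : G → ℂ) g)
        (MulAction.mem_stabilizer_iff.mp l.2)
      simp only [smul_coe, Pi.mul_apply] at h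
      rw [mul_comm]
      exact h
    rw [Finset.sum_congr rfl (fun l _ => this l), Finset.sum_const, hsc, nsmul_eq_mul]
  have h2 : ∀ g, θ g * θ g = s * θ g := by
    intro g
    have : ∀ l : MulAction.stabilizer (Lam G) χ, tw (l : Lam G) g * θ g = θ g := by
      intro l
      simp only [θ]
      rw [Finset.mul_sum]
      exact Fintype.sum_equiv (Equiv.mulLeft l) _ _ (fun m => by
        simp [tw_mul])
    conv_lhs => rw [show θ g * θ g = (∑ l : MulAction.stabilizer (Lam G) χ, tw (l : Lam G) g) * θ g
      from rfl]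
    rw [Finset.sum_mul, Finset.sum_congr rfl (fun l _ => this l), Finset.sum_const, hsc,
      nsmul_eq_mul]
  have h3 : ∑ g, θ g = Fintype.card G := by
    simp only [θ]
    rw [Finset.sum_comm]
    rw [Finset.sum_eq_single (1 : MulAction.stabilizer (Lam G) χ)]
    · exact sum_tw_one
    · intro l _ hl
      apply sum_tw_ne
      intro h
      exact hl (Subtype.ext h)
    · intro h; exact absurd (Finset.mem_univ _) h
  -- the support
  have hsC : (s : ℂ) ≠ 0 := by exact_mod_cast hs0.ne'
  have hθ : ∀ g, θ g = 0 ∨ θ g = s := by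
    intro g
    have : θ g * (θ g - s) = 0 := by linear_combination h2 g
    rcases mul_eq_zero.mp this with h | h
    · exact Or.inl h
    · exact Or.inr (by linear_combination h)
  set K : Finset G := Finset.univ.filter (fun g => θ g ≠ 0) with hK
  have hχ0 : ∀ g, g ∉ K → (χ : G → ℂ) g = 0 := by
    intro g hg
    have hg0 : θ g = 0 := by
      by_contra h
      exact hg (Finset.mem_filter.mpr ⟨Finset.mem_univ _, h⟩)
    have := h1 g
    rw [hg0, zero_mul] at this
    rcases mul_eq_zero.mp this.symm with h | h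
    · exact absurd h hsC
    · exact h
  have hKs : K.card * s = Fintype.card G := by
    have : ((K.card * s : ℕ) : ℂ) = (Fintype.card G : ℂ) := by
      rw [← h3, ← Finset.sum_filter_ne_zero (s := Finset.univ), ← hK]
      rw [Finset.sum_congr rfl (fun g hg => (hθ g).resolve_left (Finset.mem_filter.mp hg).2),
        Finset.sum_const, nsmul_eq_mul]
      push_cast
      rfl
    exact_mod_cast this
  -- inner product
  have hinner := Cfsg.Agent.Lib.Helper83.irr_inner_self χ
  rw [Cfsg.Agent.Lib.Helper83.classInner_def] at hinner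
  have hcard : (Nat.card G : ℂ) ≠ 0 := by exact_mod_cast Nat.card_pos.ne'
  have hsum : ∑ g : G, (χ : G → ℂ) g * conj ((χ : G → ℂ) g) = (Fintype.card G : ℂ) := by
    rw [← Nat.card_eq_fintype_card]
    field_simp at hinner
    exact hinner
  have hsumK : ∑ g ∈ K, (χ : G → ℂ) g * conj ((χ : G → ℂ) g) = (Fintype.card G : ℂ) := by
    rw [← hsum]
    apply Finset.sum_subset (Finset.subset_univ _)
    intro g _ hg
    rw [hχ0 g hg, zero_mul]
  -- norm bound
  have hnorm : ∀ g, ‖(χ : G → ℂ) g‖ ≤ (d : ℝ) := by
    intro g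
    obtain ⟨n, ρ, hirr, hρ⟩ := χ.2
    have h := Cfsg.Agent.Lib.Helper04.norm_char_le ρ g
    have hd' : (Module.finrank ℂ (Fin n → ℂ) : ℂ) = d := by
      rw [← hd, ← hρ]
      simp
    have hd'' : Module.finrank ℂ (Fin n → ℂ) = d := by exact_mod_cast hd'
    rw [hρ, hd''] at h
    exact h
  have hreal : (Fintype.card G : ℝ) = ∑ g ∈ K, ‖(χ : G → ℂ) g‖ ^ 2 := by
    have : ((Fintype.card G : ℝ) : ℂ) = ((∑ g ∈ K, ‖(χ : G → ℂ) g‖ ^ 2 : ℝ) : ℂ) := by
      push_cast
      rw [← hsumK]
      refine Finset.sum_congr rfl fun g _ => ?_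
      rw [Complex.mul_conj']
    exact_mod_cast this
  have hle : (Fintype.card G : ℝ) ≤ K.card * (d : ℝ) ^ 2 := by
    rw [hreal]
    calc ∑ g ∈ K, ‖(χ : G → ℂ) g‖ ^ 2 ≤ ∑ _g ∈ K, (d : ℝ) ^ 2 := by
          apply Finset.sum_le_sum
          intro g _
          exact pow_le_pow_left₀ (norm_nonneg _) (hnorm g) 2
      _ = K.card * (d : ℝ) ^ 2 := by rw [Finset.sum_const, nsmul_eq_mul]
  have hle' : Fintype.card G ≤ K.card * d ^ 2 := by exact_mod_cast hle
  have hKpos : 0 < K.card := by
    rcases Nat.eq_zero_or_pos K.card with h | h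
    · rw [h, zero_mul] at hKs
      exact absurd hKs.symm Fintype.card_pos.ne'
    · exact h
  rw [← hKs] at hle'
  exact Nat.le_of_mul_le_mul_left hle' hKpos

end Twist

end Cfsg.Agent.Lib.Helper42
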