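import Cfsg.Agent.Lib.Helper43.UFBasic

set_option autoImplicit false
set_option linter.unusedSimpArgs false
set_option linter.unusedVariables false
set_option linter.unusedSectionVars false

/-! K-UF-F (570013) for S5700 (architect helper43): one full Siegel group centred at a non-zero
singular vector, together with the centraliser of `J` in `Ω`, generates `Ω`. -/

namespace Cfsg.Agent.Lib.Helper42.UF

open Module Matrix Cfsg.Agent.Lib.Helper19 Cfsg.Agent.Lib.Helper43 Cfsg.Agent.Lib.Helper43.UF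

variable {F : Type*} [Field F] [Fintype F] {ι : Type} [Fintype ι] [DecidableEq ι]
variable {Q : QuadraticForm F (ι → F)}
variable (hQ : (QuadraticMap.polarBilin Q).Nondegenerate) (hn : 7 ≤ Fintype.card ι)

local notation "ℬ" => QuadraticMap.polarBilin Q

/-- K-UF-F (570013). -/
theorem eq_top_of_siegIn (U : UData Q) (M : Subgroup ↥(Cfsg.Omega F ⇑Q))
    (hH : ∀ k : ↥(Cfsg.Omega F ⇑Q), (∀ x, lo Q k (U.J x) = U.J (lo Q k x)) → k ∈ M)
    (a : ι → F) (ha0 : a ≠ 0) (h : SiegIn Q hQ hn M a) : M = ⊤ := by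
  have ha : Q a = 0 := h.1
  obtain ⟨c, hc, hac⟩ := AutOm.exists_partner Q hQ hn a ha0 ha
  have hn' : 7 ≤ finrank F (ι → F) := by
    rw [Module.finrank_fintype_fun_eq_card]
    exact hn
  obtain ⟨y, hy1, hy2, hyQ⟩ := exists_orth_value Q hQ hn' c (U.J c) 1
  have hcy : U.HOrth c y := ⟨hy1, hy2⟩
  have hk : eich U hQ hn c y ∈ M := hH _ (eich_comm hQ hn U c y hc hcy)
  have hconj : SiegIn Q hQ hn M (lo Q (eich U hQ hn c y) a) := h.conj _ hk
  refine eq_top_of_SiegIn_pair M a (lo Q (eich U hQ hn c y) a) h hconj ?_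
  rw [lo_eich hQ hn U c y hc hcy a]
  simp only [map_add, map_sub, map_smul, smul_eq_mul]
  rw [polar_self', ha, hac, hyQ]
  have hnf := U.normForm_ne_zero (ℬ a (U.J c)) 1 (by
    rintro ⟨_, h1⟩
    exact one_ne_zero h1)
  intro h0
  apply hnf
  linear_combination (-1 : F) * h0
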